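import Cfsg.Agent.SimpleFacts.SubfieldOvergroup.Assemble
import Cfsg.Agent.Lib.Chevalley.Types.CoefB2

/-!
Subgroups containing a subfield subgroup, type B2: the checks and their consequences.
-/

set_option autoImplicit false

namespace Cfsg.Agent.SimpleFacts.SubfieldOvergroup.DataB2

open Cfsg.Lie Cfsg.Agent.Chevalley.Table Cfsg.Agent.Chevalley.Check Cfsg.Agent.Chevalley.Cert
  Cfsg.Agent.Chevalley.Eval Cfsg.Agent.Chevalley.Perfect Cfsg.Agent.Chevalley.Group
  Cfsg.Agent.SimpleFacts.ChevalleyRadical

/-- The table. -/
noncomputable abbrev tb : Tab := Cfsg.Agent.Chevalley.Data.B2.tab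

/-- The orbit of the highest root. -/
def orb : List ℕ :=
  [0, 3, 4, 7]

/-- The steps of the peeling, case two. -/
def steps_two : List (ℕ × ℕ × ℕ) :=
  [(4, 5, 6), (5, 4, 6)]

theorem peel_two : peelChk (cls 2) tb [6, 7] steps_two = true := by decide +kernel
theorem centralH_two : centralChk (cls 2) tb [7] = true := by decide +kernel
theorem central_two : centralChk (cls 2) tb [6, 7] = true := by decide +kernel

/-- The steps of the peeling, case three. -/
def steps_three : List (ℕ × ℕ × ℕ) :=
  [(4, 5, 6), (5, 4, 6), (6, 5, 7)]

theorem peel_three : peelChk (cls 3) tb [7] steps_three = true := by decide +kernel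
theorem centralH_three : centralChk (cls 3) tb [7] = true := by decide +kernel
theorem pos_three : posChk (cls 3) tb 7 orb = true := by decide +kernel
theorem even_three : evenChk (cls 3) tb 7 = true := by decide +kernel
theorem opp_three : oppChk (cls 3) tb 7 6 2 true = true := by decide +kernel

/-- The steps of the peeling, case big. -/
def steps_big : List (ℕ × ℕ × ℕ) :=
  [(4, 5, 6), (5, 4, 6), (6, 5, 7)]

theorem peel_big : peelChk clsBig tb [7] steps_big = true := by decide +kernel
theorem centralH_big : centralChk clsBig tb [7] = true := by decide +kernel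
theorem pos_big : posChk clsBig tb 7 orb = true := by decide +kernel
theorem even_big : evenChk clsBig tb 7 = true := by decide +kernel
theorem opp_big : oppChk clsBig tb 7 6 2 true = true := by decide +kernel

theorem orbit_ok : orbitChk tb 7 orb = true := by decide +kernel
theorem dom_ok : domChk tb [7, 6] = true := by decide +kernel
theorem step_ok : stepChk tb = true := by decide +kernel
theorem two_ok : twoOrbitChk tb 7 6 orb = true := by decide +kernel

variable {F : Type*} [Field F] (p : ℕ) [Fact p.Prime] [CharP F p] (σ : F →+* F)

include p in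
/-- **Both facts.** -/
theorem good (hk : Set.Finite {t : F | σ t = t}) :
    AllFixed Cfsg.Agent.Chevalley.Types.B2.certified σ ∧
      ParamFld Cfsg.Agent.Chevalley.Types.B2.certified σ := by
  have hC := Cfsg.Agent.Chevalley.Types.B2.certified
  have hcent : UFixed hC σ → CentFixed hC σ p := fun hA =>
    centFixed_of p hC σ Cfsg.Agent.Chevalley.Types.CoefB2.coef_ok step_ok hA (by simp) hk
  rcases eq_or_ne p 2 with rfl | hp2
  · have hc : (cls 2).Sound F := cls_sound 2
    have hst : Stuck hC σ [6, 7] := stuck_pair hC σ hc centralH_two (fun z => cls_two_unit) central_two (a := 4) (b := 5)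
      (by decide +kernel) (L₁ := [1]) (L₂ := [0]) (by decide +kernel) (by decide +kernel) (by decide +kernel) (by decide +kernel)
      (by decide +kernel) (by decide +kernel)
    have hA : UFixed hC σ := uFixed hC σ hc central_two peel_two hst
    exact ⟨allFixed_even hC σ (hcent hA) (hasTau_short hC σ hc centralH_two orbit_ok (s := 6) (by decide +kernel)
      (by decide +kernel) (by decide +kernel) dom_ok),
      paramFld_pair hC σ hc centralH_two two_ok (fun z => cls_two_unit) central_two
      (a := 4) (b := 5) (by decide +kernel) (L₁ := [1]) (L₂ := [0]) (by decide +kernel) (by decide +kernel)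
      (by decide +kernel) (by decide +kernel) (by decide +kernel) (by decide +kernel)⟩
  have hne : (2 : F) ≠ 0 := fun h => hp2 ((Nat.prime_dvd_prime_iff_eq Fact.out Nat.prime_two).1
    ((CharP.cast_eq_zero_iff F p 2).1 (by exact_mod_cast h)))
  rcases eq_or_ne p 3 with rfl | hp3
  · have hc : (cls 3).Sound F := cls_sound 3
    have hst : Stuck hC σ [7] := stuck_sep hC σ hc centralH_three (d := 5) (e := 4)
      (by decide +kernel) hne
    have hA : UFixed hC σ := uFixed hC σ hc centralH_three peel_three hst
    exact ⟨allFixed_odd hC σ hc centralH_three orbit_ok 3 hp2 hA (hcent hA) pos_three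
      even_three opp_three dom_ok (by decide +kernel),
      paramFld_sep hC σ two_ok (by decide +kernel) 3 hc hne
      (a := 4) (b := 5) (e := 4) (k := 6) (a' := 1) (b' := 2) (k' := 0) (by decide +kernel) (by decide +kernel)
      (by decide +kernel) (by decide +kernel) (by decide +kernel) (by decide +kernel) (by decide +kernel)
      (by decide +kernel) (by decide +kernel)⟩
  · have hc : clsBig.Sound F := clsBig_sound p hp2 hp3
    have hst : Stuck hC σ [7] := stuck_sep hC σ hc centralH_big (d := 5) (e := 4)
      (by decide +kernel) hne
    have hA : UFixed hC σ := uFixed hC σ hc centralH_big peel_big hst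
    exact ⟨allFixed_odd hC σ hc centralH_big orbit_ok p hp2 hA (hcent hA) pos_big
      even_big opp_big dom_ok (by decide +kernel),
      paramFld_sep hC σ two_ok (by decide +kernel) p hc hne
      (a := 4) (b := 5) (e := 4) (k := 6) (a' := 1) (b' := 2) (k' := 0) (by decide +kernel) (by decide +kernel)
      (by decide +kernel) (by decide +kernel) (by decide +kernel) (by decide +kernel) (by decide +kernel)
      (by decide +kernel) (by decide +kernel)⟩

end Cfsg.Agent.SimpleFacts.SubfieldOvergroup.DataB2
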