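import Cfsg.Agent.SimpleFacts.SubfieldOvergroup.Assemble
import Cfsg.Agent.Lib.Chevalley.Types.CoefD4

/-!
Subgroups containing a subfield subgroup, type D4: the checks and their consequences.
-/

set_option autoImplicit false

namespace Cfsg.Agent.SimpleFacts.SubfieldOvergroup.DataD4

open Cfsg.Lie Cfsg.Agent.Chevalley.Table Cfsg.Agent.Chevalley.Check Cfsg.Agent.Chevalley.Cert
  Cfsg.Agent.Chevalley.Eval Cfsg.Agent.Chevalley.Perfect Cfsg.Agent.Chevalley.Group
  Cfsg.Agent.SimpleFacts.ChevalleyRadical

/-- The table. -/
noncomputable abbrev tb : Tab := Cfsg.Agent.Chevalley.Data.D4.tab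

/-- The orbit of the highest root. -/
def orb : List ℕ :=
  [0, 1, 2, 3, 4, 5, 6, 7, 8, 9, 10, 11, 12, 13, 14, 15, 16, 17, 18, 19, 20, 21, 22, 23]

/-- The steps of the peeling, case two. -/
def steps_two : List (ℕ × ℕ × ℕ) :=
  [(12, 14, 15), (13, 14, 16), (14, 18, 19), (15, 18, 20), (16, 18, 21), (17, 18, 22),
   (18, 14, 19), (19, 13, 21), (20, 13, 22), (21, 12, 22), (22, 14, 23)]

theorem peel_two : peelChk (cls 2) tb [23] steps_two = true := by decide +kernel
theorem centralH_two : centralChk (cls 2) tb [23] = true := by decide +kernel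

/-- The steps of the peeling, case three. -/
def steps_three : List (ℕ × ℕ × ℕ) :=
  [(12, 14, 15), (13, 14, 16), (14, 18, 19), (15, 18, 20), (16, 18, 21), (17, 18, 22),
   (18, 14, 19), (19, 13, 21), (20, 13, 22), (21, 12, 22), (22, 14, 23)]

theorem peel_three : peelChk (cls 3) tb [23] steps_three = true := by decide +kernel
theorem centralH_three : centralChk (cls 3) tb [23] = true := by decide +kernel
theorem pos_three : posChk (cls 3) tb 23 orb = true := by decide +kernel
theorem even_three : evenChk (cls 3) tb 23 = true := by decide +kernel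
theorem opp_three : oppChk (cls 3) tb 23 14 1 false = true := by decide +kernel

/-- The steps of the peeling, case big. -/
def steps_big : List (ℕ × ℕ × ℕ) :=
  [(12, 14, 15), (13, 14, 16), (14, 18, 19), (15, 18, 20), (16, 18, 21), (17, 18, 22),
   (18, 14, 19), (19, 13, 21), (20, 13, 22), (21, 12, 22), (22, 14, 23)]

theorem peel_big : peelChk clsBig tb [23] steps_big = true := by decide +kernel
theorem centralH_big : centralChk clsBig tb [23] = true := by decide +kernel
theorem pos_big : posChk clsBig tb 23 orb = true := by decide +kernel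
theorem even_big : evenChk clsBig tb 23 = true := by decide +kernel
theorem opp_big : oppChk clsBig tb 23 14 1 false = true := by decide +kernel

theorem orbit_ok : orbitChk tb 23 orb = true := by decide +kernel
theorem dom_ok : domChk tb [23] = true := by decide +kernel
theorem step_ok : stepChk tb = true := by decide +kernel
theorem orth_ok : orthChk tb 2 0 = true := by decide +kernel

variable {F : Type*} [Field F] (p : ℕ) [Fact p.Prime] [CharP F p] (σ : F →+* F)

include p in
/-- **Both facts.** -/
theorem good (hk : Set.Finite {t : F | σ t = t}) :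
    AllFixed Cfsg.Agent.Chevalley.Types.D4.certified σ ∧
      ParamFld Cfsg.Agent.Chevalley.Types.D4.certified σ := by
  have hC := Cfsg.Agent.Chevalley.Types.D4.certified
  have hcent : UFixed hC σ → CentFixed hC σ p := fun hA =>
    centFixed_of p hC σ Cfsg.Agent.Chevalley.Types.CoefD4.coef_ok step_ok hA (by simp) hk
  rcases eq_or_ne p 2 with rfl | hp2
  · have hc : (cls 2).Sound F := cls_sound 2
    have hst : Stuck hC σ [23] := stuck_single hC σ hc centralH_two (d := 14)
      (by decide +kernel)
    have hA : UFixed hC σ := uFixed hC σ hc centralH_two peel_two hst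
    exact ⟨allFixed_even hC σ (hcent hA) (hasTau_pair hC σ hc centralH_two orbit_ok orth_ok dom_ok),
      paramFld_one hC σ 2 hc (h := 23) (a := 0) (b := 14) (k := 1)
      (by decide +kernel) dom_ok (by decide +kernel) (by decide +kernel)⟩
  have hne : (2 : F) ≠ 0 := fun h => hp2 ((Nat.prime_dvd_prime_iff_eq Fact.out Nat.prime_two).1
    ((CharP.cast_eq_zero_iff F p 2).1 (by exact_mod_cast h)))
  rcases eq_or_ne p 3 with rfl | hp3
  · have hc : (cls 3).Sound F := cls_sound 3
    have hst : Stuck hC σ [23] := stuck_single hC σ hc centralH_three (d := 14)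
      (by decide +kernel)
    have hA : UFixed hC σ := uFixed hC σ hc centralH_three peel_three hst
    exact ⟨allFixed_odd hC σ hc centralH_three orbit_ok 3 hp2 hA (hcent hA) pos_three
      even_three opp_three dom_ok (by decide +kernel),
      paramFld_one hC σ 3 hc (h := 23) (a := 0) (b := 14) (k := 1)
      (by decide +kernel) dom_ok (by decide +kernel) (by decide +kernel)⟩
  · have hc : clsBig.Sound F := clsBig_sound p hp2 hp3
    have hst : Stuck hC σ [23] := stuck_single hC σ hc centralH_big (d := 14)
      (by decide +kernel)
    have hA : UFixed hC σ := uFixed hC σ hc centralH_big peel_big hst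
    exact ⟨allFixed_odd hC σ hc centralH_big orbit_ok p hp2 hA (hcent hA) pos_big
      even_big opp_big dom_ok (by decide +kernel),
      paramFld_one hC σ p hc (h := 23) (a := 0) (b := 14) (k := 1)
      (by decide +kernel) dom_ok (by decide +kernel) (by decide +kernel)⟩

end Cfsg.Agent.SimpleFacts.SubfieldOvergroup.DataD4
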