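import Cfsg.Agent.SimpleFacts.SubfieldOvergroup.Assemble
import Cfsg.Agent.Lib.Chevalley.Types.CoefE6

/-!
Subgroups containing a subfield subgroup, type E6: the checks and their consequences.
-/

set_option autoImplicit false

namespace Cfsg.Agent.SimpleFacts.SubfieldOvergroup.DataE6

open Cfsg.Lie Cfsg.Agent.Chevalley.Table Cfsg.Agent.Chevalley.Check Cfsg.Agent.Chevalley.Cert
  Cfsg.Agent.Chevalley.Eval Cfsg.Agent.Chevalley.Perfect Cfsg.Agent.Chevalley.Group
  Cfsg.Agent.SimpleFacts.ChevalleyRadical

/-- The table. -/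
noncomputable abbrev tb : Tab := Cfsg.Agent.Chevalley.Data.E6.tab

/-- The orbit of the highest root. -/
def orb : List ℕ :=
  [0, 1, 2, 3, 4, 5, 6, 7, 8, 9, 10, 11, 12, 13, 14, 15, 16, 17, 18, 19, 20, 21, 22, 23, 24, 25,
   26, 27, 28, 29, 30, 31, 32, 33, 34, 35, 36, 37, 38, 39, 40, 41, 42, 43, 44, 45, 46, 47, 48, 49,
   50, 51, 52, 53, 54, 55, 56, 57, 58, 59, 60, 61, 62, 63, 64, 65, 66, 67, 68, 69, 70, 71]

/-- The steps of the peeling, case two. -/
def steps_two : List (ℕ × ℕ × ℕ) :=
  [(36, 37, 38), (37, 39, 40), (38, 39, 41), (39, 46, 47), (40, 46, 48), (41, 46, 49),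
   (42, 56, 57), (43, 56, 58), (44, 56, 59), (45, 56, 60), (46, 39, 47), (47, 42, 50),
   (48, 42, 51), (49, 42, 52), (50, 56, 61), (51, 56, 62), (52, 56, 63), (53, 56, 64),
   (54, 56, 65), (55, 56, 66), (56, 42, 57), (57, 39, 58), (58, 46, 61), (59, 46, 62),
   (60, 46, 63), (61, 37, 62), (62, 39, 64), (63, 39, 65), (64, 42, 67), (65, 42, 68),
   (66, 42, 69), (67, 36, 68), (68, 37, 69), (69, 39, 70), (70, 46, 71)]

theorem peel_two : peelChk (cls 2) tb [71] steps_two = true := by decide +kernel
theorem centralH_two : centralChk (cls 2) tb [71] = true := by decide +kernel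

/-- The steps of the peeling, case three. -/
def steps_three : List (ℕ × ℕ × ℕ) :=
  [(36, 37, 38), (37, 39, 40), (38, 39, 41), (39, 46, 47), (40, 46, 48), (41, 46, 49),
   (42, 56, 57), (43, 56, 58), (44, 56, 59), (45, 56, 60), (46, 39, 47), (47, 42, 50),
   (48, 42, 51), (49, 42, 52), (50, 56, 61), (51, 56, 62), (52, 56, 63), (53, 56, 64),
   (54, 56, 65), (55, 56, 66), (56, 42, 57), (57, 39, 58), (58, 46, 61), (59, 46, 62),
   (60, 46, 63), (61, 37, 62), (62, 39, 64), (63, 39, 65), (64, 42, 67), (65, 42, 68),
   (66, 42, 69), (67, 36, 68), (68, 37, 69), (69, 39, 70), (70, 46, 71)]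

theorem peel_three : peelChk (cls 3) tb [71] steps_three = true := by decide +kernel
theorem centralH_three : centralChk (cls 3) tb [71] = true := by decide +kernel
theorem pos_three : posChk (cls 3) tb 71 orb = true := by decide +kernel
theorem even_three : evenChk (cls 3) tb 71 = true := by decide +kernel
theorem opp_three : oppChk (cls 3) tb 71 46 1 false = true := by decide +kernel

/-- The steps of the peeling, case big. -/
def steps_big : List (ℕ × ℕ × ℕ) :=
  [(36, 37, 38), (37, 39, 40), (38, 39, 41), (39, 46, 47), (40, 46, 48), (41, 46, 49),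
   (42, 56, 57), (43, 56, 58), (44, 56, 59), (45, 56, 60), (46, 39, 47), (47, 42, 50),
   (48, 42, 51), (49, 42, 52), (50, 56, 61), (51, 56, 62), (52, 56, 63), (53, 56, 64),
   (54, 56, 65), (55, 56, 66), (56, 42, 57), (57, 39, 58), (58, 46, 61), (59, 46, 62),
   (60, 46, 63), (61, 37, 62), (62, 39, 64), (63, 39, 65), (64, 42, 67), (65, 42, 68),
   (66, 42, 69), (67, 36, 68), (68, 37, 69), (69, 39, 70), (70, 46, 71)]

theorem peel_big : peelChk clsBig tb [71] steps_big = true := by decide +kernel
theorem centralH_big : centralChk clsBig tb [71] = true := by decide +kernel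
theorem pos_big : posChk clsBig tb 71 orb = true := by decide +kernel
theorem even_big : evenChk clsBig tb 71 = true := by decide +kernel
theorem opp_big : oppChk clsBig tb 71 46 1 false = true := by decide +kernel

theorem orbit_ok : orbitChk tb 71 orb = true := by decide +kernel
theorem dom_ok : domChk tb [71] = true := by decide +kernel
theorem step_ok : stepChk tb = true := by decide +kernel
theorem orth_ok : orthChk tb 1 0 = true := by decide +kernel

variable {F : Type*} [Field F] (p : ℕ) [Fact p.Prime] [CharP F p] (σ : F →+* F)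

include p in
/-- **Both facts.** -/
theorem good (hk : Set.Finite {t : F | σ t = t}) :
    AllFixed Cfsg.Agent.Chevalley.Types.E6.certified σ ∧
      ParamFld Cfsg.Agent.Chevalley.Types.E6.certified σ := by
  have hC := Cfsg.Agent.Chevalley.Types.E6.certified
  have hcent : UFixed hC σ → CentFixed hC σ p := fun hA =>
    centFixed_of p hC σ Cfsg.Agent.Chevalley.Types.CoefE6.coef_ok step_ok hA (by simp) hk
  rcases eq_or_ne p 2 with rfl | hp2
  · have hc : (cls 2).Sound F := cls_sound 2
    have hst : Stuck hC σ [71] := stuck_single hC σ hc centralH_two (d := 46)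
      (by decide +kernel)
    have hA : UFixed hC σ := uFixed hC σ hc centralH_two peel_two hst
    exact ⟨allFixed_even hC σ (hcent hA) (hasTau_pair hC σ hc centralH_two orbit_ok orth_ok dom_ok),
      paramFld_one hC σ 2 hc (h := 71) (a := 0) (b := 46) (k := 1)
      (by decide +kernel) dom_ok (by decide +kernel) (by decide +kernel)⟩
  have hne : (2 : F) ≠ 0 := fun h => hp2 ((Nat.prime_dvd_prime_iff_eq Fact.out Nat.prime_two).1
    ((CharP.cast_eq_zero_iff F p 2).1 (by exact_mod_cast h)))
  rcases eq_or_ne p 3 with rfl | hp3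
  · have hc : (cls 3).Sound F := cls_sound 3
    have hst : Stuck hC σ [71] := stuck_single hC σ hc centralH_three (d := 46)
      (by decide +kernel)
    have hA : UFixed hC σ := uFixed hC σ hc centralH_three peel_three hst
    exact ⟨allFixed_odd hC σ hc centralH_three orbit_ok 3 hp2 hA (hcent hA) pos_three
      even_three opp_three dom_ok (by decide +kernel),
      paramFld_one hC σ 3 hc (h := 71) (a := 0) (b := 46) (k := 1)
      (by decide +kernel) dom_ok (by decide +kernel) (by decide +kernel)⟩
  · have hc : clsBig.Sound F := clsBig_sound p hp2 hp3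
    have hst : Stuck hC σ [71] := stuck_single hC σ hc centralH_big (d := 46)
      (by decide +kernel)
    have hA : UFixed hC σ := uFixed hC σ hc centralH_big peel_big hst
    exact ⟨allFixed_odd hC σ hc centralH_big orbit_ok p hp2 hA (hcent hA) pos_big
      even_big opp_big dom_ok (by decide +kernel),
      paramFld_one hC σ p hc (h := 71) (a := 0) (b := 46) (k := 1)
      (by decide +kernel) dom_ok (by decide +kernel) (by decide +kernel)⟩

end Cfsg.Agent.SimpleFacts.SubfieldOvergroup.DataE6
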