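import Cfsg.Agent.SimpleFacts.SubfieldOvergroup.Assemble
import Cfsg.Agent.Lib.Chevalley.Types.CoefE7

/-!
Subgroups containing a subfield subgroup, type E7: the checks and their consequences.
-/

set_option autoImplicit false

namespace Cfsg.Agent.SimpleFacts.SubfieldOvergroup.DataE7

open Cfsg.Lie Cfsg.Agent.Chevalley.Table Cfsg.Agent.Chevalley.Check Cfsg.Agent.Chevalley.Cert
  Cfsg.Agent.Chevalley.Eval Cfsg.Agent.Chevalley.Perfect Cfsg.Agent.Chevalley.Group
  Cfsg.Agent.SimpleFacts.ChevalleyRadical

/-- The table. -/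
noncomputable abbrev tb : Tab := Cfsg.Agent.Chevalley.Data.E7.tab

/-- The orbit of the highest root. -/
def orb : List ℕ :=
  [0, 1, 2, 3, 4, 5, 6, 7, 8, 9, 10, 11, 12, 13, 14, 15, 16, 17, 18, 19, 20, 21, 22, 23, 24, 25,
   26, 27, 28, 29, 30, 31, 32, 33, 34, 35, 36, 37, 38, 39, 40, 41, 42, 43, 44, 45, 46, 47, 48, 49,
   50, 51, 52, 53, 54, 55, 56, 57, 58, 59, 60, 61, 62, 63, 64, 65, 66, 67, 68, 69, 70, 71, 72, 73,
   74, 75, 76, 77, 78, 79, 80, 81, 82, 83, 84, 85, 86, 87, 88, 89, 90, 91, 92, 93, 94, 95, 96, 97,
   98, 99, 100, 101, 102, 103, 104, 105, 106, 107, 108, 109, 110, 111, 112, 113, 114, 115, 116,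
   117, 118, 119, 120, 121, 122, 123, 124, 125]

/-- The steps of the peeling, case two. -/
def steps_two : List (ℕ × ℕ × ℕ) :=
  [(63, 64, 65), (64, 66, 67), (65, 66, 68), (66, 69, 70), (67, 69, 71), (68, 69, 72),
   (69, 78, 79), (70, 78, 80), (71, 78, 81), (72, 78, 82), (73, 93, 94), (74, 93, 95),
   (75, 93, 96), (76, 93, 97), (77, 93, 98), (78, 69, 79), (79, 73, 83), (80, 73, 84),
   (81, 73, 85), (82, 73, 86), (83, 93, 99), (84, 93, 100), (85, 93, 101), (86, 93, 102),
   (87, 93, 103), (88, 93, 104), (89, 93, 105), (90, 93, 106), (91, 93, 107), (92, 93, 108),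
   (93, 73, 94), (94, 69, 95), (95, 78, 99), (96, 78, 100), (97, 78, 101), (98, 78, 102),
   (99, 66, 100), (100, 69, 103), (101, 69, 104), (102, 69, 105), (103, 73, 109), (104, 73, 110),
   (105, 73, 111), (106, 73, 112), (107, 73, 113), (108, 73, 114), (109, 64, 110), (110, 66, 112),
   (111, 66, 113), (112, 69, 115), (113, 69, 116), (114, 69, 117), (115, 78, 119), (116, 78, 120),
   (117, 78, 121), (118, 78, 122), (119, 63, 120), (120, 64, 121), (121, 66, 122), (122, 69, 123),
   (123, 73, 124), (124, 93, 125)]

theorem peel_two : peelChk (cls 2) tb [125] steps_two = true := by decide +kernel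
theorem centralH_two : centralChk (cls 2) tb [125] = true := by decide +kernel

/-- The steps of the peeling, case three. -/
def steps_three : List (ℕ × ℕ × ℕ) :=
  [(63, 64, 65), (64, 66, 67), (65, 66, 68), (66, 69, 70), (67, 69, 71), (68, 69, 72),
   (69, 78, 79), (70, 78, 80), (71, 78, 81), (72, 78, 82), (73, 93, 94), (74, 93, 95),
   (75, 93, 96), (76, 93, 97), (77, 93, 98), (78, 69, 79), (79, 73, 83), (80, 73, 84),
   (81, 73, 85), (82, 73, 86), (83, 93, 99), (84, 93, 100), (85, 93, 101), (86, 93, 102),
   (87, 93, 103), (88, 93, 104), (89, 93, 105), (90, 93, 106), (91, 93, 107), (92, 93, 108),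
   (93, 73, 94), (94, 69, 95), (95, 78, 99), (96, 78, 100), (97, 78, 101), (98, 78, 102),
   (99, 66, 100), (100, 69, 103), (101, 69, 104), (102, 69, 105), (103, 73, 109), (104, 73, 110),
   (105, 73, 111), (106, 73, 112), (107, 73, 113), (108, 73, 114), (109, 64, 110), (110, 66, 112),
   (111, 66, 113), (112, 69, 115), (113, 69, 116), (114, 69, 117), (115, 78, 119), (116, 78, 120),
   (117, 78, 121), (118, 78, 122), (119, 63, 120), (120, 64, 121), (121, 66, 122), (122, 69, 123),
   (123, 73, 124), (124, 93, 125)]

theorem peel_three : peelChk (cls 3) tb [125] steps_three = true := by decide +kernel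
theorem centralH_three : centralChk (cls 3) tb [125] = true := by decide +kernel
theorem pos_three : posChk (cls 3) tb 125 orb = true := by decide +kernel
theorem even_three : evenChk (cls 3) tb 125 = true := by decide +kernel
theorem opp_three : oppChk (cls 3) tb 125 93 1 false = true := by decide +kernel

/-- The steps of the peeling, case big. -/
def steps_big : List (ℕ × ℕ × ℕ) :=
  [(63, 64, 65), (64, 66, 67), (65, 66, 68), (66, 69, 70), (67, 69, 71), (68, 69, 72),
   (69, 78, 79), (70, 78, 80), (71, 78, 81), (72, 78, 82), (73, 93, 94), (74, 93, 95),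
   (75, 93, 96), (76, 93, 97), (77, 93, 98), (78, 69, 79), (79, 73, 83), (80, 73, 84),
   (81, 73, 85), (82, 73, 86), (83, 93, 99), (84, 93, 100), (85, 93, 101), (86, 93, 102),
   (87, 93, 103), (88, 93, 104), (89, 93, 105), (90, 93, 106), (91, 93, 107), (92, 93, 108),
   (93, 73, 94), (94, 69, 95), (95, 78, 99), (96, 78, 100), (97, 78, 101), (98, 78, 102),
   (99, 66, 100), (100, 69, 103), (101, 69, 104), (102, 69, 105), (103, 73, 109), (104, 73, 110),
   (105, 73, 111), (106, 73, 112), (107, 73, 113), (108, 73, 114), (109, 64, 110), (110, 66, 112),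
   (111, 66, 113), (112, 69, 115), (113, 69, 116), (114, 69, 117), (115, 78, 119), (116, 78, 120),
   (117, 78, 121), (118, 78, 122), (119, 63, 120), (120, 64, 121), (121, 66, 122), (122, 69, 123),
   (123, 73, 124), (124, 93, 125)]

theorem peel_big : peelChk clsBig tb [125] steps_big = true := by decide +kernel
theorem centralH_big : centralChk clsBig tb [125] = true := by decide +kernel
theorem pos_big : posChk clsBig tb 125 orb = true := by decide +kernel
theorem even_big : evenChk clsBig tb 125 = true := by decide +kernel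
theorem opp_big : oppChk clsBig tb 125 93 1 false = true := by decide +kernel

theorem orbit_ok : orbitChk tb 125 orb = true := by decide +kernel
theorem dom_ok : domChk tb [125] = true := by decide +kernel
theorem step_ok : stepChk tb = true := by decide +kernel
theorem orth_ok : orthChk tb 1 0 = true := by decide +kernel

variable {F : Type*} [Field F] (p : ℕ) [Fact p.Prime] [CharP F p] (σ : F →+* F)

include p in
/-- **Both facts.** -/
theorem good (hk : Set.Finite {t : F | σ t = t}) :
    AllFixed Cfsg.Agent.Chevalley.Types.E7.certified σ ∧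
      ParamFld Cfsg.Agent.Chevalley.Types.E7.certified σ := by
  have hC := Cfsg.Agent.Chevalley.Types.E7.certified
  have hcent : UFixed hC σ → CentFixed hC σ p := fun hA =>
    centFixed_of p hC σ Cfsg.Agent.Chevalley.Types.CoefE7.coef_ok step_ok hA (by simp) hk
  rcases eq_or_ne p 2 with rfl | hp2
  · have hc : (cls 2).Sound F := cls_sound 2
    have hst : Stuck hC σ [125] := stuck_single hC σ hc centralH_two (d := 93)
      (by decide +kernel)
    have hA : UFixed hC σ := uFixed hC σ hc centralH_two peel_two hst
    exact ⟨allFixed_even hC σ (hcent hA) (hasTau_pair hC σ hc centralH_two orbit_ok orth_ok dom_ok),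
      paramFld_one hC σ 2 hc (h := 125) (a := 0) (b := 93) (k := 1)
      (by decide +kernel) dom_ok (by decide +kernel) (by decide +kernel)⟩
  have hne : (2 : F) ≠ 0 := fun h => hp2 ((Nat.prime_dvd_prime_iff_eq Fact.out Nat.prime_two).1
    ((CharP.cast_eq_zero_iff F p 2).1 (by exact_mod_cast h)))
  rcases eq_or_ne p 3 with rfl | hp3
  · have hc : (cls 3).Sound F := cls_sound 3
    have hst : Stuck hC σ [125] := stuck_single hC σ hc centralH_three (d := 93)
      (by decide +kernel)
    have hA : UFixed hC σ := uFixed hC σ hc centralH_three peel_three hst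
    exact ⟨allFixed_odd hC σ hc centralH_three orbit_ok 3 hp2 hA (hcent hA) pos_three
      even_three opp_three dom_ok (by decide +kernel),
      paramFld_one hC σ 3 hc (h := 125) (a := 0) (b := 93) (k := 1)
      (by decide +kernel) dom_ok (by decide +kernel) (by decide +kernel)⟩
  · have hc : clsBig.Sound F := clsBig_sound p hp2 hp3
    have hst : Stuck hC σ [125] := stuck_single hC σ hc centralH_big (d := 93)
      (by decide +kernel)
    have hA : UFixed hC σ := uFixed hC σ hc centralH_big peel_big hst
    exact ⟨allFixed_odd hC σ hc centralH_big orbit_ok p hp2 hA (hcent hA) pos_big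
      even_big opp_big dom_ok (by decide +kernel),
      paramFld_one hC σ p hc (h := 125) (a := 0) (b := 93) (k := 1)
      (by decide +kernel) dom_ok (by decide +kernel) (by decide +kernel)⟩

end Cfsg.Agent.SimpleFacts.SubfieldOvergroup.DataE7
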