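import Cfsg.Agent.SimpleFacts.SubfieldOvergroup.Assemble
import Cfsg.Agent.Lib.Chevalley.Types.CoefE8

/-!
Subgroups containing a subfield subgroup, type E8: the checks and their consequences.
-/

set_option autoImplicit false

namespace Cfsg.Agent.SimpleFacts.SubfieldOvergroup.DataE8

open Cfsg.Lie Cfsg.Agent.Chevalley.Table Cfsg.Agent.Chevalley.Check Cfsg.Agent.Chevalley.Cert
  Cfsg.Agent.Chevalley.Eval Cfsg.Agent.Chevalley.Perfect Cfsg.Agent.Chevalley.Group
  Cfsg.Agent.SimpleFacts.ChevalleyRadical

/-- The table. -/
noncomputable abbrev tb : Tab := Cfsg.Agent.Chevalley.Data.E8.tab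

/-- The orbit of the highest root. -/
def orb : List ℕ :=
  [0, 1, 2, 3, 4, 5, 6, 7, 8, 9, 10, 11, 12, 13, 14, 15, 16, 17, 18, 19, 20, 21, 22, 23, 24, 25,
   26, 27, 28, 29, 30, 31, 32, 33, 34, 35, 36, 37, 38, 39, 40, 41, 42, 43, 44, 45, 46, 47, 48, 49,
   50, 51, 52, 53, 54, 55, 56, 57, 58, 59, 60, 61, 62, 63, 64, 65, 66, 67, 68, 69, 70, 71, 72, 73,
   74, 75, 76, 77, 78, 79, 80, 81, 82, 83, 84, 85, 86, 87, 88, 89, 90, 91, 92, 93, 94, 95, 96, 97,
   98, 99, 100, 101, 102, 103, 104, 105, 106, 107, 108, 109, 110, 111, 112, 113, 114, 115, 116,
   117, 118, 119, 120, 121, 122, 123, 124, 125, 126, 127, 128, 129, 130, 131, 132, 133, 134, 135,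
   136, 137, 138, 139, 140, 141, 142, 143, 144, 145, 146, 147, 148, 149, 150, 151, 152, 153, 154,
   155, 156, 157, 158, 159, 160, 161, 162, 163, 164, 165, 166, 167, 168, 169, 170, 171, 172, 173,
   174, 175, 176, 177, 178, 179, 180, 181, 182, 183, 184, 185, 186, 187, 188, 189, 190, 191, 192,
   193, 194, 195, 196, 197, 198, 199, 200, 201, 202, 203, 204, 205, 206, 207, 208, 209, 210, 211,
   212, 213, 214, 215, 216, 217, 218, 219, 220, 221, 222, 223, 224, 225, 226, 227, 228, 229, 230,
   231, 232, 233, 234, 235, 236, 237, 238, 239]

/-- The steps of the peeling, case two. -/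
def steps_two : List (ℕ × ℕ × ℕ) :=
  [(120, 121, 122), (121, 123, 124), (122, 123, 125), (123, 126, 127), (124, 126, 128),
   (125, 126, 129), (126, 130, 131), (127, 130, 132), (128, 130, 133), (129, 130, 134),
   (130, 141, 142), (131, 141, 143), (132, 141, 144), (133, 141, 145), (134, 141, 146),
   (135, 162, 163), (136, 162, 164), (137, 162, 165), (138, 162, 166), (139, 162, 167),
   (140, 162, 168), (141, 130, 142), (142, 135, 147), (143, 135, 148), (144, 135, 149),
   (145, 135, 150), (146, 135, 151), (147, 162, 169), (148, 162, 170), (149, 162, 171),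
   (150, 162, 172), (151, 162, 173), (152, 162, 174), (153, 162, 175), (154, 162, 176),
   (155, 162, 177), (156, 162, 178), (157, 162, 179), (158, 162, 180), (159, 162, 181),
   (160, 162, 182), (161, 162, 183), (162, 135, 163), (163, 130, 164), (164, 141, 169),
   (165, 141, 170), (166, 141, 171), (167, 141, 172), (168, 141, 173), (169, 126, 170),
   (170, 130, 174), (171, 130, 175), (172, 130, 176), (173, 130, 177), (174, 135, 184),
   (175, 135, 185), (176, 135, 186), (177, 135, 187), (178, 135, 188), (179, 135, 189),
   (180, 135, 190), (181, 135, 191), (182, 135, 192), (183, 135, 193), (184, 123, 185),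
   (185, 126, 188), (186, 126, 189), (187, 126, 190), (188, 130, 194), (189, 130, 195),
   (190, 130, 196), (191, 130, 197), (192, 130, 198), (193, 130, 199), (194, 141, 204),
   (195, 141, 205), (196, 141, 206), (197, 141, 207), (198, 141, 208), (199, 141, 209),
   (200, 141, 210), (201, 141, 211), (202, 141, 212), (203, 141, 213), (204, 121, 205),
   (205, 123, 207), (206, 123, 208), (207, 126, 210), (208, 126, 211), (209, 126, 212),
   (210, 130, 214), (211, 130, 215), (212, 130, 216), (213, 130, 217), (214, 135, 219),
   (215, 135, 220), (216, 135, 221), (217, 135, 222), (218, 135, 223), (219, 162, 226),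
   (220, 162, 227), (221, 162, 228), (222, 162, 229), (223, 162, 230), (224, 162, 231),
   (225, 162, 233), (226, 120, 227), (227, 121, 228), (228, 123, 229), (229, 126, 230),
   (230, 130, 231), (231, 141, 233), (232, 141, 234), (233, 135, 234), (234, 130, 235),
   (235, 126, 236), (236, 123, 237), (237, 121, 238), (238, 120, 239)]

theorem peel_two : peelChk (cls 2) tb [239] steps_two = true := by decide +kernel
theorem centralH_two : centralChk (cls 2) tb [239] = true := by decide +kernel

/-- The steps of the peeling, case three. -/
def steps_three : List (ℕ × ℕ × ℕ) :=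
  [(120, 121, 122), (121, 123, 124), (122, 123, 125), (123, 126, 127), (124, 126, 128),
   (125, 126, 129), (126, 130, 131), (127, 130, 132), (128, 130, 133), (129, 130, 134),
   (130, 141, 142), (131, 141, 143), (132, 141, 144), (133, 141, 145), (134, 141, 146),
   (135, 162, 163), (136, 162, 164), (137, 162, 165), (138, 162, 166), (139, 162, 167),
   (140, 162, 168), (141, 130, 142), (142, 135, 147), (143, 135, 148), (144, 135, 149),
   (145, 135, 150), (146, 135, 151), (147, 162, 169), (148, 162, 170), (149, 162, 171),
   (150, 162, 172), (151, 162, 173), (152, 162, 174), (153, 162, 175), (154, 162, 176),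
   (155, 162, 177), (156, 162, 178), (157, 162, 179), (158, 162, 180), (159, 162, 181),
   (160, 162, 182), (161, 162, 183), (162, 135, 163), (163, 130, 164), (164, 141, 169),
   (165, 141, 170), (166, 141, 171), (167, 141, 172), (168, 141, 173), (169, 126, 170),
   (170, 130, 174), (171, 130, 175), (172, 130, 176), (173, 130, 177), (174, 135, 184),
   (175, 135, 185), (176, 135, 186), (177, 135, 187), (178, 135, 188), (179, 135, 189),
   (180, 135, 190), (181, 135, 191), (182, 135, 192), (183, 135, 193), (184, 123, 185),
   (185, 126, 188), (186, 126, 189), (187, 126, 190), (188, 130, 194), (189, 130, 195),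
   (190, 130, 196), (191, 130, 197), (192, 130, 198), (193, 130, 199), (194, 141, 204),
   (195, 141, 205), (196, 141, 206), (197, 141, 207), (198, 141, 208), (199, 141, 209),
   (200, 141, 210), (201, 141, 211), (202, 141, 212), (203, 141, 213), (204, 121, 205),
   (205, 123, 207), (206, 123, 208), (207, 126, 210), (208, 126, 211), (209, 126, 212),
   (210, 130, 214), (211, 130, 215), (212, 130, 216), (213, 130, 217), (214, 135, 219),
   (215, 135, 220), (216, 135, 221), (217, 135, 222), (218, 135, 223), (219, 162, 226),
   (220, 162, 227), (221, 162, 228), (222, 162, 229), (223, 162, 230), (224, 162, 231),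
   (225, 162, 233), (226, 120, 227), (227, 121, 228), (228, 123, 229), (229, 126, 230),
   (230, 130, 231), (231, 141, 233), (232, 141, 234), (233, 135, 234), (234, 130, 235),
   (235, 126, 236), (236, 123, 237), (237, 121, 238), (238, 120, 239)]

theorem peel_three : peelChk (cls 3) tb [239] steps_three = true := by decide +kernel
theorem centralH_three : centralChk (cls 3) tb [239] = true := by decide +kernel
theorem pos_three : posChk (cls 3) tb 239 orb = true := by decide +kernel
theorem even_three : evenChk (cls 3) tb 239 = true := by decide +kernel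
theorem opp_three : oppChk (cls 3) tb 239 120 1 false = true := by decide +kernel

/-- The steps of the peeling, case big. -/
def steps_big : List (ℕ × ℕ × ℕ) :=
  [(120, 121, 122), (121, 123, 124), (122, 123, 125), (123, 126, 127), (124, 126, 128),
   (125, 126, 129), (126, 130, 131), (127, 130, 132), (128, 130, 133), (129, 130, 134),
   (130, 141, 142), (131, 141, 143), (132, 141, 144), (133, 141, 145), (134, 141, 146),
   (135, 162, 163), (136, 162, 164), (137, 162, 165), (138, 162, 166), (139, 162, 167),
   (140, 162, 168), (141, 130, 142), (142, 135, 147), (143, 135, 148), (144, 135, 149),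
   (145, 135, 150), (146, 135, 151), (147, 162, 169), (148, 162, 170), (149, 162, 171),
   (150, 162, 172), (151, 162, 173), (152, 162, 174), (153, 162, 175), (154, 162, 176),
   (155, 162, 177), (156, 162, 178), (157, 162, 179), (158, 162, 180), (159, 162, 181),
   (160, 162, 182), (161, 162, 183), (162, 135, 163), (163, 130, 164), (164, 141, 169),
   (165, 141, 170), (166, 141, 171), (167, 141, 172), (168, 141, 173), (169, 126, 170),
   (170, 130, 174), (171, 130, 175), (172, 130, 176), (173, 130, 177), (174, 135, 184),
   (175, 135, 185), (176, 135, 186), (177, 135, 187), (178, 135, 188), (179, 135, 189),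
   (180, 135, 190), (181, 135, 191), (182, 135, 192), (183, 135, 193), (184, 123, 185),
   (185, 126, 188), (186, 126, 189), (187, 126, 190), (188, 130, 194), (189, 130, 195),
   (190, 130, 196), (191, 130, 197), (192, 130, 198), (193, 130, 199), (194, 141, 204),
   (195, 141, 205), (196, 141, 206), (197, 141, 207), (198, 141, 208), (199, 141, 209),
   (200, 141, 210), (201, 141, 211), (202, 141, 212), (203, 141, 213), (204, 121, 205),
   (205, 123, 207), (206, 123, 208), (207, 126, 210), (208, 126, 211), (209, 126, 212),
   (210, 130, 214), (211, 130, 215), (212, 130, 216), (213, 130, 217), (214, 135, 219),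
   (215, 135, 220), (216, 135, 221), (217, 135, 222), (218, 135, 223), (219, 162, 226),
   (220, 162, 227), (221, 162, 228), (222, 162, 229), (223, 162, 230), (224, 162, 231),
   (225, 162, 233), (226, 120, 227), (227, 121, 228), (228, 123, 229), (229, 126, 230),
   (230, 130, 231), (231, 141, 233), (232, 141, 234), (233, 135, 234), (234, 130, 235),
   (235, 126, 236), (236, 123, 237), (237, 121, 238), (238, 120, 239)]

theorem peel_big : peelChk clsBig tb [239] steps_big = true := by decide +kernel
theorem centralH_big : centralChk clsBig tb [239] = true := by decide +kernel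
theorem pos_big : posChk clsBig tb 239 orb = true := by decide +kernel
theorem even_big : evenChk clsBig tb 239 = true := by decide +kernel
theorem opp_big : oppChk clsBig tb 239 120 1 false = true := by decide +kernel

theorem orbit_ok : orbitChk tb 239 orb = true := by decide +kernel
theorem dom_ok : domChk tb [239] = true := by decide +kernel
theorem step_ok : stepChk tb = true := by decide +kernel
theorem orth_ok : orthChk tb 1 0 = true := by decide +kernel

variable {F : Type*} [Field F] (p : ℕ) [Fact p.Prime] [CharP F p] (σ : F →+* F)

include p in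
/-- **Both facts.** -/
theorem good (hk : Set.Finite {t : F | σ t = t}) :
    AllFixed Cfsg.Agent.Chevalley.Types.E8.certified σ ∧
      ParamFld Cfsg.Agent.Chevalley.Types.E8.certified σ := by
  have hC := Cfsg.Agent.Chevalley.Types.E8.certified
  have hcent : UFixed hC σ → CentFixed hC σ p := fun hA =>
    centFixed_of p hC σ Cfsg.Agent.Chevalley.Types.CoefE8.coef_ok step_ok hA (by simp) hk
  rcases eq_or_ne p 2 with rfl | hp2
  · have hc : (cls 2).Sound F := cls_sound 2
    have hst : Stuck hC σ [239] := stuck_single hC σ hc centralH_two (d := 120)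
      (by decide +kernel)
    have hA : UFixed hC σ := uFixed hC σ hc centralH_two peel_two hst
    exact ⟨allFixed_even hC σ (hcent hA) (hasTau_pair hC σ hc centralH_two orbit_ok orth_ok dom_ok),
      paramFld_one hC σ 2 hc (h := 239) (a := 0) (b := 120) (k := 1)
      (by decide +kernel) dom_ok (by decide +kernel) (by decide +kernel)⟩
  have hne : (2 : F) ≠ 0 := fun h => hp2 ((Nat.prime_dvd_prime_iff_eq Fact.out Nat.prime_two).1
    ((CharP.cast_eq_zero_iff F p 2).1 (by exact_mod_cast h)))
  rcases eq_or_ne p 3 with rfl | hp3
  · have hc : (cls 3).Sound F := cls_sound 3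
    have hst : Stuck hC σ [239] := stuck_single hC σ hc centralH_three (d := 120)
      (by decide +kernel)
    have hA : UFixed hC σ := uFixed hC σ hc centralH_three peel_three hst
    exact ⟨allFixed_odd hC σ hc centralH_three orbit_ok 3 hp2 hA (hcent hA) pos_three
      even_three opp_three dom_ok (by decide +kernel),
      paramFld_one hC σ 3 hc (h := 239) (a := 0) (b := 120) (k := 1)
      (by decide +kernel) dom_ok (by decide +kernel) (by decide +kernel)⟩
  · have hc : clsBig.Sound F := clsBig_sound p hp2 hp3
    have hst : Stuck hC σ [239] := stuck_single hC σ hc centralH_big (d := 120)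
      (by decide +kernel)
    have hA : UFixed hC σ := uFixed hC σ hc centralH_big peel_big hst
    exact ⟨allFixed_odd hC σ hc centralH_big orbit_ok p hp2 hA (hcent hA) pos_big
      even_big opp_big dom_ok (by decide +kernel),
      paramFld_one hC σ p hc (h := 239) (a := 0) (b := 120) (k := 1)
      (by decide +kernel) dom_ok (by decide +kernel) (by decide +kernel)⟩

end Cfsg.Agent.SimpleFacts.SubfieldOvergroup.DataE8
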