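import Cfsg.Agent.SimpleFacts.SubfieldOvergroup.Assemble
import Cfsg.Agent.Lib.Chevalley.Types.CoefF4

/-!
Subgroups containing a subfield subgroup, type F4: the checks and their consequences.
-/

set_option autoImplicit false

namespace Cfsg.Agent.SimpleFacts.SubfieldOvergroup.DataF4

open Cfsg.Lie Cfsg.Agent.Chevalley.Table Cfsg.Agent.Chevalley.Check Cfsg.Agent.Chevalley.Cert
  Cfsg.Agent.Chevalley.Eval Cfsg.Agent.Chevalley.Perfect Cfsg.Agent.Chevalley.Group
  Cfsg.Agent.SimpleFacts.ChevalleyRadical

/-- The table. -/
noncomputable abbrev tb : Tab := Cfsg.Agent.Chevalley.Data.F4.tab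

/-- The orbit of the highest root. -/
def orb : List ℕ :=
  [0, 1, 2, 4, 5, 6, 15, 16, 17, 21, 22, 23, 24, 25, 26, 30, 31, 32, 41, 42, 43, 45, 46, 47]

/-- The steps of the peeling, case two. -/
def steps_two : List (ℕ × ℕ × ℕ) :=
  [(24, 25, 26), (25, 27, 28), (26, 27, 29), (27, 33, 34), (28, 33, 35), (29, 33, 36),
   (30, 33, 37), (31, 33, 38), (32, 33, 39), (33, 27, 34), (34, 25, 35), (35, 27, 37),
   (36, 27, 38), (37, 24, 38), (38, 25, 39), (39, 27, 40), (40, 33, 44), (41, 24, 42),
   (42, 25, 43), (43, 27, 44), (45, 25, 46), (46, 24, 47)]

theorem peel_two : peelChk (cls 2) tb [44, 47] steps_two = true := by decide +kernel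
theorem centralH_two : centralChk (cls 2) tb [47] = true := by decide +kernel
theorem central_two : centralChk (cls 2) tb [44, 47] = true := by decide +kernel

/-- The steps of the peeling, case three. -/
def steps_three : List (ℕ × ℕ × ℕ) :=
  [(24, 25, 26), (25, 27, 28), (26, 27, 29), (27, 33, 34), (28, 33, 35), (29, 33, 36),
   (30, 33, 37), (31, 33, 38), (32, 33, 39), (33, 27, 34), (34, 25, 35), (35, 27, 37),
   (36, 27, 38), (37, 33, 41), (38, 33, 42), (39, 33, 43), (40, 33, 44), (41, 24, 42),
   (42, 25, 43), (43, 27, 44), (44, 27, 45), (45, 25, 46), (46, 24, 47)]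

theorem peel_three : peelChk (cls 3) tb [47] steps_three = true := by decide +kernel
theorem centralH_three : centralChk (cls 3) tb [47] = true := by decide +kernel
theorem pos_three : posChk (cls 3) tb 47 orb = true := by decide +kernel
theorem even_three : evenChk (cls 3) tb 47 = true := by decide +kernel
theorem opp_three : oppChk (cls 3) tb 47 24 1 false = true := by decide +kernel

/-- The steps of the peeling, case big. -/
def steps_big : List (ℕ × ℕ × ℕ) :=
  [(24, 25, 26), (25, 27, 28), (26, 27, 29), (27, 33, 34), (28, 33, 35), (29, 33, 36),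
   (30, 33, 37), (31, 33, 38), (32, 33, 39), (33, 27, 34), (34, 25, 35), (35, 27, 37),
   (36, 27, 38), (37, 33, 41), (38, 33, 42), (39, 33, 43), (40, 33, 44), (41, 24, 42),
   (42, 25, 43), (43, 27, 44), (44, 27, 45), (45, 25, 46), (46, 24, 47)]

theorem peel_big : peelChk clsBig tb [47] steps_big = true := by decide +kernel
theorem centralH_big : centralChk clsBig tb [47] = true := by decide +kernel
theorem pos_big : posChk clsBig tb 47 orb = true := by decide +kernel
theorem even_big : evenChk clsBig tb 47 = true := by decide +kernel
theorem opp_big : oppChk clsBig tb 47 24 1 false = true := by decide +kernel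

theorem orbit_ok : orbitChk tb 47 orb = true := by decide +kernel
theorem dom_ok : domChk tb [47, 44] = true := by decide +kernel
theorem step_ok : stepChk tb = true := by decide +kernel
theorem two_ok : twoOrbitChk tb 47 44 orb = true := by decide +kernel

variable {F : Type*} [Field F] (p : ℕ) [Fact p.Prime] [CharP F p] (σ : F →+* F)

include p in
/-- **Both facts.** -/
theorem good (hk : Set.Finite {t : F | σ t = t}) :
    AllFixed Cfsg.Agent.Chevalley.Types.F4.certified σ ∧
      ParamFld Cfsg.Agent.Chevalley.Types.F4.certified σ := by
  have hC := Cfsg.Agent.Chevalley.Types.F4.certified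
  have hcent : UFixed hC σ → CentFixed hC σ p := fun hA =>
    centFixed_of p hC σ Cfsg.Agent.Chevalley.Types.CoefF4.coef_ok step_ok hA (by simp) hk
  rcases eq_or_ne p 2 with rfl | hp2
  · have hc : (cls 2).Sound F := cls_sound 2
    have hst : Stuck hC σ [44, 47] := stuck_pair hC σ hc centralH_two (fun z => cls_two_unit) central_two (a := 41) (b := 29)
      (by decide +kernel) (L₁ := [0, 1, 2, 1, 0]) (L₂ := [3, 2, 1, 2, 3]) (by decide +kernel) (by decide +kernel)
      (by decide +kernel) (by decide +kernel) (by decide +kernel) (by decide +kernel)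
    have hA : UFixed hC σ := uFixed hC σ hc central_two peel_two hst
    exact ⟨allFixed_even hC σ (hcent hA) (hasTau_short hC σ hc centralH_two orbit_ok (s := 44) (by decide +kernel)
      (by decide +kernel) (by decide +kernel) dom_ok),
      paramFld_special hC σ two_ok (by decide +kernel) 2 hc (a := 0) (b := 24) (k := 1)
      (a' := 3) (b' := 33) (k' := 7)
      (r := 24) (d := 10) (r' := 27) (d' := 4) (by decide +kernel) (by decide +kernel) (by decide +kernel)
      (by decide +kernel) (by decide +kernel) (by decide +kernel)
      (by decide +kernel) (by decide +kernel) (by decide +kernel)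
      (by decide +kernel) (by decide +kernel) (by decide +kernel)
      (by decide +kernel) (by decide +kernel) (by decide +kernel)
      (by decide +kernel) (by decide +kernel) (by decide +kernel)
      (by decide +kernel) (by decide +kernel) (by decide +kernel)
      (by decide +kernel)⟩
  have hne : (2 : F) ≠ 0 := fun h => hp2 ((Nat.prime_dvd_prime_iff_eq Fact.out Nat.prime_two).1
    ((CharP.cast_eq_zero_iff F p 2).1 (by exact_mod_cast h)))
  rcases eq_or_ne p 3 with rfl | hp3
  · have hc : (cls 3).Sound F := cls_sound 3
    have hst : Stuck hC σ [47] := stuck_single hC σ hc centralH_three (d := 24)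
      (by decide +kernel)
    have hA : UFixed hC σ := uFixed hC σ hc centralH_three peel_three hst
    exact ⟨allFixed_odd hC σ hc centralH_three orbit_ok 3 hp2 hA (hcent hA) pos_three
      even_three opp_three dom_ok (by decide +kernel),
      paramFld_mixed hC σ two_ok (by decide +kernel) 3 hc (a := 0) (b := 24) (k := 1)
      (a' := 3) (b' := 18) (k' := 0)
      (r := 24) (d := 10) (by decide +kernel) (by decide +kernel) (by decide +kernel)
      (by decide +kernel) (by decide +kernel) (by decide +kernel)
      (by decide +kernel) (by decide +kernel) (by decide +kernel)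
      (by decide +kernel) (by decide +kernel) (by decide +kernel)
      (by decide +kernel) (by decide +kernel) (by decide +kernel)
      (by decide +kernel)⟩
  · have hc : clsBig.Sound F := clsBig_sound p hp2 hp3
    have hst : Stuck hC σ [47] := stuck_single hC σ hc centralH_big (d := 24)
      (by decide +kernel)
    have hA : UFixed hC σ := uFixed hC σ hc centralH_big peel_big hst
    exact ⟨allFixed_odd hC σ hc centralH_big orbit_ok p hp2 hA (hcent hA) pos_big
      even_big opp_big dom_ok (by decide +kernel),
      paramFld_mixed hC σ two_ok (by decide +kernel) p hc (a := 0) (b := 24) (k := 1)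
      (a' := 3) (b' := 18) (k' := 0)
      (r := 24) (d := 10) (by decide +kernel) (by decide +kernel) (by decide +kernel)
      (by decide +kernel) (by decide +kernel) (by decide +kernel)
      (by decide +kernel) (by decide +kernel) (by decide +kernel)
      (by decide +kernel) (by decide +kernel) (by decide +kernel)
      (by decide +kernel) (by decide +kernel) (by decide +kernel)
      (by decide +kernel)⟩

end Cfsg.Agent.SimpleFacts.SubfieldOvergroup.DataF4
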