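import Cfsg.Agent.SimpleFacts.SubfieldOvergroup.DataG2
import Cfsg.Agent.SimpleFacts.SubfieldOvergroup.DataB2
import Cfsg.Agent.SimpleFacts.SubfieldOvergroup.DataD4
import Cfsg.Agent.SimpleFacts.SubfieldOvergroup.DataF4
import Cfsg.Agent.SimpleFacts.SubfieldOvergroup.DataE6
import Cfsg.Agent.SimpleFacts.SubfieldOvergroup.DataE7
import Cfsg.Agent.SimpleFacts.SubfieldOvergroup.DataE8

/-!
Overgroups of the subfield subgroups of Chevalley groups.
-/

set_option autoImplicit false

namespace Cfsg.Agent.SimpleFacts.SubfieldOvergroup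

open Cfsg.Lie Cfsg.Agent.Chevalley.Table Cfsg.Agent.Chevalley.Cert
  Cfsg.Agent.Chevalley.Group Cfsg.Agent.Chevalley.Borel
  Cfsg.Agent.Chevalley.FieldAut Cfsg.Agent.SimpleFacts.ChevalleySubfield

variable {F : Type*} [Field F] (p : ℕ) [Fact p.Prime] [CharP F p]

include p in
/-- Both facts for all seven data, and there is at least one root. -/
theorem exists_good {D : ChevalleyDatum}
    (hD : D ∈ [chevG2, chevB2, chevD4, chevF4, chevE6, chevE7, chevE8]) :
    ∃ (T : Tab) (hC : Certified D T), 0 < D.nroots ∧ ∀ σ : F →+* F,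
      Set.Finite {t : F | σ t = t} → AllFixed hC σ ∧ ParamFld hC σ := by
  simp only [List.mem_cons, List.not_mem_nil, or_false] at hD
  rcases hD with rfl | rfl | rfl | rfl | rfl | rfl | rfl
  · exact ⟨_, _, by decide +kernel, DataG2.good p⟩
  · exact ⟨_, _, by decide +kernel, DataB2.good p⟩
  · exact ⟨_, _, by decide +kernel, DataD4.good p⟩
  · exact ⟨_, _, by decide +kernel, DataF4.good p⟩
  · exact ⟨_, _, by decide +kernel, DataE6.good p⟩
  · exact ⟨_, _, by decide +kernel, DataE7.good p⟩
  · exact ⟨_, _, by decide +kernel, DataE8.good p⟩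

/-- The power map of exponent `p ^ n`. -/
noncomputable abbrev frobPow (F : Type*) [Field F] (p : ℕ) [Fact p.Prime] [CharP F p] (n : ℕ) :
    F →+* F :=
  iterateFrobenius F p n

omit [Fact p.Prime] [CharP F p] in
theorem fixed_finite {q : ℕ} (hq : 1 < q) : Set.Finite {t : F | t ^ q = t} := by
  classical
  refine Set.Finite.subset ((Polynomial.X ^ q - Polynomial.X : Polynomial F).roots.toFinset.finite_toSet)
    fun t ht => ?_
  rw [Finset.mem_coe, Multiset.mem_toFinset,
    Polynomial.mem_roots (FiniteField.X_pow_card_sub_X_ne_zero F hq)]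
  simpa [sub_eq_zero] using ht

theorem fix_finite {n : ℕ} (hn : n ≠ 0) : Set.Finite {t : F | frobPow F p n t = t} := by
  simp only [iterateFrobenius_def]
  exact fixed_finite (Nat.one_lt_pow hn (Fact.out : p.Prime).one_lt)

omit [Fact p.Prime] [CharP F p] in
theorem card_fixed_le {q : ℕ} (hq : 1 < q) : Nat.card {t : F | t ^ q = t} ≤ q := by
  classical
  have h0 := FiniteField.X_pow_card_sub_X_ne_zero F hq
  have hsub : {t : F | t ^ q = t} ⊆
      ↑(Polynomial.X ^ q - Polynomial.X : Polynomial F).roots.toFinset := fun t ht => by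
    rw [Finset.mem_coe, Multiset.mem_toFinset, Polynomial.mem_roots h0]
    simpa [sub_eq_zero] using ht
  refine (Nat.card_mono (Finset.finite_toSet _) hsub).trans ?_
  rw [Nat.card_coe_set_eq, Set.ncard_coe_finset]
  refine (Multiset.toFinset_card_le _).trans ((Polynomial.card_roots' _).trans ?_)
  rw [FiniteField.X_pow_card_sub_X_natDegree_eq F hq]

/-- In an algebraically closed field there are `p ^ n` elements fixed by the power `p ^ n`. -/
theorem card_fixed_closed [IsAlgClosed F] {n : ℕ} (hn : n ≠ 0) :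
    Nat.card {t : F | t ^ p ^ n = t} = p ^ n := by
  classical
  have hq : 1 < p ^ n := Nat.one_lt_pow hn (Fact.out : p.Prime).one_lt
  have hsep : (Polynomial.X ^ (p ^ n) - Polynomial.X : Polynomial F).Separable :=
    galois_poly_separable p _ (dvd_pow_self p hn)
  have h := Polynomial.card_rootSet_eq_natDegree (K := F) hsep
    (IsAlgClosed.splits _)
  rw [FiniteField.X_pow_card_sub_X_natDegree_eq F hq, ← Nat.card_eq_fintype_card] at h
  refine Eq.trans (Nat.card_congr (Equiv.setCongr ?_)) h
  ext t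
  rw [Polynomial.mem_rootSet_of_ne (FiniteField.X_pow_card_sub_X_ne_zero F hq)]
  simp [sub_eq_zero]

/-- A finite field of `q ^ r` elements has `q` elements fixed by the power `q`. -/
theorem card_fixed_finite [Finite F] {a r : ℕ} (ha : a ≠ 0) (hr : r ≠ 0)
    (hK : Nat.card F = (p ^ a) ^ r) : Nat.card {t : F | t ^ p ^ a = t} = p ^ a := by
  have : Fintype F := Fintype.ofFinite F
  obtain ⟨f, hf⟩ : ∃ f, f = algebraMap F (AlgebraicClosure F) := ⟨_, rfl⟩
  have : CharP (AlgebraicClosure F) p :=
    charP_of_injective_algebraMap (algebraMap F (AlgebraicClosure F)).injective p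
  have himg : Set.range f = {x : AlgebraicClosure F | x ^ (p ^ a) ^ r = x} := by
    refine Set.eq_of_subset_of_ncard_le ?_ ?_ (fixed_finite (Nat.one_lt_pow hr (Nat.one_lt_pow ha (Fact.out : p.Prime).one_lt)))
    · rintro x ⟨y, rfl⟩
      show f y ^ _ = f y
      rw [← map_pow, ← hK, Nat.card_eq_fintype_card, FiniteField.pow_card]
    · rw [← Nat.card_coe_set_eq, ← Nat.card_coe_set_eq, Nat.card_range_of_injective f.injective, hK]
      exact card_fixed_le (Nat.one_lt_pow hr (Nat.one_lt_pow ha (Fact.out : p.Prime).one_lt))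
  refine Eq.trans ?_ (card_fixed_closed (F := AlgebraicClosure F) p ha)
  rw [← Nat.card_image_of_injective f.injective]
  refine Nat.card_congr (Equiv.setCongr (Set.ext fun x => ⟨?_, fun hx => ?_⟩))
  · rintro ⟨y, hy, rfl⟩
    show f y ^ _ = f y
    rw [← map_pow, hy]
  · have hx' : x ^ (p ^ a) ^ r = x := by
      clear hK himg hr
      induction r with
      | zero => rw [pow_zero, pow_one]
      | succ m ih => rw [pow_succ, pow_mul, ih, hx]
    obtain ⟨y, rfl⟩ : x ∈ Set.range f := by rw [himg]; exact hx'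
    exact ⟨y, f.injective (by rw [map_pow]; exact hx), rfl⟩

omit [Fact p.Prime] [CharP F p] in
/-- A finite subfield containing a finite subfield has a power of its order. -/
theorem natCard_pow_of_le {k S : Subfield F} (h : k ≤ S) [Finite S] :
    ∃ r : ℕ, r ≠ 0 ∧ Nat.card S = Nat.card k ^ r := by
  let _ := (Subfield.inclusion h).toAlgebra
  refine ⟨Module.finrank k S, ?_, Module.natCard_eq_pow_finrank⟩
  have : Module.Finite k S := Module.Finite.of_finite
  exact Module.finrank_pos.ne'

variable {D : ChevalleyDatum} {T : Tab} (hC : Certified D T) (σ : F →+* F)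
include hC

omit [Fact p.Prime] [CharP F p] in
theorem fixL_le_of_forall {H : Subgroup (GL D.Idx F)}
    (h : ∀ r < D.nroots, ∀ t : F, σ t = t → xg hC r t ∈ H) : fixL hC σ ≤ H := by
  refine (Subgroup.closure_le _).2 ?_
  rintro g ⟨r, t, ht, rfl⟩
  by_cases hr : r < D.nroots
  · exact h r hr t ht
  · rw [xg_out hC hr]; exact one_mem H

omit [Fact p.Prime] [CharP F p] in
theorem group_le_of_forall {H : Subgroup (GL D.Idx F)}
    (h : ∀ r < D.nroots, ∀ t : F, xg hC r t ∈ H) : D.group F ≤ H := by
  refine (Subgroup.closure_le _).2 ?_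
  rintro g ⟨r, t, hg⟩
  rw [show g = xg hC r t from Units.ext (by rw [hg, coe_xg, ChevalleyDatum.x, dif_pos r.2])]
  exact h r r.2 t

end Cfsg.Agent.SimpleFacts.SubfieldOvergroup
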