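import Cfsg.Agent.SimpleFacts.ChevalleySubfield
import Cfsg.Agent.SimpleFacts.ChevalleyRadical
import Cfsg.Agent.Lib.Chevalley.FieldInvol
import Mathlib

/-!
Subgroups of a Chevalley group containing the root elements with parameters fixed by a field
endomorphism and no other root elements: basic facts.
-/

set_option autoImplicit false

namespace Cfsg.Agent.SimpleFacts.SubfieldOvergroup

open Cfsg.Lie Cfsg.Agent.Chevalley.Table Cfsg.Agent.Chevalley.Cert Cfsg.Agent.Chevalley.Group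
  Cfsg.Agent.Chevalley.Borel Cfsg.Agent.Chevalley.Unip Cfsg.Agent.Chevalley.Weyl
  Cfsg.Agent.Chevalley.NormalForm Cfsg.Agent.Chevalley.FieldAut
  Cfsg.Agent.SimpleFacts.ChevalleySubfield

variable {D : ChevalleyDatum} {F : Type*} [Field F] {T : Tab} (hC : Certified D T) (σ : F →+* F)

/-- The element is fixed by `σ`. -/
def Fixed (D : ChevalleyDatum) (σ : F →+* F) (g : GL D.Idx F) : Prop := mapGL D σ g = g

/-- A subgroup containing `fixL` whose root elements all have fixed parameters. -/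
structure Ctx (hC : Certified D T) (σ : F →+* F) (H : Subgroup (GL D.Idx F)) : Prop where
  le_group : H ≤ D.group F
  fixL_le : fixL hC σ ≤ H
  param : ∀ r < D.nroots, ∀ t : F, xg hC r t ∈ H → σ t = t

/-- The element conjugates `fixL` into `H`. -/
def Conjs (hC : Certified D T) (σ : F →+* F) (H : Subgroup (GL D.Idx F)) (g : GL D.Idx F) : Prop :=
  ∀ x ∈ fixL hC σ, g * x * g⁻¹ ∈ H

include hC

omit hC in
theorem Fixed.mul {g h : GL D.Idx F} (hg : Fixed D σ g) (hh : Fixed D σ h) :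
    Fixed D σ (g * h) := by
  rw [Fixed, map_mul, hg, hh]

omit hC in
theorem Fixed.inv {g : GL D.Idx F} (hg : Fixed D σ g) : Fixed D σ g⁻¹ := by
  rw [Fixed, map_inv, hg]

theorem fixed_xg {r : ℕ} {t : F} (ht : σ t = t) : Fixed D σ (xg hC r t) := by
  rw [Fixed, map_xg hC σ, ht]

theorem map_mem_closure_x' {P : ℕ → Prop} {g : GL D.Idx F}
    (hg : g ∈ Subgroup.closure {g : GL D.Idx F | ∃ (r : ℕ) (t : F),
      r < D.nroots ∧ P r ∧ g = xg hC r t}) :
    mapGL D σ g ∈ Subgroup.closure {g : GL D.Idx F | ∃ (r : ℕ) (t : F),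
      r < D.nroots ∧ P r ∧ g = xg hC r t} := by
  have e : ({g : GL D.Idx F | ∃ (r : ℕ) (t : F), r < D.nroots ∧ P r ∧ g = xg hC r t}) =
      {g : GL D.Idx F | ∃ (r : ℕ) (t : F), (r < D.nroots ∧ P r) ∧ g = xg hC r t} := by
    simp only [and_assoc]
  rw [e] at hg ⊢
  exact map_mem_closure_x hC σ hg

theorem param_of_fixed_xg {r : ℕ} (hr : r < D.nroots) {t : F} (h : Fixed D σ (xg hC r t)) :
    σ t = t := by
  rw [Fixed, map_xg hC σ] at h
  exact xg_injective hC hr h

theorem fixed_of_mem_fixL {g : GL D.Idx F} (hg : g ∈ fixL hC σ) : Fixed D σ g := by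
  induction hg using Subgroup.closure_induction with
  | mem x hx =>
    obtain ⟨r, t, ht, rfl⟩ := hx
    exact fixed_xg hC σ ht
  | one => exact map_one _
  | mul a b _ _ iha ihb => exact Fixed.mul σ iha ihb
  | inv a _ iha => exact Fixed.inv σ iha

theorem xg_out {r : ℕ} (hr : ¬ r < D.nroots) (t : F) : xg hC r t = 1 :=
  Units.ext (by simp [ChevalleyDatum.x, hr])

theorem fixL_le_group : fixL hC σ ≤ D.group F := by
  refine (Subgroup.closure_le _).2 ?_
  rintro g ⟨r, t, -, rfl⟩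
  by_cases hr : r < D.nroots
  · exact xg_mem_group hC hr t
  · rw [xg_out hC hr]; exact one_mem _

theorem map_mem_parabolic {J : Set ℕ} {g : GL D.Idx F} (hg : g ∈ D.parabolicSubgroup F J) :
    mapGL D σ g ∈ D.parabolicSubgroup F J := by
  have h : D.parabolicSubgroup F J ≤ (D.parabolicSubgroup F J).comap (mapGL D σ) := by
    refine sup_le (fun x hx => Subgroup.mem_sup_left (map_mem_B hC σ hx)) ?_
    rw [Subgroup.closure_le]
    rintro x ⟨j, hjJ, hj, hx⟩
    rw [show x = ng hC (D.simple j) 1 from Units.ext (hx.trans (coe_ng hC _ _).symm),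
      SetLike.mem_coe, Subgroup.mem_comap, map_ng_one hC σ]
    exact Cfsg.Agent.Chevalley.Parabolic.ng_mem_parabolic hC hj hjJ
  exact h hg

/-- A fixed element normalises `fixL`. -/
theorem fixed_conj_fixL {m : GL D.Idx F} (hm : m ∈ D.group F) (hf : Fixed D σ m)
    {x : GL D.Idx F} (hx : x ∈ fixL hC σ) : m * x * m⁻¹ ∈ fixL hC σ := by
  obtain ⟨l, hl, h, hh, hhe, l', hl', rfl⟩ := fixed_decomp hC σ hm hf
  have e : l * h * l' * x * (l * h * l')⁻¹ = l * (h * (l' * x * l'⁻¹) * h⁻¹) * l⁻¹ := by group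
  rw [e]
  exact mul_mem (mul_mem hl (conj_fixL hC σ hh hhe (mul_mem (mul_mem hl' hx) (inv_mem hl'))))
    (inv_mem hl)

theorem torChar_fixed {c : ℕ → Fˣ} (he : Fixed D σ (tor D c)) {r : ℕ} (hr : r < D.nroots) :
    σ (torChar D c r : F) = torChar D c r := by
  have h1 : Fixed D σ (xg hC r (torChar D c r : F)) := by
    have e := tor_conj_x hC c r (1 : F) hr
    rw [mul_one] at e
    rw [← e]
    exact Fixed.mul σ (Fixed.mul σ he (fixed_xg hC σ (map_one σ))) (Fixed.inv σ he)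
  exact param_of_fixed_xg hC σ hr h1

variable {H : Subgroup (GL D.Idx F)}

/-- The conjugate of the context by a fixed element. -/
theorem Ctx.conj (hX : Ctx hC σ H) {m : GL D.Idx F} (hm : m ∈ D.group F) (hf : Fixed D σ m) :
    Ctx hC σ (H.map (MulAut.conj m⁻¹).toMonoidHom) := by
  refine ⟨?_, ?_, ?_⟩
  · rintro g ⟨a, ha, rfl⟩
    show m⁻¹ * a * m⁻¹⁻¹ ∈ D.group F
    exact mul_mem (mul_mem (inv_mem hm) (hX.le_group ha)) (inv_mem (inv_mem hm))
  · intro x hx
    exact ⟨m * x * m⁻¹, hX.fixL_le (fixed_conj_fixL hC σ hm hf hx), by simp [mul_assoc]⟩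
  · intro r hr t ht
    obtain ⟨a, ha, hae⟩ := ht
    have hae' : a = m * xg hC r t * m⁻¹ := by
      rw [← show m⁻¹ * a * m⁻¹⁻¹ = xg hC r t from hae]; group
    obtain ⟨l, hl, h, hh, hhe, l', hl', rfl⟩ := fixed_decomp hC σ hm hf
    obtain ⟨c, rfl⟩ := (mem_H_iff hC).1 hh
    obtain ⟨k, hk⟩ : ∃ k, k = tor D c * l' * (tor D c)⁻¹ := ⟨_, rfl⟩
    have hkH : k ∈ H := hk ▸ hX.fixL_le (conj_fixL hC σ hh hhe hl')
    have e : tor D c * xg hC r t * (tor D c)⁻¹ = k⁻¹ * (l⁻¹ * a * l) * k := by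
      rw [hk, hae']; group
    have h1 : xg hC r ((torChar D c r : F) * t) ∈ H := by
      rw [← tor_conj_x hC c r t hr, e]
      exact mul_mem (mul_mem (inv_mem hkH)
        (mul_mem (mul_mem (inv_mem (hX.fixL_le hl)) ha) (hX.fixL_le hl))) hkH
    have h2 := hX.param r hr _ h1
    rw [map_mul, torChar_fixed hC σ hhe hr] at h2
    exact mul_left_cancel₀ (Units.ne_zero _) h2

theorem Conjs.conj_left {g m : GL D.Idx F} (h : Conjs hC σ H g) :
    Conjs hC σ (H.map (MulAut.conj m⁻¹).toMonoidHom) (m⁻¹ * g) := fun x hx =>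
  ⟨g * x * g⁻¹, h x hx, by simp [mul_assoc]⟩

theorem Conjs.mul_right {g m : GL D.Idx F} (h : Conjs hC σ H g) (hm : m ∈ D.group F)
    (hf : Fixed D σ m) : Conjs hC σ H (g * m) := fun x hx => by
  have := h _ (fixed_conj_fixL hC σ hm hf hx)
  simpa [mul_assoc] using this

theorem conjs_of_mem (hX : Ctx hC σ H) {g : GL D.Idx F} (hg : g ∈ H) : Conjs hC σ H g :=
  fun _ hx => mul_mem (mul_mem hg (hX.fixL_le hx)) (inv_mem hg)

omit hC in
/-- If a conjugate of a fixed element is fixed then `g⁻¹σ(g)` commutes with it. -/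
theorem commute_of_fixed_conj {g x : GL D.Idx F} (hx : Fixed D σ x)
    (hy : Fixed D σ (g * x * g⁻¹)) :
    g⁻¹ * mapGL D σ g * x = x * (g⁻¹ * mapGL D σ g) := by
  rw [Fixed, map_mul, map_mul, map_inv, hx] at hy
  calc g⁻¹ * mapGL D σ g * x = g⁻¹ * (mapGL D σ g * x * (mapGL D σ g)⁻¹) * mapGL D σ g := by group
    _ = _ := by rw [hy]; group

/-- If all conjugates of the root elements of `fixL` are fixed then so is the element. -/
theorem fixed_of_all {g : GL D.Idx F} (hg : g ∈ D.group F)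
    (h : ∀ r < D.nroots, ∀ t : F, σ t = t → Fixed D σ (g * xg hC r t * g⁻¹)) : Fixed D σ g := by
  have hd : g⁻¹ * mapGL D σ g = 1 := by
    refine eq_one_of_comm hC σ (mul_mem (inv_mem hg) (map_mem_group σ hg)) fun x hx => ?_
    refine (Subgroup.mem_centralizer_singleton_iff.1 ?_).symm
    have hle : fixL hC σ ≤ Subgroup.centralizer {g⁻¹ * mapGL D σ g} := by
      refine (Subgroup.closure_le _).2 ?_
      rintro y ⟨r, t, ht, rfl⟩
      rw [SetLike.mem_coe, Subgroup.mem_centralizer_singleton_iff]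
      by_cases hr : r < D.nroots
      · exact (commute_of_fixed_conj σ (fixed_xg hC σ ht) (h r hr t ht)).symm
      · rw [xg_out hC hr, mul_one, one_mul]
    exact hle hx
  rw [inv_mul_eq_one] at hd
  exact hd.symm

/-- Fixed products with ascending roots have fixed coefficients. -/
theorem fixed_prodX_coeff {L : List ℕ} (hs : L.Pairwise (· < ·))
    (hp : ∀ r ∈ L, r < D.nroots ∧ 0 < T.phi r) {t : ℕ → F} (h : Fixed D σ (prodX hC L t)) :
    ∀ r ∈ L, σ (t r) = t r := by
  have e : mapGL D σ (prodX hC L t) = prodX hC L (fun r => σ (t r)) := by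
    rw [prodX, prodX, map_list_prod, List.map_map]
    exact congrArg List.prod (List.map_congr_left fun r _ => map_xg hC σ r (t r))
  rw [Fixed, e] at h
  exact prodX_inj hC hs hp h

/-- The parameter of a leading root of a fixed element of `U` is fixed. -/
theorem fixed_lead {a : ℕ} (ha : a < D.nroots) (hp : 0 < T.phi a) {t : F} {w : GL D.Idx F}
    (hw : w ∈ Uge hC F (a + 1)) (h : Fixed D σ (xg hC a t * w)) : σ t = t := by
  have hσw : mapGL D σ w ∈ Uge hC F (a + 1) :=
    Cfsg.Agent.Chevalley.FieldInvol.map_mem_Uge hC σ hw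
  rw [Fixed, map_mul, map_xg hC σ] at h
  have e : xg hC a (-t + σ t) = w * (mapGL D σ w)⁻¹ := by
    calc xg hC a (-t + σ t) = (xg hC a t)⁻¹ * xg hC a (σ t) := by rw [xg_inv hC, xg_add hC]
      _ = (xg hC a t)⁻¹ * (xg hC a (σ t) * mapGL D σ w) * (mapGL D σ w)⁻¹ := by group
      _ = _ := by rw [h]; group
  have h0 := Cfsg.Agent.Chevalley.FieldInvol.eq_zero_of_mem_succ hC ha hp
    (e ▸ mul_mem hw (inv_mem hσw))
  exact (eq_neg_of_add_eq_zero_right h0).trans (neg_neg t)

end Cfsg.Agent.SimpleFacts.SubfieldOvergroup
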