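import Cfsg.Agent.SimpleFacts.SubfieldOvergroup.ParabolicFixed
import Cfsg.Agent.SimpleFacts.BorelTits.Main
import Cfsg.Agent.Lib.Chevalley.FieldFix

/-!
The elements centralising a fixed `p`-element and conjugating `fixL` into the subgroup are fixed.
-/

set_option autoImplicit false

namespace Cfsg.Agent.SimpleFacts.SubfieldOvergroup

open Cfsg.Lie Cfsg.Agent.Chevalley.Table Cfsg.Agent.Chevalley.Cert
  Cfsg.Agent.Chevalley.Group Cfsg.Agent.Chevalley.Borel Cfsg.Agent.Chevalley.Unip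
  Cfsg.Agent.Chevalley.NormalForm Cfsg.Agent.Chevalley.Weyl Cfsg.Agent.Chevalley.Coef
  Cfsg.Agent.Chevalley.FieldAut Cfsg.Agent.SimpleFacts.ChevalleySubfield
  Cfsg.Agent.SimpleFacts.ChevalleyRadical Cfsg.Agent.SimpleFacts.BorelTits

variable {D : ChevalleyDatum} {F : Type*} [Field F] {T : Tab} (hC : Certified D T) (σ : F →+* F)
include hC

/-- Two elements pushing a subgroup into the radical of the shortest form differ by an element of
its parabolic. -/
theorem feasible_unique {Q : Subgroup (GL D.Idx F)} {f : ℕ → ℝ} (hf : IsWt D f) (hd : Dominant D f)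
    (hmin : ∀ g : ℕ → ℝ, IsWt D g → Feasible hC Q g → energy D f ≤ energy D g)
    {g₁ g₂ : GL D.Idx F} (hg₁ : g₁ ∈ D.group F) (hg₂ : g₂ ∈ D.group F)
    (hq₁ : ∀ q ∈ Q, g₁⁻¹ * q * g₁ ∈ XSub hC F (fun r => 1 ≤ f r))
    (hq₂ : ∀ q ∈ Q, g₂⁻¹ * q * g₂ ∈ XSub hC F (fun r => 1 ≤ f r)) :
    g₁⁻¹ * g₂ ∈ D.parabolicSubgroup F {j | f (D.simple j) = 0} := by
  have hA := absorbing_form hC hf hd
  obtain ⟨b, hb, n, hn, u, hu, e⟩ := exists_form hC (mul_mem (inv_mem hg₁) hg₂)
  have hu' : u ∈ D.borelSubgroup F := Subgroup.mem_sup_left (Uminus_le_U hC n hu)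
  obtain ⟨c, L, hL, rfl⟩ := (mem_N_iff hC).1 hn
  have hLr : ∀ i ∈ L.reverse, i < D.rank := fun i hi => hL i (List.mem_reverse.1 hi)
  have havg : Feasible hC Q (fun r => (f r + f (wL D L.reverse r)) / 2) := by
    refine ⟨g₁ * b, mul_mem hg₁ (B_le_group hC hb), fun q hqQ => ?_⟩
    have h1 : (g₁ * b)⁻¹ * q * (g₁ * b) ∈ XSub hC F (fun r => 1 ≤ f r) := by
      have := conj_B_XSub hC hA (inv_mem hb) (hq₁ q hqQ)
      simpa [mul_assoc] using this
    refine mem_average hC hf hd hLr h1 ?_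
    have h2 := conj_B_XSub hC hA hu' (hq₂ _ hqQ)
    have h3 := conj_monomial_XSub hC hL c (Q := fun r => 1 ≤ f (wL D L.reverse r))
      (fun r hr h => by rwa [wL_reverse hC hL hr]) h2
    convert h3 using 1
    rw [show g₂ = g₁ * (b * (tor D c * nL hC F L) * u) by rw [← e]; group]
    group
  have hw : IsWt D (fun r => f (wL D L.reverse r)) := hf.comp_wL hC hLr
  have heq := eq_of_energy (energy_comp hC hLr f) (hmin _ (hf.average hw) havg)
  have hfix : ∀ r < D.nroots, f (wL D L r) = f r := fun r hr => by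
    have := heq _ (wL_lt hC hL hr)
    rw [wL_reverse hC hL hr] at this
    exact this.symm
  rw [e]
  exact mul_mem (mul_mem (Subgroup.mem_sup_left hb)
      (mul_mem (Subgroup.mem_sup_left (Subgroup.mem_sup_right (tor_mem_H hC c)))
        (nL_mem_parabolic hC hf hd hL hfix)))
    (Subgroup.mem_sup_left hu')

omit hC in
theorem mem_eqLocus_iff (t : F) : t ∈ σ.eqLocusField (RingHom.id F) ↔ σ t = t := Iff.rfl

/-- A fixed element of `p`-power order lies in `fixL`. -/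
theorem mem_fixL_of_pow (p : ℕ) [Fact p.Prime] [CharP F p] (hk : Set.Finite {t : F | σ t = t})
    {x : GL D.Idx F} (hx : x ∈ D.group F) (hf : Fixed D σ x) {e : ℕ} (hp : x ^ p ^ e = 1) :
    x ∈ fixL hC σ := by
  obtain ⟨l, hl, h, hh, hhe, l', hl', rfl⟩ := fixed_decomp hC σ hx hf
  obtain ⟨c, rfl⟩ := (mem_H_iff hC).1 hh
  let k := σ.eqLocusField (RingHom.id F)
  have : Finite k := hk.to_subtype
  have : Fintype k := Fintype.ofFinite k
  have : CharP k p := RingHom.charP k.subtype Subtype.val_injective p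
  obtain ⟨n, hn⟩ : ∃ n, n = Fintype.card k - 1 := ⟨_, rfl⟩
  have hcop : (p ^ e).Coprime n := by
    refine Nat.Coprime.pow_left _ ((Nat.Prime.coprime_iff_not_dvd Fact.out).2 fun hdvd => ?_)
    obtain ⟨m, hm, hcard⟩ := FiniteField.card k p
    have h1 : p ∣ Fintype.card k := by rw [hcard]; exact dvd_pow_self p m.ne_zero
    have h2 : 1 < Fintype.card k := Fintype.one_lt_card
    have h3 : p ∣ Fintype.card k - n := Nat.dvd_sub h1 hdvd
    rw [hn, Nat.sub_sub_self h2.le, Nat.dvd_one] at h3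
    exact (Fact.out : p.Prime).one_lt.ne' h3
  have hpow : tor D c ^ n = 1 := by
    have hpow' : ∀ m : ℕ, tor D c ^ m = tor D (c ^ m) := by
      intro m
      induction m with
      | zero => rw [pow_zero, pow_zero, tor_one]
      | succ m ih => rw [pow_succ, pow_succ, ih, tor_mul]
    rw [hpow', tor, ← dg_one]
    refine dg_congr fun r hr => Units.ext ?_
    have e1 : torChar D (c ^ n) r = torChar D c r ^ n := by
      simp only [torChar, ← Finset.prod_pow, Pi.pow_apply]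
      exact Finset.prod_congr rfl fun i _ => by
        rw [← zpow_natCast (c i), ← zpow_mul, mul_comm, zpow_mul, zpow_natCast]
    rw [e1, Units.val_pow_eq_pow_val, Pi.one_apply, Units.val_one, hn]
    have h1 : (⟨(torChar D c r : F), (mem_eqLocus_iff σ _).2 (torChar_fixed hC σ hhe hr)⟩ : k) ≠ 0 :=
      fun h => Units.ne_zero _ (congrArg Subtype.val h)
    exact congrArg Subtype.val (FiniteField.pow_card_sub_one_eq_one _ h1)
  have hcl : ∀ y ∈ fixL hC σ, ∀ m : ℕ, (tor D c * y) ^ m * (tor D c ^ m)⁻¹ ∈ fixL hC σ := by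
    intro y hy m
    induction m with
    | zero => simp
    | succ m ih =>
      have hm : Fixed D σ (tor D c ^ (m + 1)) := by rw [Fixed, map_pow, hhe]
      have e1 : (tor D c * y) ^ (m + 1) * (tor D c ^ (m + 1))⁻¹ =
          (tor D c * y) ^ m * (tor D c ^ m)⁻¹ *
            (tor D c ^ (m + 1) * y * (tor D c ^ (m + 1))⁻¹) := by
        rw [pow_succ (tor D c * y), pow_succ (tor D c)]; group
      rw [e1]
      exact mul_mem ih (fixed_conj_fixL hC σ (pow_mem (H_le_group hC hh) _) hm hy)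
  obtain ⟨y, hyd⟩ : ∃ y, y = (tor D c)⁻¹ * l * tor D c * l' := ⟨_, rfl⟩
  have hy : y ∈ fixL hC σ := by
    have h1 := conj_fixL hC σ (inv_mem hh) (by rw [map_inv, hhe]) hl
    rw [inv_inv] at h1
    exact hyd ▸ mul_mem h1 hl'
  have e2 : l * tor D c * l' = tor D c * y := by rw [hyd]; group
  have h4 := hcl y hy (p ^ e)
  rw [← e2, hp, one_mul, inv_mem_iff] at h4
  obtain ⟨j, hj⟩ := exists_pow_eq_self_of_coprime (x := tor D c) (n := p ^ e)
    (hcop.coprime_dvd_right (orderOf_dvd_of_pow_eq_one hpow))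
  have h5 : tor D c ∈ fixL hC σ := hj ▸ pow_mem h4 j
  exact mul_mem (mul_mem hl h5) hl'

/-- A `p`-element of `fixL` is conjugate into `U`. -/
theorem exists_conj_U (p : ℕ) [Fact p.Prime] [CharP F p]
    (hD : D ∈ [chevG2, chevB2, chevD4, chevF4, chevE6, chevE7, chevE8])
    (hk : Set.Finite {t : F | σ t = t}) {x : GL D.Idx F} (hx : x ∈ fixL hC σ)
    {e : ℕ} (hp : x ^ p ^ e = 1) : ∃ y ∈ D.group F, y * x * y⁻¹ ∈ D.posUnipotent F := by
  classical
  let k := σ.eqLocusField (RingHom.id F)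
  have : Finite k := hk.to_subtype
  have : Fintype k := Fintype.ofFinite k
  have : CharP k p := RingHom.charP k.subtype Subtype.val_injective p
  have : Finite (D.group k) := inferInstance
  let f : k →+* F := k.subtype
  have hle : fixL hC σ ≤ (D.group k).map (mapGL D f) := by
    refine (Subgroup.closure_le _).2 ?_
    rintro g ⟨r, t, ht, rfl⟩
    by_cases hr : r < D.nroots
    · exact ⟨xg hC r ⟨t, ht⟩, xg_mem_group hC hr _,
        Cfsg.Agent.Chevalley.FieldFix.mapGL_xg hC f r _⟩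
    · rw [xg_out hC hr]; exact one_mem _
  obtain ⟨x₀, hx₀, rfl⟩ := hle hx
  obtain ⟨P, hP⟩ := SimpleFacts.ChevalleySylow.exists_sylow (F := k) p D hD
  have hp' : IsPGroup p (Subgroup.zpowers (⟨x₀, hx₀⟩ : D.group k)) := by
    rintro ⟨z, hz⟩
    obtain ⟨m, rfl⟩ := Subgroup.mem_zpowers_iff.1 hz
    refine ⟨e, Subtype.ext ?_⟩
    have h0 : (⟨x₀, hx₀⟩ : D.group k) ^ p ^ e = 1 := by
      refine Subtype.ext (Cfsg.Agent.Chevalley.FieldFix.mapGL_injective f ?_)
      rw [Subgroup.coe_pow, map_pow, hp, Subgroup.coe_one, map_one]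
    show ((⟨x₀, hx₀⟩ : D.group k) ^ m) ^ p ^ e = 1
    rw [← zpow_natCast, ← zpow_mul, mul_comm, zpow_mul, zpow_natCast, h0, one_zpow]
  obtain ⟨P', hP'⟩ := hp'.exists_le_sylow
  obtain ⟨y, hy⟩ := MulAction.exists_smul_eq (D.group k) P' P
  refine ⟨mapGL D f (y : GL D.Idx k), map_mem_group f y.2, ?_⟩
  have h1 : y * ⟨x₀, hx₀⟩ * y⁻¹ ∈ (P : Subgroup (D.group k)) := by
    rw [← hy, Sylow.smul_def, Sylow.pointwise_smul_def]
    exact Subgroup.smul_mem_pointwise_smul _ (MulAut.conj y) _ (hP' (Subgroup.mem_zpowers _))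
  rw [hP, Subgroup.mem_subgroupOf] at h1
  simp only [Subgroup.coe_mul, Subgroup.coe_inv] at h1
  have h2 := Cfsg.Agent.Chevalley.FieldFix.map_mem_U hC f h1
  rwa [map_mul, map_mul, map_inv] at h2

variable {N : List (List ℤ)} (hN : coefChk T N = true) (hS : stepChk T = true)
  (hA : UFixed hC σ)
include hN hS hA

/-- **Centralisers of fixed `p`-elements.** -/
theorem centralizer_fixed (p : ℕ) [Fact p.Prime] [CharP F p]
    (hD : D ∈ [chevG2, chevB2, chevD4, chevF4, chevE6, chevE7, chevE8])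
    (hk : Set.Finite {t : F | σ t = t}) {H : Subgroup (GL D.Idx F)} (hX : Ctx hC σ H)
    {x : GL D.Idx F} (hxG : x ∈ D.group F) (hxf : Fixed D σ x) (hx1 : x ≠ 1)
    {e : ℕ} (hp : x ^ p ^ e = 1) {g : GL D.Idx F} (hg : g ∈ D.group F) (h : Conjs hC σ H g)
    (hgx : g * x = x * g) : Fixed D σ g := by
  classical
  obtain ⟨y, hy, hyU⟩ := exists_conj_U hC σ p hD hk (mem_fixL_of_pow hC σ p hk hxG hxf hp) hp
  obtain ⟨f₀, hf₀, hone⟩ := exists_strict hC
  obtain ⟨Q, hQ⟩ : ∃ Q : Subgroup (GL D.Idx F), Q = Subgroup.zpowers x := ⟨_, rfl⟩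
  have hUX : D.posUnipotent F ≤ XSub hC F (fun r => 1 ≤ f₀ r) := by
    rw [U_eq_closure hC]
    exact XSub_mono hC (fun r hr hp => hone r hr hp)
  have h₀ : Feasible hC Q f₀ := by
    refine ⟨y⁻¹, inv_mem hy, fun q hq => ?_⟩
    rw [hQ] at hq
    obtain ⟨m, rfl⟩ := Subgroup.mem_zpowers_iff.1 hq
    rw [inv_inv, ← conj_zpow]
    exact Subgroup.zpow_mem _ (hUX hyU) m
  obtain ⟨f, hf, hd, ⟨g₁, hg₁, hq⟩, hmin⟩ := exists_minimal hC hf₀ h₀
  obtain ⟨J, hJd⟩ : ∃ J : Set ℕ, J = {j | f (D.simple j) = 0} := ⟨_, rfl⟩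
  have hxQ : x ∈ Q := hQ ▸ Subgroup.mem_zpowers x
  have hJ : ∃ i, i < D.rank ∧ i ∉ J := by
    by_contra hcon
    have hall : ∀ i < D.rank, i ∈ J := fun i hi => by
      by_contra h; exact hcon ⟨i, hi, h⟩
    have h1 := XSub_le_radical hC hf hd (hq x hxQ)
    rw [← hJd, radical_all_eq_bot hall, Subgroup.mem_bot] at h1
    exact hx1 (calc x = g₁ * (g₁⁻¹ * x * g₁) * g₁⁻¹ := by group
      _ = 1 := by rw [h1]; group)
  have hQf : ∀ q ∈ Q, mapGL D σ q = q := fun q hq => by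
    rw [hQ] at hq
    obtain ⟨m, rfl⟩ := Subgroup.mem_zpowers_iff.1 hq
    rw [map_zpow, hxf]
  have hσ : ∀ q ∈ Q, (mapGL D σ g₁)⁻¹ * q * mapGL D σ g₁ ∈ XSub hC F (fun r => 1 ≤ f r) := by
    intro q hq'
    have h1 := map_mem_closure_x' hC σ (hq q hq')
    rwa [map_mul, map_mul, map_inv, hQf q hq'] at h1
  have hP := feasible_unique hC hf hd hmin hg₁ (map_mem_group σ hg₁) hq hσ
  rw [← hJd] at hP
  obtain ⟨m, hmG, hmf, hm⟩ := fixed_rep hC σ hN hg₁ hP
  have hgQ : g ∈ Subgroup.normalizer (Q : Set (GL D.Idx F)) := by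
    refine Subgroup.mem_normalizer_iff.2 fun q => ?_
    have hc : ∀ q ∈ Q, g * q = q * g := fun q hq => by
      rw [hQ] at hq
      obtain ⟨m, rfl⟩ := Subgroup.mem_zpowers_iff.1 hq
      exact (Commute.zpow_right (show Commute g x from hgx) m).eq
    constructor
    · intro hq; rw [hc q hq, mul_inv_cancel_right]; exact hq
    · intro hq
      have e : q = g⁻¹ * (g * q * g⁻¹) * g := by group
      rw [e, mul_assoc, ← hc _ hq, inv_mul_cancel_left]
      exact hq
  have hgP := normalizer_le hC hf hd hmin hg₁ hq hgQ hg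
  rw [← hJd] at hgP
  have h0P : m⁻¹ * g * m ∈ D.parabolicSubgroup F J := by
    have e : m⁻¹ * g * m = (m⁻¹ * g₁) * (g₁⁻¹ * g * g₁) * (m⁻¹ * g₁)⁻¹ := by group
    rw [e]
    exact mul_mem (mul_mem hm hgP) (inv_mem hm)
  have h0 : Fixed D σ (m⁻¹ * g * m) := parabolic_fixed hC σ hN hS hA (Ctx.conj hC σ hX hmG hmf)
    hJ h0P (Conjs.mul_right hC σ (Conjs.conj_left hC σ h) hmG hmf)
  have e : g = m * (m⁻¹ * g * m) * m⁻¹ := by group
  rw [e]
  exact Fixed.mul σ (Fixed.mul σ hmf h0) (Fixed.inv σ hmf)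

end Cfsg.Agent.SimpleFacts.SubfieldOvergroup
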