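import Cfsg.Agent.SimpleFacts.SubfieldOvergroup.LongRoots

/-!
Characteristic two: a finite subgroup with fixed root parameters consists of fixed elements.
-/

set_option autoImplicit false

namespace Cfsg.Agent.SimpleFacts.SubfieldOvergroup

open Cfsg.Lie Cfsg.Agent.Chevalley.Table Cfsg.Agent.Chevalley.Check Cfsg.Agent.Chevalley.Cert
  Cfsg.Agent.Chevalley.Eval Cfsg.Agent.Chevalley.Perfect
  Cfsg.Agent.Chevalley.Group Cfsg.Agent.Chevalley.Borel Cfsg.Agent.Chevalley.Unip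
  Cfsg.Agent.Chevalley.Weyl
  Cfsg.Agent.Chevalley.FieldAut Cfsg.Agent.SimpleFacts.ChevalleySubfield

variable {D : ChevalleyDatum} {F : Type*} [Field F] {T : Tab}

/-- Elements centralising a fixed `p`-element and conjugating `fixL` into the subgroup are fixed. -/
def CentFixed (hC : Certified D T) (σ : F →+* F) (p : ℕ) : Prop :=
  ∀ H : Subgroup (GL D.Idx F), Ctx hC σ H → ∀ x ∈ D.group F, Fixed D σ x → x ≠ 1 →
    ∀ e : ℕ, x ^ p ^ e = 1 → ∀ g ∈ D.group F, Conjs hC σ H g → g * x = x * g → Fixed D σ g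

/-- All elements of finite subgroups with fixed parameters are fixed. -/
def AllFixed (hC : Certified D T) (σ : F →+* F) : Prop :=
  ∀ H : Subgroup (GL D.Idx F), Finite H → Ctx hC σ H → ∀ g ∈ H, Fixed D σ g

/-- For each root element there is a fixed involution not conjugate to it. -/
def HasTau (hC : Certified D T) (σ : F →+* F) : Prop :=
  ∀ r < D.nroots, ∀ t : F, σ t = t → t ≠ 0 → ∃ τ ∈ fixL hC σ, τ ≠ 1 ∧ τ * τ = 1 ∧
    ∀ g ∈ D.group F, g * xg hC r t * g⁻¹ ≠ τ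

variable (hC : Certified D T) (σ : F →+* F)

omit [Field F] in
/-- Two involutions are conjugate or commute with an involution of the group they generate. -/
theorem dihedral {G : Type*} [Group G] {H : Subgroup G} [Finite H] {τ y : G} (hτH : τ ∈ H)
    (hyH : y ∈ H) (hτ : τ * τ = 1) (hy : y * y = 1) :
    (∃ g ∈ H, g * τ * g⁻¹ = y) ∨
      ∃ i ∈ H, i ≠ 1 ∧ i * i = 1 ∧ i * τ = τ * i ∧ y * i = i * y := by
  obtain ⟨ρ, hρ⟩ : ∃ ρ, ρ = τ * y := ⟨_, rfl⟩
  have hτi : τ⁻¹ = τ := inv_eq_of_mul_eq_one_right hτ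
  have hyi : y⁻¹ = y := inv_eq_of_mul_eq_one_right hy
  have hρH : ρ ∈ H := hρ ▸ mul_mem hτH hyH
  have hn : 0 < orderOf ρ := by
    have := orderOf_pos (⟨ρ, hρH⟩ : H)
    rwa [← Subgroup.orderOf_coe] at this
  have c1 : τ * ρ * τ⁻¹ = ρ⁻¹ := by
    rw [hρ, mul_inv_rev, hyi, hτi, ← mul_assoc τ τ y, hτ, one_mul]
  have c2 : y * ρ * y⁻¹ = ρ⁻¹ := by
    rw [hρ, mul_inv_rev, hyi, hτi, mul_assoc y (τ * y) y, mul_assoc τ y y, hy, mul_one]
  have conjτ : ∀ k : ℕ, τ * ρ ^ k = (ρ ^ k)⁻¹ * τ := fun k => by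
    rw [← inv_pow, ← c1, conj_pow]; group
  obtain ⟨m, hm⟩ := Nat.even_or_odd' (orderOf ρ)
  rcases hm with hm | hm
  · right
    refine ⟨ρ ^ m, pow_mem hρH m, ?_, ?_, ?_, ?_⟩
    · intro h
      have := Nat.le_of_dvd (by omega) (orderOf_dvd_of_pow_eq_one h)
      omega
    · rw [← pow_add, ← two_mul, ← hm]; exact pow_orderOf_eq_one ρ
    all_goals
      have hi : (ρ ^ m)⁻¹ = ρ ^ m :=
        inv_eq_of_mul_eq_one_right (by rw [← pow_add, ← two_mul, ← hm]; exact pow_orderOf_eq_one ρ)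
    · rw [conjτ, hi]
    · calc y * ρ ^ m = y * ρ ^ m * y⁻¹ * y := by group
        _ = ρ ^ m * y := by rw [← conj_pow, c2, inv_pow, hi]
  · left
    refine ⟨ρ ^ m, pow_mem hρH m, ?_⟩
    have h1 : ρ ^ (2 * m) = ρ⁻¹ := by
      refine eq_inv_of_mul_eq_one_left ?_
      rw [← pow_succ, ← hm]; exact pow_orderOf_eq_one ρ
    calc ρ ^ m * τ * (ρ ^ m)⁻¹ = ρ ^ m * (τ * ρ ^ m * (ρ ^ m)⁻¹ * (ρ ^ m)⁻¹) := by group
      _ = ρ ^ m * ((ρ ^ m)⁻¹ * τ * (ρ ^ m)⁻¹ * (ρ ^ m)⁻¹) := by rw [conjτ]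
      _ = τ * (ρ ^ (2 * m))⁻¹ := by rw [two_mul, pow_add]; group
      _ = τ * ρ := by rw [h1, inv_inv]
      _ = y := by rw [hρ, ← mul_assoc, hτ, one_mul]

include hC

/-- **Fixed parameters imply fixed elements, in characteristic two.** -/
theorem allFixed_even [CharP F 2] (hcent : CentFixed hC σ 2) (hT : HasTau hC σ) :
    AllFixed hC σ := by
  intro H hH hX g hg
  refine fixed_of_all hC σ (hX.le_group hg) fun r hr t ht => ?_
  rcases eq_or_ne t 0 with rfl | ht0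
  · rw [xg_zero hC, mul_one, mul_inv_cancel]; exact map_one _
  obtain ⟨τ, hτL, hτ1, hτ2, hτn⟩ := hT r hr t ht ht0
  obtain ⟨y, hyd⟩ : ∃ y, y = g * xg hC r t * g⁻¹ := ⟨_, rfl⟩
  have hxL := xg_mem_fixL hC σ r ht
  have hyH : y ∈ H := hyd ▸ mul_mem (mul_mem hg (hX.fixL_le hxL)) (inv_mem hg)
  have hy2 : y * y = 1 := by
    rw [hyd]
    calc g * xg hC r t * g⁻¹ * (g * xg hC r t * g⁻¹) = g * (xg hC r t * xg hC r t) * g⁻¹ := by group
      _ = 1 := by rw [← xg_add hC, CharTwo.add_self_eq_zero, xg_zero hC]; group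
  rw [← hyd]
  rcases dihedral (hX.fixL_le hτL) hyH hτ2 hy2 with ⟨a, ha, he⟩ | ⟨i, hi, hi1, hi2, hiτ, hyi⟩
  · exfalso
    refine hτn (a⁻¹ * g) (mul_mem (inv_mem (hX.le_group ha)) (hX.le_group hg)) ?_
    calc a⁻¹ * g * xg hC r t * (a⁻¹ * g)⁻¹ = a⁻¹ * y * a := by rw [hyd]; group
      _ = τ := by rw [← he]; group
  · have hif : Fixed D σ i := hcent H hX τ (fixL_le_group hC σ hτL) (fixed_of_mem_fixL hC σ hτL)
      hτ1 1 (by rwa [pow_one, pow_two]) i (hX.le_group hi) (conjs_of_mem hC σ hX hi) hiτ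
    exact hcent H hX i (hX.le_group hi) hif hi1 1 (by rwa [pow_one, pow_two]) y (hX.le_group hyH)
      (conjs_of_mem hC σ hX hyH) hyi

variable {c : Cls} (hc : c.Sound F) {h : ℕ} (hh : centralChk c T [h] = true) {O : List ℕ}
  (hO : orbitChk T h O = true)
include hc hh hO

/-- Non-simply laced: the highest roots of both lengths serve. -/
theorem hasTau_short [CharP F 2] {s : ℕ} (hs : s < D.nroots) (hsp : 0 < T.phi s) (hsO : s ∉ O)
    (hD : domChk T [h, s] = true) : HasTau hC σ := by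
  intro r hr t ht ht0
  obtain ⟨hhl, hhp, -⟩ := h_spec hC hc hh
  obtain ⟨L, hL, d, hd, hdl, rfl⟩ := exists_dom_conj hC hD r hr
  obtain ⟨t', ht', ht'0, e⟩ := conj_root hC hL hdl σ ht
  have hn : nL hC F L ∈ D.group F := N_le_group hC (nL_mem_N hC hL)
  have hsq : ∀ a : ℕ, xg hC a (1 : F) * xg hC a 1 = 1 := fun a => by
    rw [← xg_add hC, CharTwo.add_self_eq_zero, xg_zero hC]
  have hne1 : ∀ a < D.nroots, xg hC a (1 : F) ≠ 1 := fun a ha h1 => by
    rw [← xg_zero hC a] at h1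
    exact one_ne_zero (xg_injective hC ha h1)
  rcases List.mem_cons.1 hd with rfl | hd
  · refine ⟨xg hC s 1, xg_mem_fixL hC σ s (map_one σ), hne1 s hs, hsq s, fun g hg hh' => ?_⟩
    refine not_conj_short hC hc hh hO hs hsp hsO one_ne_zero (ht'0 ht0)
      (mul_mem hg hn) ?_
    rw [← hh', e]; group
  · rw [List.mem_singleton] at hd
    subst hd
    refine ⟨xg hC h 1, xg_mem_fixL hC σ h (map_one σ), hne1 h hhl, hsq h, fun g hg hh' => ?_⟩
    refine not_conj_short hC hc hh hO hs hsp hsO (ht'0 ht0) (one_ne_zero (α := F))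
      (inv_mem (mul_mem hg hn)) ?_
    rw [← hh', e]; group

/-- Simply laced: a product of two orthogonal fundamental root elements serves. -/
theorem hasTau_pair [CharP F 2] {i j : ℕ} (hij : orthChk T i j = true)
    (hD : domChk T [h] = true) : HasTau hC σ := by
  intro r hr t ht ht0
  obtain ⟨L, hL, d, hd, hdl, rfl⟩ := exists_dom_conj hC hD r hr
  rw [List.mem_singleton] at hd
  subst hd
  obtain ⟨t', ht', ht'0, e⟩ := conj_root hC hL hdl σ ht
  have hn : nL hC F L ∈ D.group F := N_le_group hC (nL_mem_N hC hL)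
  have hij' := hij
  simp only [orthChk, Bool.and_eq_true, Nat.blt_eq, hC.l_eq] at hij'
  obtain ⟨hi, hj, hlt, hemp, -⟩ := hij'
  rw [hC.simple_eq hi, hC.simple_eq hj] at hlt
  rw [hC.simple_eq hi, hC.simple_eq hj, commOf_eq hC (hC.simple_lt hi) (hC.simple_lt hj),
    List.isEmpty_iff] at hemp
  have hcomm : xg hC (D.simple j) (1 : F) * xg hC (D.simple i) 1 =
      xg hC (D.simple i) 1 * xg hC (D.simple j) 1 := by
    rcases xg_commute (F := F) hC (hC.simple_lt hi) (hC.simple_lt hj) (hC.phi_simple hi)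
      (hC.phi_simple hj) 1 1 with h1 | h1
    · omega
    · simpa [ChevalleyDatum.commWord, hemp] using h1
  refine ⟨xg hC (D.simple i) 1 * xg hC (D.simple j) 1,
    mul_mem (xg_mem_fixL hC σ _ (map_one σ)) (xg_mem_fixL hC σ _ (map_one σ)), ?_, ?_,
    fun g hg hh' => not_conj_pair hC hc hh hO hij (ht'0 ht0) (mul_mem hg hn) ?_⟩
  · intro h1
    refine one_ne_zero (α := F) (Cfsg.Agent.SimpleFacts.ChevalleyRadical.not_mem_Uge hC (hC.simple_lt hi) (hC.phi_simple hi) ?_)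
    rw [mul_eq_one_iff_eq_inv.1 h1]
    exact inv_mem (xg_mem_Uge hC (hC.simple_lt hj) (hC.phi_simple hj) hlt 1)
  · obtain ⟨A, hA⟩ : ∃ A, A = xg hC (D.simple i) (1 : F) := ⟨_, rfl⟩
    obtain ⟨B, hB⟩ : ∃ B, B = xg hC (D.simple j) (1 : F) := ⟨_, rfl⟩
    have hA2 : A * A = 1 := by rw [hA, ← xg_add hC, CharTwo.add_self_eq_zero, xg_zero hC]
    have hB2 : B * B = 1 := by rw [hB, ← xg_add hC, CharTwo.add_self_eq_zero, xg_zero hC]
    rw [← hA, ← hB] at hcomm ⊢
    calc A * B * (A * B) = A * (B * A) * B := by group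
      _ = A * A * (B * B) := by rw [hcomm]; group
      _ = 1 := by rw [hA2, hB2, one_mul]
  · rw [← hh', e]; group

end Cfsg.Agent.SimpleFacts.SubfieldOvergroup
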