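import Cfsg.Agent.SimpleFacts.SubfieldOvergroup.ParamPair
import Cfsg.Agent.SimpleFacts.SubfieldOvergroup.Even
import Cfsg.Agent.SimpleFacts.SubfieldOvergroup.CentralizerFixed

/-!
Assembly of the two main facts from the checks on a table.
-/

set_option autoImplicit false

namespace Cfsg.Agent.SimpleFacts.SubfieldOvergroup

open Cfsg.Lie Cfsg.Agent.Chevalley.Table Cfsg.Agent.Chevalley.Check Cfsg.Agent.Chevalley.Cert
  Cfsg.Agent.Chevalley.Coef Cfsg.Agent.Chevalley.Eval
  Cfsg.Agent.Chevalley.Group Cfsg.Agent.Chevalley.Borel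
  Cfsg.Agent.Chevalley.FieldAut Cfsg.Agent.SimpleFacts.ChevalleySubfield
  Cfsg.Agent.SimpleFacts.ChevalleyRadical

/-- Constants of absolute value one to three are units, zero is zero. -/
def clsBig : Cls where
  unit z := Nat.blt 0 z.natAbs && Nat.blt z.natAbs 4
  zero z := Nat.beq z.natAbs 0

/-- The classification for the characteristic. -/
def clsOf (p : ℕ) : Cls := if p = 2 then cls 2 else if p = 3 then cls 3 else clsBig

variable {F : Type*} [Field F] (p : ℕ) [Fact p.Prime] [CharP F p]

theorem intCast_eq_zero_natAbs (z : ℤ) : (z : F) = 0 ↔ p ∣ z.natAbs := by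
  rw [CharP.intCast_eq_zero_iff F p, Int.natCast_dvd]

theorem cls_sound : (cls p).Sound F := by
  constructor
  · intro z h
    simp only [cls, Bool.and_eq_true, Bool.not_eq_true', Nat.blt_eq] at h
    rw [Ne, intCast_eq_zero_natAbs p, Nat.dvd_iff_mod_eq_zero]
    intro h0
    simp [h0] at h
  · intro z h
    simp only [cls, Bool.and_eq_true, Nat.beq_eq] at h
    rw [intCast_eq_zero_natAbs p, Nat.dvd_iff_mod_eq_zero]
    exact h.1

theorem clsBig_sound (h2 : p ≠ 2) (h3 : p ≠ 3) : clsBig.Sound F := by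
  constructor
  · intro z h
    simp only [clsBig, Bool.and_eq_true, Nat.blt_eq] at h
    rw [Ne, intCast_eq_zero_natAbs p]
    intro hd
    have := Nat.le_of_dvd h.1 hd
    have := (Fact.out : p.Prime).two_le
    omega
  · intro z h
    simp only [clsBig, Nat.beq_eq] at h
    rw [intCast_eq_zero_natAbs p, h]
    exact dvd_zero p

omit [Fact p.Prime] [CharP F p] in
theorem cls_two_unit [CharP F 2] {z : ℤ} (h : (cls 2).unit z = true) : (z : F) = 1 := by
  simp only [cls, Bool.and_eq_true, Bool.not_eq_true', Nat.blt_eq] at h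
  have h1 : z % 2 = 1 := by
    have : z.natAbs % 2 ≠ 0 := fun h0 => by simp [h0] at h
    omega
  obtain ⟨m, hm⟩ : ∃ m, z = 2 * m + 1 := ⟨z / 2, by omega⟩
  rw [hm]; push_cast
  rw [CharTwo.two_eq_zero, zero_mul, zero_add]

variable {D : ChevalleyDatum} {T : Tab} (hC : Certified D T) (σ : F →+* F)
include hC

theorem centFixed_of {N : List (List ℤ)} (hN : coefChk T N = true) (hS : stepChk T = true)
    (hA : UFixed hC σ) (hD : D ∈ [chevG2, chevB2, chevD4, chevF4, chevE6, chevE7, chevE8])
    (hk : Set.Finite {t : F | σ t = t}) : CentFixed hC σ p :=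
  fun _ hX _ hxG hxf hx1 _ hp _ hg h hgx =>
    centralizer_fixed hC σ hN hS hA p hD hk hX hxG hxf hx1 hp hg h hgx

end Cfsg.Agent.SimpleFacts.SubfieldOvergroup
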