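import Cfsg.Agent.Lib.Chevalley.Perfect

/-!
Checks on the commutator table used for the overgroups of a subfield subgroup.
-/

set_option autoImplicit false

namespace Cfsg.Agent.SimpleFacts.SubfieldOvergroup

open Cfsg.Agent.Chevalley.Table Cfsg.Agent.Chevalley.Check Cfsg.Agent.Chevalley.Eval

/-- Term of a commutator: index, constant, degree in the first and in the second parameter. -/
abbrev Trm := ℕ × ℤ × ℕ × ℕ

/-- Constants declared non-zero, resp. zero, in the field. -/
structure Cls where
  unit : ℤ → Bool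
  zero : ℤ → Bool

/-- The sound classifications for a field. -/
structure Cls.Sound (c : Cls) (F : Type*) [Field F] : Prop where
  unit_ne : ∀ z, c.unit z = true → (z : F) ≠ 0
  zero_eq : ∀ z, c.zero z = true → (z : F) = 0

/-- Divisibility of the absolute value by `p`, on small constants. -/
def cls (p : ℕ) : Cls where
  unit z := !Nat.beq z.natAbs 0 && (Nat.blt z.natAbs 4 && !Nat.beq (z.natAbs % p) 0)
  zero z := Nat.beq (z.natAbs % p) 0 && (Nat.blt z.natAbs 4)

/-- All terms are zero or have index above `k`. -/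
noncomputable def lowAll (c : Cls) (k : ℕ) (L : List Trm) : Bool :=
  allL (fun x => c.zero x.2.1 || Nat.blt k x.1) L

/-- A term `k` with unit constant, linear in the second parameter; the others are low. -/
noncomputable def leadL (c : Cls) (k : ℕ) (L : List Trm) : Bool :=
  List.rec false (fun x rest ih =>
    (Nat.beq x.1 k && (c.unit x.2.1 && (Nat.beq x.2.2.2 1 && lowAll c k rest))) ||
      ((c.zero x.2.1 || Nat.blt k x.1) && ih)) L

/-- One step of the peeling: commute with `x_s(1)` and read off the root `k`. -/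
noncomputable def stepOK (c : Cls) (T : Tab) (e : ℕ × ℕ × ℕ) : Bool :=
  Nat.blt e.2.1 T.n && (iblt 0 (T.phi e.2.1) && (!Nat.beq e.2.1 e.1 && (Nat.blt e.1 e.2.2 &&
    (leadL c e.2.2 (commOf T.E e.2.1 e.1) && allR T.n fun b =>
      !(Nat.blt e.1 b && (iblt 0 (T.phi b) && !Nat.beq b e.2.1)) ||
        lowAll c e.2.2 (commOf T.E e.2.1 b)))))

/-- The roots in `Z` are central among the positive roots. -/
noncomputable def centralChk (c : Cls) (T : Tab) (Z : List ℕ) : Bool :=
  allL (fun k => Nat.blt k T.n && (iblt 0 (T.phi k) && allR T.n fun r =>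
    !(iblt 0 (T.phi r) && !Nat.beq r k) || allL (fun x => c.zero x.2.1) (commOf T.E k r))) Z

/-- Every positive root outside `Z` is treated by a step. -/
noncomputable def peelChk (c : Cls) (T : Tab) (Z : List ℕ) (S : List (ℕ × ℕ × ℕ)) : Bool :=
  allR T.n fun a => !(iblt 0 (T.phi a)) || (List.elem a Z ||
    List.rec false (fun e _ ih => (Nat.beq e.1 a && stepOK c T e) || ih) S)

theorem of_leadL {c : Cls} {k : ℕ} : ∀ {L : List Trm}, leadL c k L = true →
    ∃ (L₁ L₂ : List Trm) (C : ℤ) (i : ℕ), L = L₁ ++ (k, C, i, 1) :: L₂ ∧ c.unit C = true ∧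
      ∀ x ∈ L₁ ++ L₂, c.zero x.2.1 = true ∨ k < x.1
  | [], h => by simp [leadL] at h
  | x :: rest, h => by
    simp only [leadL, Bool.or_eq_true, Bool.and_eq_true, Nat.beq_eq, Nat.blt_eq] at h
    rcases h with ⟨h1, h2, h3, h4⟩ | ⟨hz, h⟩
    · refine ⟨[], rest, x.2.1, x.2.2.1, ?_, h2, fun y hy => ?_⟩
      · obtain ⟨a, b, i, j⟩ := x
        simp only at h1 h3
        simp [h1, h3]
      · simpa [Nat.blt_eq] using of_allL h4 y (by simpa using hy)
    · obtain ⟨L₁, L₂, C, i, e, hC, hall⟩ := of_leadL (L := rest) h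
      refine ⟨x :: L₁, L₂, C, i, by rw [e]; rfl, hC, fun y hy => ?_⟩
      rcases List.mem_cons.1 hy with rfl | hy
      · exact hz
      · exact hall y hy

theorem exists_step_of_rec {c : Cls} {T : Tab} {a : ℕ} : ∀ {S : List (ℕ × ℕ × ℕ)},
    (List.rec false (fun e _ ih => (Nat.beq e.1 a && stepOK c T e) || ih) S : Bool) = true →
      ∃ s k, stepOK c T (a, s, k) = true
  | [], h => by simp at h
  | e :: S, h => by
    simp only [Bool.or_eq_true, Bool.and_eq_true, Nat.beq_eq] at h
    rcases h with ⟨h1, h2⟩ | h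
    · exact ⟨e.2.1, e.2.2, by rw [← h1]; exact h2⟩
    · exact exists_step_of_rec h

end Cfsg.Agent.SimpleFacts.SubfieldOvergroup
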