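import Cfsg.Agent.SimpleFacts.SubfieldOvergroup.Assemble
import Cfsg.Agent.Lib.Chevalley.Types.CoefG2

/-!
Subgroups containing a subfield subgroup, type G2: the checks and their consequences.
-/

set_option autoImplicit false

namespace Cfsg.Agent.SimpleFacts.SubfieldOvergroup.DataG2

open Cfsg.Lie Cfsg.Agent.Chevalley.Table Cfsg.Agent.Chevalley.Check Cfsg.Agent.Chevalley.Cert
  Cfsg.Agent.Chevalley.Eval Cfsg.Agent.Chevalley.Perfect Cfsg.Agent.Chevalley.Group
  Cfsg.Agent.SimpleFacts.ChevalleyRadical

/-- The table. -/
noncomputable abbrev tb : Tab := Cfsg.Agent.Chevalley.Data.G2.tab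

/-- The orbit of the highest root. -/
def orb : List ℕ :=
  [0, 1, 5, 6, 10, 11]

/-- The steps of the peeling, case two. -/
def steps_two : List (ℕ × ℕ × ℕ) :=
  [(6, 7, 8), (7, 6, 8), (8, 9, 11), (9, 7, 10), (10, 6, 11)]

theorem peel_two : peelChk (cls 2) tb [11] steps_two = true := by decide +kernel
theorem centralH_two : centralChk (cls 2) tb [11] = true := by decide +kernel

/-- The steps of the peeling, case three. -/
def steps_three : List (ℕ × ℕ × ℕ) :=
  [(6, 7, 8), (7, 6, 8), (8, 7, 9), (10, 6, 11)]

theorem peel_three : peelChk (cls 3) tb [9, 11] steps_three = true := by decide +kernel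
theorem centralH_three : centralChk (cls 3) tb [11] = true := by decide +kernel
theorem central_three : centralChk (cls 3) tb [9, 11] = true := by decide +kernel
theorem pos_three : posChk (cls 3) tb 11 orb = true := by decide +kernel
theorem even_three : evenChk (cls 3) tb 11 = true := by decide +kernel
theorem opp_three : oppChk (cls 3) tb 11 6 1 false = true := by decide +kernel

/-- The steps of the peeling, case big. -/
def steps_big : List (ℕ × ℕ × ℕ) :=
  [(6, 7, 8), (7, 6, 8), (8, 7, 9), (9, 7, 10), (10, 6, 11)]

theorem peel_big : peelChk clsBig tb [11] steps_big = true := by decide +kernel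
theorem centralH_big : centralChk clsBig tb [11] = true := by decide +kernel
theorem pos_big : posChk clsBig tb 11 orb = true := by decide +kernel
theorem even_big : evenChk clsBig tb 11 = true := by decide +kernel
theorem opp_big : oppChk clsBig tb 11 6 1 false = true := by decide +kernel

theorem orbit_ok : orbitChk tb 11 orb = true := by decide +kernel
theorem dom_ok : domChk tb [11, 9] = true := by decide +kernel
theorem step_ok : stepChk tb = true := by decide +kernel
theorem two_ok : twoOrbitChk tb 11 9 orb = true := by decide +kernel

variable {F : Type*} [Field F] (p : ℕ) [Fact p.Prime] [CharP F p] (σ : F →+* F)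

include p in
/-- **Both facts.** -/
theorem good (hk : Set.Finite {t : F | σ t = t}) :
    AllFixed Cfsg.Agent.Chevalley.Types.G2.certified σ ∧
      ParamFld Cfsg.Agent.Chevalley.Types.G2.certified σ := by
  have hC := Cfsg.Agent.Chevalley.Types.G2.certified
  have hcent : UFixed hC σ → CentFixed hC σ p := fun hA =>
    centFixed_of p hC σ Cfsg.Agent.Chevalley.Types.CoefG2.coef_ok step_ok hA (by simp) hk
  rcases eq_or_ne p 2 with rfl | hp2
  · have hc : (cls 2).Sound F := cls_sound 2
    have hst : Stuck hC σ [11] := stuck_single hC σ hc centralH_two (d := 6)
      (by decide +kernel)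
    have hA : UFixed hC σ := uFixed hC σ hc centralH_two peel_two hst
    exact ⟨allFixed_even hC σ (hcent hA) (hasTau_short hC σ hc centralH_two orbit_ok (s := 9) (by decide +kernel)
      (by decide +kernel) (by decide +kernel) dom_ok),
      paramFld_mixed hC σ two_ok (by decide +kernel) 2 hc (a := 0) (b := 6) (k := 1)
      (a' := 2) (b' := 3) (k' := 0)
      (r := 6) (d := 4) (by decide +kernel) (by decide +kernel) (by decide +kernel)
      (by decide +kernel) (by decide +kernel) (by decide +kernel)
      (by decide +kernel) (by decide +kernel) (by decide +kernel)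
      (by decide +kernel) (by decide +kernel) (by decide +kernel)
      (by decide +kernel) (by decide +kernel) (by decide +kernel)
      (by decide +kernel)⟩
  have hne : (2 : F) ≠ 0 := fun h => hp2 ((Nat.prime_dvd_prime_iff_eq Fact.out Nat.prime_two).1
    ((CharP.cast_eq_zero_iff F p 2).1 (by exact_mod_cast h)))
  rcases eq_or_ne p 3 with rfl | hp3
  · have hc : (cls 3).Sound F := cls_sound 3
    have hst : Stuck hC σ [9, 11] := stuck_two hC σ hc centralH_three central_three (e := 11) (by decide +kernel)
      (by decide +kernel) (by decide +kernel) hne
      (stuck_single hC σ hc centralH_three (d := 6) (by decide +kernel))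
    have hA : UFixed hC σ := uFixed hC σ hc central_three peel_three hst
    exact ⟨allFixed_odd hC σ hc centralH_three orbit_ok 3 hp2 hA (hcent hA) pos_three
      even_three opp_three dom_ok (by decide +kernel),
      paramFld_special hC σ two_ok (by decide +kernel) 3 hc (a := 0) (b := 6) (k := 1)
      (a' := 2) (b' := 7) (k' := 3)
      (r := 6) (d := 4) (r' := 7) (d' := 5) (by decide +kernel) (by decide +kernel) (by decide +kernel)
      (by decide +kernel) (by decide +kernel) (by decide +kernel)
      (by decide +kernel) (by decide +kernel) (by decide +kernel)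
      (by decide +kernel) (by decide +kernel) (by decide +kernel)
      (by decide +kernel) (by decide +kernel) (by decide +kernel)
      (by decide +kernel) (by decide +kernel) (by decide +kernel)
      (by decide +kernel) (by decide +kernel) (by decide +kernel)
      (by decide +kernel)⟩
  · have hc : clsBig.Sound F := clsBig_sound p hp2 hp3
    have hst : Stuck hC σ [11] := stuck_single hC σ hc centralH_big (d := 6)
      (by decide +kernel)
    have hA : UFixed hC σ := uFixed hC σ hc centralH_big peel_big hst
    exact ⟨allFixed_odd hC σ hc centralH_big orbit_ok p hp2 hA (hcent hA) pos_big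
      even_big opp_big dom_ok (by decide +kernel),
      paramFld_mixed hC σ two_ok (by decide +kernel) p hc (a := 0) (b := 6) (k := 1)
      (a' := 2) (b' := 3) (k' := 0)
      (r := 6) (d := 4) (by decide +kernel) (by decide +kernel) (by decide +kernel)
      (by decide +kernel) (by decide +kernel) (by decide +kernel)
      (by decide +kernel) (by decide +kernel) (by decide +kernel)
      (by decide +kernel) (by decide +kernel) (by decide +kernel)
      (by decide +kernel) (by decide +kernel) (by decide +kernel)
      (by decide +kernel)⟩

end Cfsg.Agent.SimpleFacts.SubfieldOvergroup.DataG2
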