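import Cfsg.Agent.SimpleFacts.SubfieldOvergroup.Peel

/-!
The orbit of the highest root and the conjugates of its root elements.
-/

set_option autoImplicit false

namespace Cfsg.Agent.SimpleFacts.SubfieldOvergroup

open Cfsg.Lie Cfsg.Agent.Chevalley.Table Cfsg.Agent.Chevalley.Check Cfsg.Agent.Chevalley.Cert
  Cfsg.Agent.Chevalley.Eval Cfsg.Agent.Chevalley.Perfect
  Cfsg.Agent.Chevalley.Group Cfsg.Agent.Chevalley.Borel Cfsg.Agent.Chevalley.Unip
  Cfsg.Agent.Chevalley.NormalForm Cfsg.Agent.Chevalley.Bruhat Cfsg.Agent.Chevalley.Weyl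
  Cfsg.Agent.Chevalley.FieldAut Cfsg.Agent.SimpleFacts.ChevalleySubfield
  Cfsg.Agent.SimpleFacts.ChevalleyRadical

/-- The list contains `h` and is closed under the fundamental reflections. -/
noncomputable def orbitChk (T : Tab) (h : ℕ) (O : List ℕ) : Bool :=
  List.elem h O && allL (fun r => Nat.blt r T.n && allR T.l fun i => List.elem (T.refl i r) O) O

/-- Every dominant root is in the list. -/
noncomputable def domChk (T : Tab) (Dm : List ℕ) : Bool :=
  allR T.n fun r => !dom T r || List.elem r Dm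

/-- Two commuting fundamental roots, the second not reached by commutators from the first. -/
noncomputable def orthChk (T : Tab) (i j : ℕ) : Bool :=
  Nat.blt i T.l && (Nat.blt j T.l && (Nat.blt (T.simple i) (T.simple j) &&
    (List.isEmpty (commOf T.E (T.simple i) (T.simple j)) &&
      allR T.n fun r => !(iblt 0 (T.phi r)) ||
        allL (fun x => !Nat.beq x.1 (T.simple j)) (commOf T.E (T.simple i) r))))

variable {D : ChevalleyDatum} {F : Type*} [Field F] {T : Tab} (hC : Certified D T)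
include hC

theorem orbit_mem {h : ℕ} {O : List ℕ} (hO : orbitChk T h O = true) :
    ∀ {L : List ℕ}, (∀ i ∈ L, i < D.rank) → wL D L h ∈ O
  | [], _ => by
    simp only [orbitChk, Bool.and_eq_true] at hO
    simpa [wL] using hO.1
  | i :: L, hL => by
    have ih := orbit_mem hO (L := L) fun j hj => hL j (List.mem_cons_of_mem i hj)
    simp only [orbitChk, Bool.and_eq_true] at hO
    have h1 := of_allL hO.2 _ ih
    simp only [Bool.and_eq_true, Nat.blt_eq, hC.n_eq] at h1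
    have hi := hL i List.mem_cons_self
    have h2 := of_allR h1.2 i (by rw [hC.l_eq]; exact hi)
    rw [← hC.reflect_eq hi h1.1] at h2
    simpa [wL] using h2

theorem exists_dom_conj {Dm : List ℕ} (hD : domChk T Dm = true) :
    ∀ r < D.nroots, ∃ L : List ℕ, (∀ i ∈ L, i < D.rank) ∧ ∃ d ∈ Dm, d < D.nroots ∧ wL D L d = r := by
  refine Cfsg.Agent.Chevalley.Root.dom_induction hC
    (P := fun r => ∃ L : List ℕ, (∀ i ∈ L, i < D.rank) ∧ ∃ d ∈ Dm, d < D.nroots ∧ wL D L d = r)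
    (fun r hr hd => ⟨[], by simp, r, ?_, hr, rfl⟩) fun r hr i hi ⟨L, hL, d, hd, hdl, e⟩ => ?_
  · have h1 := of_allR hD r (by rw [hC.n_eq]; exact hr)
    rw [hd] at h1
    simpa using h1
  · refine ⟨i :: L, fun j hj => ?_, d, hd, hdl, ?_⟩
    · rcases List.mem_cons.1 hj with rfl | hj
      · exact hi
      · exact hL j hj
    · show D.reflectRoot i (wL D L d) = r
      rw [e, hC.reflect_reflect hi hr]

theorem conj_root {L : List ℕ} (hL : ∀ i ∈ L, i < D.rank) {d : ℕ} (hd : d < D.nroots) (σ : F →+* F)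
    {t : F} (ht : σ t = t) : ∃ t' : F, σ t' = t' ∧ (t ≠ 0 → t' ≠ 0) ∧
      xg hC (wL D L d) t = nL hC F L * xg hC d t' * (nL hC F L)⁻¹ := by
  obtain ⟨η, hη, e⟩ := nL_conj_x (F := F) hC hL hd
  have hf : Fixed D σ (nL hC F L) := map_nL hC σ L
  have hση : σ η = η := by
    have h1 : Fixed D σ (xg hC (wL D L d) (η * 1)) := by
      rw [← e]
      exact Fixed.mul σ (Fixed.mul σ hf (fixed_xg hC σ (map_one σ))) (Fixed.inv σ hf)
    have := param_of_fixed_xg hC σ (wL_lt hC hL hd) h1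
    simpa using this
  refine ⟨η⁻¹ * t, by rw [map_mul, map_inv₀, hση, ht],
    fun h => mul_ne_zero (inv_ne_zero hη) h, ?_⟩
  rw [e, ← mul_assoc, mul_inv_cancel₀ hη, one_mul]

theorem lead_unique {a b : ℕ} (ha : a < D.nroots) (hpa : 0 < T.phi a) (hb : b < D.nroots)
    (hpb : 0 < T.phi b) {s t : F} (hs : s ≠ 0) (ht : t ≠ 0) {w w' : GL D.Idx F}
    (hw : w ∈ Uge hC F (a + 1)) (hw' : w' ∈ Uge hC F (b + 1))
    (h : xg hC a s * w = xg hC b t * w') : a = b := by
  rcases lt_trichotomy a b with hab | hab | hab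
  · refine absurd (not_mem_Uge hC ha hpa (η := s) ?_) hs
    have e : xg hC a s = xg hC b t * w' * w⁻¹ := by rw [← h]; group
    rw [e]
    exact mul_mem (mul_mem (xg_mem_Uge hC hb hpb hab t) (Uge_mono hC (by omega) hw')) (inv_mem hw)
  · exact hab
  · refine absurd (not_mem_Uge hC hb hpb (η := t) ?_) ht
    have e : xg hC b t = xg hC a s * w * w'⁻¹ := by rw [h]; group
    rw [e]
    exact mul_mem (mul_mem (xg_mem_Uge hC ha hpa hab s) (Uge_mono hC (by omega) hw)) (inv_mem hw')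

variable {c : Cls} (hc : c.Sound F) {h : ℕ} (hh : centralChk c T [h] = true)
include hc hh

theorem h_spec : h < D.nroots ∧ 0 < T.phi h ∧
    ∀ u ∈ D.posUnipotent F, ∀ t : F, xg hC h t * u = u * xg hC h t := by
  have h0 := of_allL hh h List.mem_cons_self
  simp only [Bool.and_eq_true, Nat.blt_eq, hC.n_eq, iblt_iff] at h0
  refine ⟨h0.1, h0.2.1, fun u hu t => ?_⟩
  exact (zsub_central hC hc hh
    (Subgroup.subset_closure ⟨h, List.mem_cons_self, t, rfl⟩)).2 u hu

variable {O : List ℕ} (hO : orbitChk T h O = true)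
include hO

/-- A conjugate of a highest root element is `u x_γ(t) u⁻¹` with `γ` in the orbit. -/
theorem long_conj {g : GL D.Idx F} (hg : g ∈ D.group F) (t : F) :
    ∃ γ ∈ O, γ < D.nroots ∧ ∃ u ∈ D.posUnipotent F, ∃ t' : F, (t ≠ 0 → t' ≠ 0) ∧
      g * xg hC h t * g⁻¹ = u * xg hC γ t' * u⁻¹ := by
  obtain ⟨hhl, -, hcen⟩ := h_spec hC hc hh
  obtain ⟨b, hb, n, hn, u', hu', rfl⟩ := exists_form hC hg
  obtain ⟨cc, L, hL, rfl⟩ := (mem_N_iff hC).1 hn
  obtain ⟨η, hη, e⟩ := conj_xg (F := F) hC hL cc hhl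
  obtain ⟨v, hv, d, hd, rfl⟩ := (mem_B_iff hC).1 hb
  obtain ⟨dd, rfl⟩ := (mem_H_iff hC).1 hd
  have hwl := wL_lt hC hL hhl
  refine ⟨wL D L h, orbit_mem hC hO hL, hwl, v, hv, (torChar D dd (wL D L h) : F) * (η * t),
    fun ht => mul_ne_zero (Units.ne_zero _) (mul_ne_zero hη ht), ?_⟩
  rw [← tor_conj_x hC dd (wL D L h) (η * t) hwl, ← e]
  have hu : u' * xg hC h t * u'⁻¹ = xg hC h t := by
    rw [← hcen u' (Uminus_le_U hC _ hu'), mul_inv_cancel_right]
  calc v * tor D dd * (tor D cc * nL hC F L) * u' * xg hC h t *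
        (v * tor D dd * (tor D cc * nL hC F L) * u')⁻¹
      = v * (tor D dd * (tor D cc * nL hC F L * (u' * xg hC h t * u'⁻¹) *
          (tor D cc * nL hC F L)⁻¹) * (tor D dd)⁻¹) * v⁻¹ := by group
    _ = _ := by rw [hu]

/-- If a conjugate of a highest root element lies in `U`, its leading root is in the orbit. -/
theorem long_lead {g : GL D.Idx F} (hg : g ∈ D.group F) {t : F} (ht : t ≠ 0)
    (hy : g * xg hC h t * g⁻¹ ∈ D.posUnipotent F) :
    ∃ γ ∈ O, γ < D.nroots ∧ 0 < T.phi γ ∧ ∃ u ∈ D.posUnipotent F, ∃ t' : F, t' ≠ 0 ∧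
      g * xg hC h t * g⁻¹ = u * xg hC γ t' * u⁻¹ ∧
      ∃ w ∈ Uge hC F (γ + 1), g * xg hC h t * g⁻¹ = xg hC γ t' * w := by
  obtain ⟨γ, hγO, hγ, u, hu, t', ht', e⟩ := long_conj hC hc hh hO hg t
  have hx : xg hC γ t' ∈ D.posUnipotent F := by
    have e' : xg hC γ t' = u⁻¹ * (g * xg hC h t * g⁻¹) * u := by rw [e]; group
    rw [e']
    exact mul_mem (mul_mem (inv_mem hu) hy) hu
  have hpos : 0 < T.phi γ := by
    by_contra hcon
    have hneg : T.phi γ < 0 := by have := hC.phi_ne_zero hγ; omega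
    have h1 := U_inf_V hC hx (xg_mem_V hC hγ hneg t')
    rw [← xg_zero hC γ] at h1
    exact ht' ht (xg_injective hC hγ h1)
  refine ⟨γ, hγO, hγ, hpos, u, hu, t', ht' ht, e,
    (xg hC γ t')⁻¹ * (u * xg hC γ t' * u⁻¹ * (xg hC γ t')⁻¹) * xg hC γ t', ?_, by rw [e]; group⟩
  have h1 := conj_Uge_of_mem hC (inv_mem hx) (conj_xg_Uge hC hγ hpos hu t')
  rwa [inv_inv] at h1

/-- A root element outside the orbit is not conjugate to a highest root element. -/
theorem not_conj_short {a : ℕ} (ha : a < D.nroots) (hpa : 0 < T.phi a) (haO : a ∉ O) {s t : F}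
    (hs : s ≠ 0) (ht : t ≠ 0) {g : GL D.Idx F} (hg : g ∈ D.group F) :
    g * xg hC h t * g⁻¹ ≠ xg hC a s := by
  intro he
  obtain ⟨γ, hγO, hγ, hpos, -, -, t', ht', -, w, hw, e⟩ :=
    long_lead hC hc hh hO hg ht (he ▸ xg_mem_U hC ha hpa s)
  refine haO ?_
  rw [lead_unique hC ha hpa hγ hpos hs ht' (one_mem _) hw (by rw [mul_one, ← he, e])]
  exact hγO

/-- The product of two orthogonal fundamental root elements is not a root element. -/
theorem not_conj_pair {i j : ℕ} (hij : orthChk T i j = true) {t : F} (ht : t ≠ 0) {g : GL D.Idx F}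
    (hg : g ∈ D.group F) :
    g * xg hC h t * g⁻¹ ≠ xg hC (D.simple i) 1 * xg hC (D.simple j) 1 := by
  intro he
  simp only [orthChk, Bool.and_eq_true, Nat.blt_eq, hC.l_eq] at hij
  obtain ⟨hi, hj, hlt, -, hall⟩ := hij
  rw [hC.simple_eq hi, hC.simple_eq hj] at hlt
  rw [hC.simple_eq hi, hC.simple_eq hj] at hall
  have hil := hC.simple_lt hi
  have hjl := hC.simple_lt hj
  have hip := hC.phi_simple hi
  have hjp := hC.phi_simple hj
  obtain ⟨γ, -, hγ, hpos, u, hu, t', ht', e, w, hw, e'⟩ :=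
    long_lead hC hc hh hO hg ht (he ▸ mul_mem (xg_mem_U hC hil hip 1) (xg_mem_U hC hjl hjp 1))
  have hγi : γ = D.simple i := (lead_unique hC hil hip hγ hpos one_ne_zero ht'
    (xg_mem_Uge hC hjl hjp hlt 1) hw (by rw [← he, e'])).symm
  subst hγi
  have hO' : ∀ r < D.nroots, 0 < T.phi r → r ≠ D.simple j → ∀ v : F,
      xg hC r v ∈ Uom hC F (D.simple j) := fun r hr hp hne v =>
    Subgroup.subset_closure ⟨r, v, hr, ⟨hp, hne⟩, rfl⟩
  have hUN : D.posUnipotent F ≤ Subgroup.normalizer (Uom hC F (D.simple j) : Set (GL D.Idx F)) := by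
    rw [U_eq_closure hC, Subgroup.closure_le]
    rintro _ ⟨r, v, hr, hp, rfl⟩
    by_cases hrj : r = D.simple j
    · rw [hrj]; exact xg_normalizes_Uom hC hj v
    · exact Subgroup.le_normalizer (hO' r hr hp hrj v)
  obtain ⟨x, hx⟩ : ∃ x, x = xg hC (D.simple i) t' := ⟨_, rfl⟩
  have hxO : x ∈ Uom hC F (D.simple j) := hx ▸ hO' _ hil hip (by omega) t'
  have hyO : u * x * u⁻¹ ∈ Uom hC F (D.simple j) :=
    (Subgroup.mem_normalizer_iff.1 (hUN hu) x).1 hxO
  rw [hx, ← e, he] at hyO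
  have h1 : xg hC (D.simple j) (1 : F) ∈ Uom hC F (D.simple j) := by
    have := mul_mem (inv_mem (hO' _ hil hip (by omega) (1 : F))) hyO
    rwa [inv_mul_cancel_left] at this
  have h3 := Uom_le_U hC _
    ((Subgroup.mem_normalizer_iff.1 (ng_normalizes_Uom (F := F) hC hj) _).1 h1)
  obtain ⟨η, hη, hηd⟩ := eta_field (F := F) (i := j) (r := D.simple j) hC
  rw [ng_conj_x hC hj hjl, hC.reflect_simple hj, ← hηd, mul_one] at h3
  have h4 : xg hC (D.neg (D.simple j)) η ∈ D.negUnipotent F :=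
    xg_mem_V hC (hC.neg_lt hjl) (by rw [hC.phi_neg hjl]; omega) η
  have h5 := U_inf_V hC h3 h4
  rw [← xg_zero hC (D.neg (D.simple j))] at h5
  exact hη (xg_injective hC (hC.neg_lt hjl) h5)

end Cfsg.Agent.SimpleFacts.SubfieldOvergroup
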