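import Cfsg.Agent.Lib.Chevalley.SL2
import Cfsg.Agent.Techniques.SL2.Main
import Cfsg.Agent.Lib.Forms.KleinClasses
import Mathlib

/-!
A finite group generated by two opposite root elements of odd characteristic contains the image
of `-1`.
-/

set_option autoImplicit false

namespace Cfsg.Agent.SimpleFacts.SubfieldOvergroup

open scoped MatrixGroups
open Cfsg.Lie Cfsg.Agent.Chevalley.Table Cfsg.Agent.Chevalley.Cert Cfsg.Agent.Chevalley.Group
  Cfsg.Agent.Chevalley.Borel Cfsg.Agent.Chevalley.SL2 Cfsg.Agent.Chevalley.Unip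

/-- A number with `x + x⁻¹` a root of unity's trace is integral. -/
theorem integral_of_finite_order {F : Type*} [Field F] (p : ℕ) [Fact p.Prime] [CharP F p]
    [Algebra (ZMod p) F] {t : F} {n : ℕ} (hn : 0 < n)
    (h : ((sx (1 : F) * sy t : SL(2, F))) ^ n = 1) : IsIntegral (ZMod p) t := by
  let K := AlgebraicClosure F
  obtain ⟨lam, hlam⟩ : ∃ lam : K, lam ^ 2 - (2 + algebraMap F K t) * lam + 1 = 0 := by
    have hdeg : (Polynomial.X ^ 2 - Polynomial.C (2 + algebraMap F K t) * Polynomial.X + 1 :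
        Polynomial K).degree ≠ 0 := by
      have : (Polynomial.X ^ 2 - Polynomial.C (2 + algebraMap F K t) * Polynomial.X + 1 :
        Polynomial K).degree = 2 := by compute_degree!
      rw [this]; decide
    obtain ⟨z, hz⟩ := IsAlgClosed.exists_root _ hdeg
    exact ⟨z, by simpa using hz⟩
  obtain ⟨M, hM⟩ : ∃ M : Matrix (Fin 2) (Fin 2) K,
      M = ((sx (1 : F) * sy t : SL(2, F)) : Matrix (Fin 2) (Fin 2) F).map (algebraMap F K) :=
    ⟨_, rfl⟩
  have hMn : M ^ n = 1 := by
    have e : ((sx (1 : F) * sy t : SL(2, F)) : Matrix (Fin 2) (Fin 2) F) ^ n = 1 := by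
      rw [← Matrix.SpecialLinearGroup.coe_pow, h, Matrix.SpecialLinearGroup.coe_one]
    have h1 := congrArg (algebraMap F K).mapMatrix e
    rw [map_pow, map_one, RingHom.mapMatrix_apply] at h1
    rwa [hM]
  obtain ⟨v, hv⟩ : ∃ v : Fin 2 → K, v = ![1, lam - 1 - algebraMap F K t] := ⟨_, rfl⟩
  have hev : M.mulVec v = lam • v := by
    rw [hM, hv]
    funext i
    fin_cases i
    · simp [Matrix.mulVec, dotProduct, Fin.sum_univ_two]
    · simp [Matrix.mulVec, dotProduct, Fin.sum_univ_two]
      linear_combination -hlam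
  have hpow : ∀ m : ℕ, (M ^ m).mulVec v = lam ^ m • v := by
    intro m
    induction m with
    | zero => simp
    | succ m ih => rw [pow_succ, ← Matrix.mulVec_mulVec, hev, Matrix.mulVec_smul, ih, smul_smul,
        pow_succ, mul_comm]
  have hl : lam ^ n = 1 := by
    have h1 := congrFun (hpow n) 0
    rw [hMn, Matrix.one_mulVec, hv] at h1
    simpa using h1.symm
  have hli : IsIntegral (ZMod p) lam :=
    IsIntegral.of_pow hn (hl ▸ isIntegral_one)
  have e : algebraMap F K t = lam + lam ^ (n - 1) - 2 := by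
    have h1 : lam * lam ^ (n - 1) = 1 := by
      rw [← pow_succ', Nat.sub_add_cancel hn, hl]
    linear_combination (lam ^ (n - 1)) * (-hlam) + (lam - (2 + algebraMap F K t)) * h1
  have h2 : IsIntegral (ZMod p) (algebraMap F K t) := by
    rw [e]
    refine (hli.add (hli.pow _)).sub ?_
    exact one_add_one_eq_two (R := K) ▸ isIntegral_one.add isIntegral_one
  exact (isIntegral_algebraMap_iff (algebraMap F K).injective).1 h2

/-- In a finite field a group generated by opposite unitriangular elements contains `-1`. -/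
theorem neg_one_mem_finite {k : Type*} [Field k] [Fintype k] (p : ℕ) [Fact p.Prime] [CharP k p]
    (hp2 : p ≠ 2) {t : k} (ht : t ≠ 0) :
    (-1 : SL(2, k)) ∈ Subgroup.closure ({sx (1 : k), sy t} : Set (SL(2, k))) := by
  classical
  obtain ⟨K, hK⟩ : ∃ K : Subgroup (SL(2, k)), K = Subgroup.closure {sx (1 : k), sy t} := ⟨_, rfl⟩
  rw [← hK]
  have hxK : sx (1 : k) ∈ K := hK ▸ Subgroup.subset_closure (Or.inl rfl)
  have hyK : sy t ∈ K := hK ▸ Subgroup.subset_closure (Or.inr rfl)
  have hxp : (sx (1 : k) : SL(2, k)) ^ p = 1 := by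
    have h : ∀ m : ℕ, (sx (1 : k) : SL(2, k)) ^ m = sx (m : k) := by
      intro m
      induction m with
      | zero => refine Classical.GL2.sl_ext ?_; simp [Matrix.one_fin_two]
      | succ m ih =>
        rw [pow_succ, ih]
        refine Classical.GL2.sl_ext ?_
        simp [add_comm]
    rw [h, CharP.cast_eq_zero]
    refine Classical.GL2.sl_ext ?_
    simp [Matrix.one_fin_two]
  have hyp : (sy t : SL(2, k)) ^ p = 1 := by
    have h : ∀ m : ℕ, (sy t : SL(2, k)) ^ m = sy ((m : k) * t) := by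
      intro m
      induction m with
      | zero => refine Classical.GL2.sl_ext ?_; simp [Matrix.one_fin_two]
      | succ m ih =>
        rw [pow_succ, ih]
        refine Classical.GL2.sl_ext ?_
        simp [add_mul]
    rw [h, CharP.cast_eq_zero, zero_mul]
    refine Classical.GL2.sl_ext ?_
    simp [Matrix.one_fin_two]
  have hne : sx (1 : k) * sy t ≠ sy t * sx (1 : k) := by
    intro h
    have h1 := congrFun (congrFun (congrArg Subtype.val h) 0) 0
    simp [Matrix.mul_apply, Fin.sum_univ_two] at h1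
    exact ht h1
  have hr : 1 < Nat.card (Sylow p K) := by
    by_contra hcon
    have : Subsingleton (Sylow p K) := Finite.card_le_one_iff_subsingleton.1 (not_lt.1 hcon)
    let P : Sylow p K := default
    have hmem : ∀ (g : SL(2, k)) (hg : g ∈ K), g ^ p = 1 → (⟨g, hg⟩ : K) ∈ (P : Subgroup K) := by
      intro g hg hgp
      have hpg : IsPGroup p (Subgroup.zpowers (⟨g, hg⟩ : K)) := by
        rintro ⟨z, hz⟩
        obtain ⟨m, rfl⟩ := Subgroup.mem_zpowers_iff.1 hz
        refine ⟨1, Subtype.ext ?_⟩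
        have h0 : (⟨g, hg⟩ : K) ^ p = 1 := Subtype.ext hgp
        show ((⟨g, hg⟩ : K) ^ m) ^ p ^ 1 = 1
        rw [pow_one, ← zpow_natCast, ← zpow_mul, mul_comm, zpow_mul, zpow_natCast, h0, one_zpow]
      obtain ⟨R, hR⟩ := hpg.exists_le_sylow
      rw [Subsingleton.elim P R]
      exact hR (Subgroup.mem_zpowers _)
    obtain ⟨S, hS⟩ := (P.isPGroup'.map K.subtype).exists_le_sylow
    obtain ⟨g, rfl⟩ := Classical.GL2.exists_eq_conj_U p S
    have hin : ∀ (x : SL(2, k)) (hx : x ∈ K), x ^ p = 1 →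
        g⁻¹ * x * g ∈ (Classical.GL2.uniHom k).range := by
      intro x hx hxp
      have h2 : x ∈ ((g • Classical.GL2.sylowSL p : Sylow p SL(2, k)) : Subgroup SL(2, k)) :=
        hS ⟨⟨x, hx⟩, hmem x hx hxp, rfl⟩
      rw [Sylow.coe_subgroup_smul, Subgroup.mem_pointwise_smul_iff_inv_smul_mem,
        Classical.GL2.coe_sylowSL] at h2
      simpa [MulAut.smul_def] using h2
    obtain ⟨a, ha⟩ := hin _ hxK hxp
    obtain ⟨b, hb⟩ := hin _ hyK hyp
    apply hne
    have hcomm : (g⁻¹ * sx (1 : k) * g) * (g⁻¹ * sy t * g) =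
        (g⁻¹ * sy t * g) * (g⁻¹ * sx (1 : k) * g) := by
      rw [← ha, ← hb, ← map_mul, ← map_mul, mul_comm]
    calc sx (1 : k) * sy t = g * ((g⁻¹ * sx (1 : k) * g) * (g⁻¹ * sy t * g)) * g⁻¹ := by group
      _ = _ := by rw [hcomm]; group
  obtain ⟨φ, hφ⟩ := Techniques.SL2.Main.hasSL2 p hp2 K hr
  have hz : (-1 : SL(2, ZMod p)) * (-1) = 1 := by
    refine Subtype.ext ?_; simp
  have h2 : (2 : k) ≠ 0 := by
    intro h
    exact hp2 ((Nat.prime_dvd_prime_iff_eq Fact.out Nat.prime_two).1
      ((CharP.cast_eq_zero_iff k p 2).1 (by exact_mod_cast h)))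
  rcases Forms.KleinClasses.sq_eq_one (h2 := h2)
    (show ((φ (-1) : K) : SL(2, k)) * (φ (-1) : K) = 1 by
      rw [← Subgroup.coe_mul, ← map_mul, hz, map_one, Subgroup.coe_one]) with h | h
  · exfalso
    have h1 : (-1 : SL(2, ZMod p)) = 1 := hφ (Subtype.ext (by rw [map_one, Subgroup.coe_one]; exact h))
    have h3 := congrFun (congrFun (congrArg Subtype.val h1) 0) 0
    simp at h3
    have h4 : ((2 : ℕ) : ZMod p) = 0 := by
      rw [Nat.cast_ofNat]; linear_combination -h3
    rw [ZMod.natCast_eq_zero_iff] at h4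
    exact hp2 ((Nat.prime_dvd_prime_iff_eq Fact.out Nat.prime_two).1 h4)
  · exact h ▸ (φ (-1) : K).2

variable {D : ChevalleyDatum} {F : Type*} [Field F] {T : Tab} (hC : Certified D T)
include hC

/-- The kernel of the map onto a root `SL₂` consists of elements of square one. -/
theorem ker_sq {r : ℕ} (hr : r < D.nroots) (hp : 0 < T.phi r) {φ : SL(2, F) →* GL D.Idx F}
    (hx : ∀ t, φ (sx t) = xg hC r t) (hy : ∀ t, φ (sy t) = xg hC (D.neg r) t) {g : SL(2, F)}
    (hg : φ g = 1) : g * g = 1 := by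
  have hxinj : ∀ s : F, φ (sx s) = 1 → s = 0 := fun s h => by
    rw [hx, ← xg_zero hC r] at h
    exact xg_injective hC hr h
  have hc : el g 1 0 = 0 := by
    by_contra hc
    have e : el (g * sx 1 * g⁻¹) 1 0 = -(el g 1 0) ^ 2 := by
      simp [el, Matrix.mul_apply, Fin.sum_univ_two, Matrix.SpecialLinearGroup.coe_inv,
        Matrix.adjugate_fin_two]
      ring
    have hne : el (g * sx 1 * g⁻¹) 1 0 ≠ 0 := by
      rw [e]; exact neg_ne_zero.2 (pow_ne_zero _ hc)
    obtain ⟨x, hxd⟩ : ∃ x, x = g * sx 1 * g⁻¹ := ⟨_, rfl⟩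
    rw [← hxd] at hne
    have hφx : φ x = xg hC r 1 := by
      rw [hxd, map_mul, map_mul, map_inv, hg, hx, one_mul, inv_one, mul_one]
    -- `x = sx a * sy b * sx c`
    obtain ⟨a, ha⟩ : ∃ a, a = (el x 0 0 - 1) / el x 1 0 := ⟨_, rfl⟩
    obtain ⟨c, hcd⟩ : ∃ c, c = (el x 1 1 - 1) / el x 1 0 := ⟨_, rfl⟩
    have hdet := el_det x
    have hxe : x = sx a * sy (el x 1 0) * sx c := by
      refine Classical.GL2.sl_ext ?_
      ext i j
      fin_cases i <;> fin_cases j <;>
        simp [Matrix.mul_apply, Fin.sum_univ_two, ha, hcd, el] <;> field_simp <;>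
        first | ring1 | linear_combination hdet | linear_combination (-2 : F) * hdet |
          (simp only [el] at hdet; first | linear_combination hdet | linear_combination (-hdet))
    rw [hxe, map_mul, map_mul, hx, hy, hx] at hφx
    have h1 : xg hC (D.neg r) (el x 1 0) = xg hC r (-a + 1 + -c) := by
      rw [xg_add hC, xg_add hC, ← xg_inv hC r a, ← xg_inv hC r c, ← hφx]; group
    have h2 := U_inf_V hC (h1.symm ▸ xg_mem_U hC hr hp (-a + 1 + -c))
      (xg_mem_V hC (hC.neg_lt hr) (by rw [hC.phi_neg hr]; omega) _)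
    rw [← xg_zero hC (D.neg r)] at h2
    exact hne (xg_injective hC (hC.neg_lt hr) h2)
  obtain ⟨a, ha⟩ : ∃ a, a = el g 0 0 := ⟨_, rfl⟩
  have hdet := el_det g
  have hconj : g * sx 1 * g⁻¹ = sx (a * a) := by
    refine Classical.GL2.sl_ext ?_
    ext i j
    fin_cases i <;> fin_cases j <;>
      simp [Matrix.mul_apply, Fin.sum_univ_two, ha, el, Matrix.SpecialLinearGroup.coe_inv,
        Matrix.adjugate_fin_two] <;>
      simp only [el] at hc hdet <;> simp [hc] at hdet ⊢ <;>
      first | ring1 | linear_combination hdet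
  have ha2 : a * a = 1 := by
    have h1 : φ (sx (a * a)) = xg hC r 1 := by
      rw [← hconj, map_mul, map_mul, map_inv, hg, hx, one_mul, inv_one, mul_one]
    rw [hx] at h1
    exact xg_injective hC hr h1
  obtain ⟨b, hb⟩ : ∃ b, b = el (g * g) 0 1 := ⟨_, rfl⟩
  have hgg : g * g = sx b := by
    refine Classical.GL2.sl_ext ?_
    simp only [el] at hc hdet ha
    ext i j
    fin_cases i <;> fin_cases j
    · simp [Matrix.mul_apply, Fin.sum_univ_two, hc, ← ha, ha2]
    · simp [hb, el]
    · simp [Matrix.mul_apply, Fin.sum_univ_two, hc]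
    · have hd : (g : Matrix (Fin 2) (Fin 2) F) 1 1 = a := by
        rw [hc, mul_zero, sub_zero, ← ha] at hdet
        linear_combination a * hdet - (g : Matrix (Fin 2) (Fin 2) F) 1 1 * ha2
      simp [Matrix.mul_apply, Fin.sum_univ_two, hc, hd, ha2]
  have hb0 : b = 0 := hxinj b (by rw [← hgg, map_mul, hg, one_mul])
  rw [hgg, hb0]
  refine Classical.GL2.sl_ext ?_
  simp [Matrix.one_fin_two]

/-- The element `h_r(-1)` belongs to a finite group generated by `x_r(1)` and `x_{-r}(t)`. -/
theorem minus_mem (p : ℕ) [Fact p.Prime] [CharP F p] (hp2 : p ≠ 2) {r : ℕ} (hr : r < D.nroots)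
    (hp : 0 < T.phi r) {t : F} (ht : t ≠ 0) {K : Subgroup (GL D.Idx F)} (hK : Finite K)
    (h1 : xg hC r 1 ∈ K) (h2 : xg hC (D.neg r) t ∈ K) : hg hC r (-1 : F) ∈ K := by
  obtain ⟨φ, hx, hy, -⟩ := exists_hom (rank1 (F := F) hC hr)
  obtain ⟨M, hM⟩ : ∃ M : SL(2, F), M = sx 1 * sy t := ⟨_, rfl⟩
  have hMK : φ M ∈ K := by rw [hM, map_mul, hx, hy]; exact mul_mem h1 h2
  obtain ⟨n, hn, hn1⟩ := (isOfFinOrder_of_finite (⟨φ M, hMK⟩ : K)).exists_pow_eq_one
  have hφn : φ (M ^ n) = 1 := by
    rw [map_pow]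
    exact congrArg Subtype.val hn1
  have hMn : M ^ (n + n) = 1 := by rw [pow_add]; exact ker_sq hC hr hp hx hy hφn
  let := ZMod.algebra F p
  have hint := integral_of_finite_order p (show 0 < n + n by omega) (hM ▸ hMn)
  let k := IntermediateField.adjoin (ZMod p) ({t} : Set F)
  have : FiniteDimensional (ZMod p) k := IntermediateField.adjoin.finiteDimensional hint
  have : Finite k := Module.finite_of_finite (ZMod p)
  have : Fintype k := Fintype.ofFinite k
  have : CharP k p := RingHom.charP k.val.toRingHom Subtype.val_injective p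
  have htk : t ∈ k := IntermediateField.subset_adjoin _ _ rfl
  have h0 := neg_one_mem_finite p hp2 (t := (⟨t, htk⟩ : k))
    (fun h => ht (congrArg Subtype.val h))
  obtain ⟨f, hf⟩ : ∃ f : SL(2, k) →* SL(2, F),
      f = Matrix.SpecialLinearGroup.map k.val.toRingHom := ⟨_, rfl⟩
  have hle : Subgroup.closure {sx (1 : k), sy (⟨t, htk⟩ : k)} ≤ K.comap (φ.comp f) := by
    rw [Subgroup.closure_le]
    rintro g (rfl | rfl)
    · have e : f (sx (1 : k)) = sx (1 : F) := by
        rw [hf]; refine Classical.GL2.sl_ext ?_; ext i j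
        fin_cases i <;> fin_cases j <;> simp
      show φ (f _) ∈ K
      rw [e, hx]; exact h1
    · have e : f (sy (⟨t, htk⟩ : k)) = sy t := by
        rw [hf]; refine Classical.GL2.sl_ext ?_; ext i j
        fin_cases i <;> fin_cases j <;> simp
      show φ (f _) ∈ K
      rw [e, hy]; exact h2
  have h3 : φ (f (-1)) ∈ K := hle h0
  have e : f (-1) = (sx (1 : F) * sy (-1) * sx 1) * (sx (1 : F) * sy (-1) * sx 1) := by
    rw [hf]; refine Classical.GL2.sl_ext ?_; ext i j
    fin_cases i <;> fin_cases j <;> simp [Matrix.mul_apply, Fin.sum_univ_two]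
  rw [e, map_mul, map_mul, map_mul, hx, hy] at h3
  have en : xg hC r (1 : F) * xg hC (D.neg r) (-1) * xg hC r 1 = ng hC r 1 := by
    rw [ng, inv_one]
  rw [en, (rank1 (F := F) hC hr).w_sq] at h3
  exact h3

end Cfsg.Agent.SimpleFacts.SubfieldOvergroup
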