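import Cfsg.Agent.SimpleFacts.SubfieldOvergroup.Even
import Cfsg.Agent.SimpleFacts.SubfieldOvergroup.SL2Minus

/-!
Odd characteristic: a finite subgroup with fixed root parameters consists of fixed elements. A long
root element of the subgroup either commutes with `x_h(1)`, or has a fixed commutator with it, or is
opposite; in the last case the element `h_h(-1)` pins down its parameters.
-/

set_option autoImplicit false

namespace Cfsg.Agent.SimpleFacts.SubfieldOvergroup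

open Cfsg.Lie Cfsg.Agent.Chevalley.Table Cfsg.Agent.Chevalley.Check Cfsg.Agent.Chevalley.Cert
  Cfsg.Agent.Chevalley.Eval Cfsg.Agent.Chevalley.Perfect
  Cfsg.Agent.Chevalley.Group Cfsg.Agent.Chevalley.Borel Cfsg.Agent.Chevalley.Unip
  Cfsg.Agent.Chevalley.Weyl
  Cfsg.Agent.Chevalley.FieldAut Cfsg.Agent.SimpleFacts.ChevalleySubfield
  Cfsg.Agent.SimpleFacts.ChevalleyRadical

/-- The commutator word is trivial. -/
noncomputable def zeroAll (c : Cls) (L : List Trm) : Bool := allL (fun x => c.zero x.2.1) L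

/-- Non-opposite roots of the orbit: commuting, or one commutator term commuting with the root. -/
noncomputable def posChk (c : Cls) (T : Tab) (h : ℕ) (O : List ℕ) : Bool :=
  allL (fun g => Nat.beq g h || (Nat.beq g (T.neg h) || (zeroAll c (commOf T.E h g) ||
    List.rec false (fun x L _ => List.isEmpty L && (c.unit x.2.1 && (iblt 0 (T.phi x.1) &&
      (!Nat.beq x.1 g && (!Nat.beq x.1 (T.neg g) && zeroAll c (commOf T.E g x.1))))))
      (commOf T.E h g)))) O

/-- The roots of even pairing with `h` commute with `-h`. -/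
noncomputable def evenChk (c : Cls) (T : Tab) (h : ℕ) : Bool :=
  allR T.n fun r => !(iblt 0 (T.phi r) && (!Nat.beq r h && Nat.beq ((pairT T h r).natAbs % 2) 0)) ||
    zeroAll c (commOf T.E (T.neg h) r)

/-- Ascending, or descending, indices. -/
noncomputable def sortedChk (rev : Bool) (L : List Trm) : Bool :=
  List.rec true (fun x L ih => allL (fun y => bif rev then Nat.blt y.1 x.1 else Nat.blt x.1 y.1) L && ih) L

/-- The data for the opposite case. -/
noncomputable def oppChk (c : Cls) (T : Tab) (h g k : ℕ) (rev : Bool) : Bool :=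
  Nat.blt g T.n && (iblt 0 (T.phi g) && (!Nat.beq g h && (Nat.blt k T.n &&
  (!Nat.beq k h && (!Nat.beq k (T.neg h) &&
  (List.rec false (fun x P _ => Nat.beq x.1 k && (c.unit x.2.1 && (Nat.beq x.2.2.1 1 &&
    (allL (fun y => iblt 0 (T.phi y.1)) P &&
      allL (fun a => allL (fun b => Nat.beq b a || zeroAll c (commOf T.E a b))
          ((commOf T.E k h ++ P).map Prod.fst))
        ((commOf T.E k h ++ P).map Prod.fst)))))
    (commOf T.E (T.neg h) g) &&
  (allL (fun y => iblt 0 (T.phi y.1)) (commOf T.E k h) && (sortedChk rev (commOf T.E k h) &&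
  List.rec false (fun x _ ih => (Nat.beq x.1 g && (c.unit x.2.1 && (Nat.beq x.2.2.1 1 &&
    Nat.beq x.2.2.2 1))) || ih) (commOf T.E k h)))))))))

variable {D : ChevalleyDatum} {F : Type*} [Field F] {T : Tab} (hC : Certified D T) (σ : F →+* F)
include hC

theorem word_one {c : Cls} (hc : c.Sound F) {r s : ℕ}
    (h : zeroAll c (D.commTerms r s) = true) (t u : F) :
    ((D.commWord F r s t u).map fun p => xg hC p.1 p.2).prod = 1 := by
  refine List.prod_eq_one fun g hg => ?_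
  obtain ⟨p, hp, rfl⟩ := List.mem_map.1 hg
  obtain ⟨x, hx, rfl⟩ := List.mem_map.1 hp
  rw [hc.zero_eq _ (of_allL h x hx), zero_mul, zero_mul, xg_zero hC]

/-- A word with fixed parameters is fixed. -/
theorem word_fixed {t u : F} (ht : σ t = t) (hu : σ u = u)
    (L : List (ℕ × ℤ × ℕ × ℕ)) :
    ((L.map fun x => (x.1, (x.2.1 : F) * (-t) ^ x.2.2.1 * u ^ x.2.2.2)).map
      fun p => xg hC p.1 p.2).prod ∈ fixL hC σ := by
  refine list_prod_mem fun g hg => ?_
  obtain ⟨p, hp, rfl⟩ := List.mem_map.1 hg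
  obtain ⟨x, -, rfl⟩ := List.mem_map.1 hp
  exact xg_mem_fixL hC σ _ (by simp [map_mul, map_pow, map_neg, ht, hu])

theorem list_fixed : ∀ {L : List (ℕ × F)}, (∀ p ∈ L, p.1 < D.nroots ∧ 0 < T.phi p.1) →
    L.Pairwise (fun p q => p.1 < q.1) → Fixed D σ (L.map fun p => xg hC p.1 p.2).prod →
      ∀ p ∈ L, σ p.2 = p.2
  | [], _, _, _ => fun p hp => absurd hp List.not_mem_nil
  | q :: L, hp, hs, hf => by
    obtain ⟨hs1, hs2⟩ := List.pairwise_cons.1 hs
    obtain ⟨hq, hqp⟩ := hp q List.mem_cons_self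
    rw [List.map_cons, List.prod_cons] at hf
    have hw : (L.map fun p => xg hC p.1 p.2).prod ∈ Uge hC F (q.1 + 1) := by
      refine list_prod_mem fun g hg => ?_
      obtain ⟨p, hp', rfl⟩ := List.mem_map.1 hg
      obtain ⟨h1, h2⟩ := hp p (List.mem_cons_of_mem _ hp')
      exact xg_mem_Uge hC h1 h2 (hs1 p hp') _
    have hq2 := fixed_lead hC σ hq hqp hw hf
    have hrest : Fixed D σ (L.map fun p => xg hC p.1 p.2).prod := by
      have := Fixed.mul σ (Fixed.inv σ (fixed_xg hC σ (r := q.1) hq2)) hf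
      rwa [inv_mul_cancel_left] at this
    intro p hp'
    rcases List.mem_cons.1 hp' with rfl | hp'
    · exact hq2
    · exact list_fixed (fun p hp' => hp p (List.mem_cons_of_mem _ hp')) hs2 hrest p hp'

theorem sorted_fixed {rev : Bool} {L : List (ℕ × ℤ × ℕ × ℕ)} (hs : sortedChk rev L = true)
    (hp : ∀ x ∈ L, x.1 < D.nroots ∧ 0 < T.phi x.1) (f : ℕ × ℤ × ℕ × ℕ → F)
    (hf : Fixed D σ ((L.map fun x => (x.1, f x)).map fun p => xg hC p.1 p.2).prod) :
    ∀ x ∈ L, σ (f x) = f x := by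
  have hpair : ∀ {L : List (ℕ × ℤ × ℕ × ℕ)}, sortedChk rev L = true →
      L.Pairwise (fun x y => bif rev then y.1 < x.1 else x.1 < y.1) := by
    intro L
    induction L with
    | nil => intro _; exact List.Pairwise.nil
    | cons x L ih =>
      intro h
      simp only [sortedChk, Bool.and_eq_true] at h
      refine List.pairwise_cons.2 ⟨fun y hy => ?_, ih h.2⟩
      have := of_allL h.1 y hy
      cases rev <;> simpa [Nat.blt_eq] using this
  have h1 := hpair hs
  cases rev with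
  | false =>
    simp only [cond_false] at h1
    intro x hx
    exact list_fixed hC σ (L := L.map fun x => (x.1, f x))
      (fun p hp' => by obtain ⟨y, hy, rfl⟩ := List.mem_map.1 hp'; exact hp y hy)
      (List.pairwise_map.2 h1) hf (x.1, f x) (List.mem_map.2 ⟨x, hx, rfl⟩)
  | true =>
    simp only [cond_true] at h1
    have hinv : ((L.map fun x => (x.1, f x)).map fun p => xg hC p.1 p.2).prod⁻¹ =
        ((L.reverse.map fun x => (x.1, -f x)).map fun p => xg hC p.1 p.2).prod := by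
      rw [List.prod_inv_reverse]
      simp only [List.map_map, List.map_reverse]
      congr 2
      exact List.map_congr_left fun x _ => by simp [xg_inv hC]
    intro x hx
    have := list_fixed hC σ (L := L.reverse.map fun x => (x.1, -f x))
      (fun p hp' => by
        obtain ⟨y, hy, rfl⟩ := List.mem_map.1 hp'
        exact hp y (List.mem_reverse.1 hy))
      (List.pairwise_map.2 (List.pairwise_reverse.2 h1)) (hinv ▸ Fixed.inv σ hf) (x.1, -f x)
      (List.mem_map.2 ⟨x, List.mem_reverse.2 hx, rfl⟩)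
    simpa [map_neg] using this

variable {c : Cls} (hc : c.Sound F) {h : ℕ} (hh : centralChk c T [h] = true)
include hc hh

/-- The case `y = x_h(a) x_{-h}(t) x_h(-a)`. -/
theorem opposite_normal (hA : UFixed hC σ) {H : Subgroup (GL D.Idx F)} (hX : Ctx hC σ H)
    {g k : ℕ} {rev : Bool} (hopp : oppChk c T h g k rev = true) {a t : F} (ht : t ≠ 0)
    (hy : xg hC h a * xg hC (D.neg h) t * (xg hC h a)⁻¹ ∈ H) : σ a = a ∧ σ t = t := by
  obtain ⟨hhl, hhp, hcen⟩ := h_spec hC hc hh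
  simp only [oppChk, Bool.and_eq_true, Nat.blt_eq, Bool.not_eq_true', iblt_iff, hC.n_eq,
    hC.neg_eq hhl] at hopp
  obtain ⟨hg, hgp, hgh, hk, hkh, hkn, hL1, hL2p, hsort, hterm⟩ := hopp
  have hgh' : g ≠ h := fun e => by simp [e] at hgh
  have hkh' : k ≠ h := fun e => by simp [e] at hkh
  have hkn' : k ≠ D.neg h := fun e => by simp [e] at hkn
  rw [commOf_eq hC (hC.neg_lt hhl) hg, commOf_eq hC hk hhl] at hL1
  rw [commOf_eq hC hk hhl] at hL2p hsort hterm
  obtain ⟨x₀, P₀, hL⟩ : ∃ x P, D.commTerms (D.neg h) g = x :: P := by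
    cases hcs : D.commTerms (D.neg h) g with
    | nil => rw [hcs] at hL1; simp at hL1
    | cons x P => exact ⟨x, P, rfl⟩
  rw [hL] at hL1
  simp only [Bool.and_eq_true, Nat.beq_eq] at hL1
  obtain ⟨hx1, hx2, hx3, hP, hcomm⟩ := hL1
  have hPp : ∀ x ∈ P₀, x.1 < D.nroots ∧ 0 < T.phi x.1 := fun x hx => by
    refine ⟨(commTerms_phi hC (hC.neg_lt hhl) hg x (hL ▸ List.mem_cons_of_mem _ hx)).1, ?_⟩
    simpa [iblt_iff] using of_allL hP x hx
  have hL2 : ∀ x ∈ D.commTerms k h, x.1 < D.nroots ∧ 0 < T.phi x.1 := fun x hx =>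
    ⟨(commTerms_phi hC hk hhl x hx).1, by simpa [iblt_iff] using of_allL hL2p x hx⟩
  obtain ⟨v, hv⟩ : ∃ v, v = (x₀.2.1 : F) * (-t) := ⟨_, rfl⟩
  have hv0 : v ≠ 0 := hv ▸ mul_ne_zero (hc.unit_ne _ hx2) (neg_ne_zero.2 ht)
  obtain ⟨A, hAd⟩ : ∃ A, A = xg hC h a := ⟨_, rfl⟩
  obtain ⟨X, hXd⟩ : ∃ X, X = xg hC (D.neg h) t := ⟨_, rfl⟩
  obtain ⟨G, hGd⟩ : ∃ G, G = xg hC g (1 : F) := ⟨_, rfl⟩
  obtain ⟨K, hKd⟩ : ∃ K, K = xg hC k v := ⟨_, rfl⟩
  obtain ⟨z, hzd⟩ : ∃ z, z = xg hC h (1 : F) := ⟨_, rfl⟩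
  obtain ⟨P, hPd⟩ : ∃ P, P = ((P₀.map fun x =>
      (x.1, (x.2.1 : F) * (-t) ^ x.2.2.1 * (1 : F) ^ x.2.2.2)).map fun p => xg hC p.1 p.2).prod :=
    ⟨_, rfl⟩
  obtain ⟨W, hWd⟩ : ∃ W : F → GL D.Idx F,
      W = fun b => ((D.commWord F k h v b).map fun p => xg hC p.1 p.2).prod := ⟨_, rfl⟩
  rw [← hAd, ← hXd] at hy
  have hPU : P ∈ D.posUnipotent F := hPd ▸ list_prod_mem fun q hq => by
    obtain ⟨p, hp, rfl⟩ := List.mem_map.1 hq
    obtain ⟨x, hx, rfl⟩ := List.mem_map.1 hp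
    exact xg_mem_U hC (hPp x hx).1 (hPp x hx).2 _
  have hWU : ∀ b, W b ∈ D.posUnipotent F := fun b => hWd ▸ list_prod_mem fun q hq => by
    obtain ⟨p, hp, rfl⟩ := List.mem_map.1 hq
    obtain ⟨x, hx, rfl⟩ := List.mem_map.1 hp
    exact xg_mem_U hC (hL2 x hx).1 (hL2 x hx).2 _
  have hGU : G ∈ D.posUnipotent F := hGd ▸ xg_mem_U hC hg hgp 1
  have e1 : G * X = X * G * (K * P) := by
    rw [hGd, hXd, xg_comm hC (hC.neg_lt hhl) hg (fun e => by
      rw [e, hC.phi_neg hhl] at hgp; omega) (by rw [hC.neg_neg hhl]; exact hgh') t 1]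
    congr 1
    rw [ChevalleyDatum.commWord, hL, List.map_cons, List.map_cons, List.prod_cons, ← hPd, hKd, hv]
    simp [hx1, hx3]
  have hhne : h ≠ D.neg k := fun e => hkn' (by rw [e, hC.neg_neg hk])
  have e2 : ∀ b, xg hC h b * K = K * xg hC h b * W b := fun b => by
    rw [hKd, hWd]; exact xg_comm hC hk hhl hkh'.symm hhne v b
  obtain ⟨c₁, hc₁⟩ : ∃ c₁, c₁ = K * W a * P := ⟨_, rfl⟩
  have hc₁H : c₁ ∈ H := by
    have hG : G ∈ H := hGd ▸ hX.fixL_le (xg_mem_fixL hC σ g (map_one σ))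
    have hGA : A⁻¹ * G = G * A⁻¹ := by
      rw [inv_mul_eq_iff_eq_mul, ← mul_assoc, hAd, hcen G hGU, mul_inv_cancel_right]
    have e : c₁ = G⁻¹ * (A * X * A⁻¹)⁻¹ * G * (A * X * A⁻¹) := by
      calc c₁ = K * W a * P := hc₁
        _ = A * K * A⁻¹ * P := by
          have h1 := e2 a
          rw [← hAd] at h1
          rw [h1, mul_assoc _ (W a) A⁻¹, show W a * A⁻¹ = A⁻¹ * W a by
            rw [eq_inv_mul_iff_mul_eq, ← mul_assoc, hAd, hcen _ (hWU a), mul_inv_cancel_right]]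
          group
        _ = A * (K * P) * A⁻¹ := by
          have hPA : A⁻¹ * P = P * A⁻¹ := by
            rw [inv_mul_eq_iff_eq_mul, ← mul_assoc, hAd, hcen P hPU, mul_inv_cancel_right]
          rw [mul_assoc (A * K) A⁻¹ P, hPA]; group
        _ = A * (G⁻¹ * X⁻¹ * G * X) * A⁻¹ := by
          rw [show G⁻¹ * X⁻¹ * G * X = G⁻¹ * X⁻¹ * (G * X) by group, e1]; group
        _ = (A * G⁻¹) * X⁻¹ * (A⁻¹ * A) * G * X * A⁻¹ := by group
        _ = G⁻¹ * (A * X * A⁻¹)⁻¹ * G * (A * X * A⁻¹) := by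
          have h1 : A * G⁻¹ = G⁻¹ * A := by rw [hAd]; exact hcen _ (inv_mem hGU) a
          rw [h1]
          calc G⁻¹ * A * X⁻¹ * (A⁻¹ * A) * G * X * A⁻¹
              = G⁻¹ * A * X⁻¹ * A⁻¹ * (A * G) * X * A⁻¹ := by group
            _ = G⁻¹ * A * X⁻¹ * A⁻¹ * (G * A) * X * A⁻¹ := by rw [hAd, hcen G hGU]
            _ = _ := by group
    rw [e]
    exact mul_mem (mul_mem (mul_mem (inv_mem hG) (inv_mem hy)) hG) hy
  -- the roots of the two words commute
  have hzp : ∀ i j : ℕ, i ∈ (D.commTerms k h ++ P₀).map Prod.fst →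
      j ∈ (D.commTerms k h ++ P₀).map Prod.fst → ∀ s s' : F,
      xg hC j s' * xg hC i s = xg hC i s * xg hC j s' := by
    intro i j hi hj s s'
    have hb : ∀ i ∈ (D.commTerms k h ++ P₀).map Prod.fst, i < D.nroots ∧ 0 < T.phi i := by
      intro i hi
      obtain ⟨x, hx, rfl⟩ := List.mem_map.1 hi
      exact (List.mem_append.1 hx).elim (hL2 x) (hPp x)
    obtain ⟨hil, hip⟩ := hb i hi
    obtain ⟨hjl, hjp⟩ := hb j hj
    rcases xg_commute hC hil hjl hip hjp s s' with h1 | h1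
    · rw [h1, ← xg_add hC, ← xg_add hC, add_comm]
    · have h2 := of_allL (of_allL hcomm i hi) j hj
      simp only [Bool.or_eq_true, Nat.beq_eq] at h2
      rcases h2 with h2 | h2
      · rw [h2, ← xg_add hC, ← xg_add hC, add_comm]
      · rw [commOf_eq hC hil hjl] at h2
        rwa [word_one hC hc h2, mul_one] at h1
  obtain ⟨S, hS⟩ : ∃ S : Set (GL D.Idx F),
      S = {g | ∃ i ∈ (D.commTerms k h ++ P₀).map Prod.fst, ∃ s : F, g = xg hC i s} := ⟨_, rfl⟩
  have hWS : ∀ b, W b ∈ Subgroup.closure S := fun b => hWd ▸ list_prod_mem fun q hq => by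
    obtain ⟨p, hp, rfl⟩ := List.mem_map.1 hq
    obtain ⟨x, hx, rfl⟩ := List.mem_map.1 hp
    exact Subgroup.subset_closure (hS ▸ ⟨x.1, List.mem_map.2 ⟨x, List.mem_append_left _ hx, rfl⟩,
      _, rfl⟩)
  have hPS : P ∈ Subgroup.closure S := hPd ▸ list_prod_mem fun q hq => by
    obtain ⟨p, hp, rfl⟩ := List.mem_map.1 hq
    obtain ⟨x, hx, rfl⟩ := List.mem_map.1 hp
    exact Subgroup.subset_closure (hS ▸ ⟨x.1, List.mem_map.2 ⟨x, List.mem_append_right _ hx, rfl⟩,
      _, rfl⟩)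
  have hab : ∀ p ∈ Subgroup.closure S, ∀ q ∈ Subgroup.closure S, p * q = q * p := by
    have h1 : Subgroup.closure S ≤ Subgroup.centralizer S := by
      rw [Subgroup.closure_le]
      intro p hp
      rw [SetLike.mem_coe, Subgroup.mem_centralizer_iff]
      intro q hq
      rw [hS] at hp hq
      obtain ⟨i, hi, s, rfl⟩ := hp
      obtain ⟨j, hj, s', rfl⟩ := hq
      exact hzp i j hi hj s s'
    have h2 : Subgroup.closure S ≤ Subgroup.centralizer (Subgroup.closure S : Set (GL D.Idx F)) := by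
      rw [Subgroup.closure_le]
      intro q hq
      rw [SetLike.mem_coe, Subgroup.mem_centralizer_iff]
      intro p hp
      exact (Subgroup.mem_centralizer_iff.1 (h1 hp) q hq).symm
    intro p hp q hq
    exact (Subgroup.mem_centralizer_iff.1 (h2 hq) p hp)
  have hzH : z ∈ H := hzd ▸ hX.fixL_le (xg_mem_fixL hC σ h (map_one σ))
  have hq : W 1 ∈ H := by
    have h1 : z * (W a * P) = (W a * P) * z := by
      rw [hzd]; exact hcen _ (mul_mem (hWU a) hPU) 1
    have h2 : W 1 * (W a * P) = (W a * P) * W 1 :=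
      hab _ (hWS 1) _ (mul_mem (hWS a) hPS)
    have e : W 1 = c₁⁻¹ * (z * c₁ * z⁻¹) := by
      have h3 := e2 1
      rw [← hzd] at h3
      have h4 : z * c₁ * z⁻¹ = K * (W 1 * (W a * P)) := by
        calc z * c₁ * z⁻¹ = z * K * (W a * P) * z⁻¹ := by rw [hc₁]; group
          _ = K * z * W 1 * (W a * P) * z⁻¹ := by rw [h3]
          _ = K * (z * (W 1 * (W a * P))) * z⁻¹ := by group
          _ = K * (W 1 * (W a * P) * z) * z⁻¹ := by
            rw [show z * (W 1 * (W a * P)) = W 1 * (W a * P) * z from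
              hzd ▸ hcen _ (mul_mem (hWU 1) (mul_mem (hWU a) hPU)) 1]
          _ = _ := by group
      rw [h4, hc₁, h2]; group
    rw [e]
    exact mul_mem (inv_mem hc₁H) (mul_mem (mul_mem hzH hc₁H) (inv_mem hzH))
  obtain ⟨x₁, hx₁, hxg, hxu, hxi, hxj⟩ : ∃ x ∈ D.commTerms k h, x.1 = g ∧ c.unit x.2.1 = true ∧
      x.2.2.1 = 1 ∧ x.2.2.2 = 1 := by
    clear hsort hL2p hcomm hL2 hzp hS hWS hPS hab hWd
    revert hterm
    induction D.commTerms k h with
    | nil => simp
    | cons x L ih =>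
      intro h1
      simp only [Bool.or_eq_true, Bool.and_eq_true, Nat.beq_eq] at h1
      rcases h1 with h1 | h1
      · exact ⟨x, List.mem_cons_self, h1.1, h1.2.1, h1.2.2.1, h1.2.2.2⟩
      · obtain ⟨y, hy, h2⟩ := ih h1
        exact ⟨y, List.mem_cons_of_mem _ hy, h2⟩
  have hWfix : ∀ b, Fixed D σ (W b) →
      σ ((x₁.2.1 : F) * (-v) * b) = (x₁.2.1 : F) * (-v) * b := fun b hb => by
    rw [hWd] at hb
    have := sorted_fixed hC σ hsort hL2
      (fun x => (x.2.1 : F) * (-v) ^ x.2.2.1 * b ^ x.2.2.2) hb x₁ hx₁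
    rwa [hxi, hxj, pow_one, pow_one] at this
  have hu1 : σ ((x₁.2.1 : F) * (-v) * 1) = (x₁.2.1 : F) * (-v) * 1 :=
    hWfix 1 (hA H hX _ (hWU 1) (conjs_of_mem hC σ hX hq))
  have hvf : σ v = v := by
    rw [mul_one, map_mul, map_intCast, map_neg] at hu1
    exact neg_inj.1 (mul_left_cancel₀ (hc.unit_ne _ hxu) hu1)
  have htf : σ t = t := by
    rw [hv, map_mul, map_intCast, map_neg] at hvf
    exact neg_inj.1 (mul_left_cancel₀ (hc.unit_ne _ hx2) hvf)
  refine ⟨?_, htf⟩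
  have hPf : P ∈ fixL hC σ := hPd ▸ word_fixed hC σ htf (map_one σ) P₀
  have hWH : W a ∈ H := by
    have e : W a = K⁻¹ * c₁ * P⁻¹ := by rw [hc₁]; group
    rw [e]
    exact mul_mem (mul_mem (inv_mem (hKd ▸ hX.fixL_le (xg_mem_fixL hC σ k hvf))) hc₁H)
      (inv_mem (hX.fixL_le hPf))
  have hua := hWfix a (hA H hX _ (hWU a) (conjs_of_mem hC σ hX hWH))
  rw [map_mul, map_mul, map_intCast, map_neg, hvf] at hua
  exact mul_left_cancel₀ (mul_ne_zero (hc.unit_ne _ hxu) (neg_ne_zero.2 hv0)) hua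

end Cfsg.Agent.SimpleFacts.SubfieldOvergroup
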