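import Cfsg.Agent.SimpleFacts.SubfieldOvergroup.Odd

/-!
Odd characteristic: conjugates of root elements in the subgroup are fixed.
-/

set_option autoImplicit false

namespace Cfsg.Agent.SimpleFacts.SubfieldOvergroup

open Cfsg.Lie Cfsg.Agent.Chevalley.Table Cfsg.Agent.Chevalley.Check Cfsg.Agent.Chevalley.Cert
  Cfsg.Agent.Chevalley.Eval Cfsg.Agent.Chevalley.Perfect
  Cfsg.Agent.Chevalley.Group Cfsg.Agent.Chevalley.Borel Cfsg.Agent.Chevalley.Unip
  Cfsg.Agent.Chevalley.Weyl Cfsg.Agent.Chevalley.Relations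
  Cfsg.Agent.Chevalley.FieldAut Cfsg.Agent.SimpleFacts.ChevalleySubfield
  Cfsg.Agent.SimpleFacts.ChevalleyRadical

variable {D : ChevalleyDatum} {F : Type*} [Field F] {T : Tab} (hC : Certified D T) (σ : F →+* F)
include hC

/-- The element `h_r(-1)` is generated by fixed root elements. -/
theorem hg_minus_mem_fixL (r : ℕ) : hg hC r (-1 : F) ∈ fixL hC σ := by
  refine mul_mem ?_ ?_ <;>
    exact mul_mem (mul_mem (xg_mem_fixL hC σ r (by simp)) (xg_mem_fixL hC σ _ (by simp)))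
      (xg_mem_fixL hC σ r (by simp))

theorem hg_minus_conj {h r : ℕ} (hh : h < D.nroots) (hr : r < D.nroots) (t : F) :
    hg hC h (-1 : F) * xg hC r t * (hg hC h (-1 : F))⁻¹ =
      xg hC r ((-1 : F) ^ pair D h r * t) := by
  have e : (-1 : F) = ((-1 : Fˣ) : F) := by simp
  rw [e, hg_eq_tor hC hh, tor_conj_x hC _ r t hr, torChar_pow hC, Units.val_zpow_eq_zpow_val]

/-- Splitting off a fixed factor from an element whose commutator with `h_h(-1)` is fixed. -/
theorem torus_split (hp2 : (2 : F) ≠ 0) {h : ℕ} (hh : h < D.nroots) :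
    ∀ m a, D.nroots ≤ a + m → ∀ u ∈ Uge hC F a,
      Fixed D σ (u * hg hC h (-1) * u⁻¹ * (hg hC h (-1))⁻¹) →
        ∃ m ∈ fixL hC σ, ∃ b ∈ Subgroup.closure {g : GL D.Idx F | ∃ (r : ℕ) (t : F),
          r < D.nroots ∧ (0 < T.phi r ∧ Even (pair D h r)) ∧ g = xg hC r t}, u = m * b := by
  obtain ⟨s, hs⟩ : ∃ s : GL D.Idx F, s = hg hC h (-1) := ⟨_, rfl⟩
  rw [← hs]
  have hsU : ∀ {a : ℕ} {w : GL D.Idx F}, w ∈ Uge hC F a → s * w * s⁻¹ ∈ Uge hC F a := by
    intro a w hw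
    have hle : Uge hC F a ≤ (Uge hC F a).comap (MulAut.conj s).toMonoidHom := by
      refine (Subgroup.closure_le _).2 ?_
      rintro g ⟨r, t, hr, hp, har, rfl⟩
      show s * xg hC r t * s⁻¹ ∈ Uge hC F a
      rw [hs, hg_minus_conj hC hh hr]
      exact xg_mem_Uge hC hr hp har _
    exact hle hw
  intro m
  induction m with
  | zero =>
    intro a ha u hu _
    rw [Uge_eq_bot hC (by omega), Subgroup.mem_bot] at hu
    exact ⟨1, one_mem _, 1, one_mem _, by rw [hu, one_mul]⟩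
  | succ m ih =>
    intro a ha u hu hf
    by_cases hap : a < D.nroots ∧ 0 < T.phi a
    swap
    · rw [Uge_skip hC hap] at hu
      exact ih (a + 1) (by omega) u hu hf
    obtain ⟨hal, hpa⟩ := hap
    obtain ⟨t, w, hw, rfl⟩ := peel hC hal hpa hu
    obtain ⟨X, hX⟩ : ∃ X, X = xg hC a t := ⟨_, rfl⟩
    rw [← hX] at hf ⊢
    have hconj : s * X⁻¹ * s⁻¹ = xg hC a ((-1 : F) ^ pair D h a * -t) := by
      rw [hX, xg_inv hC, hs, hg_minus_conj hC hh hal]
    by_cases hev : Even (pair D h a)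
    · rw [hev.neg_one_zpow, one_mul, ← xg_inv hC, ← hX] at hconj
      have hcs : X * s * X⁻¹ = s := by
        calc X * s * X⁻¹ = X * (s * X⁻¹ * s⁻¹) * s := by group
          _ = s := by rw [hconj, mul_inv_cancel, one_mul]
      obtain ⟨w', hw'⟩ : ∃ w', w' = X * w * X⁻¹ := ⟨_, rfl⟩
      have e1 : X * w = w' * X := by rw [hw']; group
      have e2 : X * w * s * (X * w)⁻¹ * s⁻¹ = w' * s * w'⁻¹ * s⁻¹ := by
        rw [e1]
        calc w' * X * s * (w' * X)⁻¹ * s⁻¹ = w' * (X * s * X⁻¹) * w'⁻¹ * s⁻¹ := by group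
          _ = _ := by rw [hcs]
      rw [e2] at hf
      obtain ⟨m', hm', b, hb, e3⟩ := ih (a + 1) (by omega) w' (hw' ▸ hX ▸ conj_Uge hC hal hpa t hw) hf
      refine ⟨m', hm', b * X, mul_mem hb ?_, by rw [e1, e3, mul_assoc]⟩
      exact Subgroup.subset_closure ⟨a, t, hal, ⟨hpa, hev⟩, hX⟩
    · rw [(Int.not_even_iff_odd.1 hev).neg_one_zpow, neg_one_mul, neg_neg, ← hX] at hconj
      obtain ⟨C, hCd⟩ : ∃ C, C = w * s * w⁻¹ * s⁻¹ := ⟨_, rfl⟩
      have hCU : C ∈ Uge hC F (a + 1) := by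
        have := mul_mem hw (hsU (inv_mem hw))
        rw [hCd]
        simpa [mul_assoc] using this
      have e2 : X * w * s * (X * w)⁻¹ * s⁻¹ = X * C * X := by
        calc X * w * s * (X * w)⁻¹ * s⁻¹ = X * C * (s * X⁻¹ * s⁻¹) := by rw [hCd]; group
          _ = _ := by rw [hconj]
      rw [e2] at hf
      have hXU : X ∈ D.posUnipotent F := hX ▸ xg_mem_U hC hal hpa t
      have e3 : X * C * X = xg hC a (t + t) * (X⁻¹ * C * X⁻¹⁻¹) := by
        rw [xg_add hC, ← hX]; group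
      rw [e3] at hf
      have htt := fixed_lead hC σ hal hpa (conj_Uge_of_mem hC (inv_mem hXU) hCU) hf
      have ht : σ t = t := by
        rw [map_add, ← two_mul, ← two_mul] at htt
        exact mul_left_cancel₀ hp2 htt
      have hXf : Fixed D σ X := hX ▸ fixed_xg hC σ ht
      have hCf : Fixed D σ C := by
        rw [← e3] at hf
        have := Fixed.mul σ (Fixed.mul σ (Fixed.inv σ hXf) hf) (Fixed.inv σ hXf)
        have e4 : X⁻¹ * (X * C * X) * X⁻¹ = C := by group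
        rwa [e4] at this
      obtain ⟨m', hm', b, hb, e4⟩ := ih (a + 1) (by omega) w hw (hCd ▸ hCf)
      exact ⟨X * m', mul_mem (hX ▸ xg_mem_fixL hC σ a ht) hm', b, hb,
        by rw [mul_assoc, ← e4]⟩

variable {c : Cls} (hc : c.Sound F) {h : ℕ} (hh : centralChk c T [h] = true)
include hc hh

theorem even_split (hev : evenChk c T h = true) {b : GL D.Idx F}
    (hb : b ∈ Subgroup.closure {g : GL D.Idx F | ∃ (r : ℕ) (t : F),
      r < D.nroots ∧ (0 < T.phi r ∧ Even (pair D h r)) ∧ g = xg hC r t}) (t : F) :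
    ∃ a, ∃ d ∈ D.posUnipotent F,
      d * xg hC (D.neg h) t = xg hC (D.neg h) t * d ∧ b = xg hC h a * d := by
  obtain ⟨hhl, hhp, hcen⟩ := h_spec hC hc hh
  induction hb using Subgroup.closure_induction with
  | mem g hg =>
    obtain ⟨r, u, hr, ⟨hrp, hre⟩, rfl⟩ := hg
    by_cases hrh : r = h
    · exact ⟨u, 1, one_mem _, by rw [one_mul, mul_one], by rw [hrh, mul_one]⟩
    refine ⟨0, xg hC r u, xg_mem_U hC hr hrp u, ?_, by rw [xg_zero hC, one_mul]⟩
    rw [xg_comm hC (hC.neg_lt hhl) hr (fun e => by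
      rw [e, hC.phi_neg hhl] at hrp; omega) (by rw [hC.neg_neg hhl]; exact hrh) t u]
    have h1 := of_allR hev r (by rw [hC.n_eq]; exact hr)
    have h2 : Nat.beq r h = false := by rw [Bool.eq_false_iff, ne_eq, Nat.beq_eq]; exact hrh
    have h3 : Nat.beq ((pairT T h r).natAbs % 2) 0 = true := by
      rw [Nat.beq_eq, pairT_eq hC hhl hr, ← Nat.even_iff, Int.natAbs_even]; exact hre
    simp only [(iblt_iff _ _).2 hrp, h2, h3, Bool.not_false, Bool.and_self, Bool.not_true,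
      Bool.false_or] at h1
    rw [hC.neg_eq hhl, commOf_eq hC (hC.neg_lt hhl) hr] at h1
    rw [word_one hC hc h1, mul_one]
  | one => exact ⟨0, 1, one_mem _, by rw [one_mul, mul_one], by rw [xg_zero hC, one_mul]⟩
  | mul x y _ _ ihx ihy =>
    obtain ⟨a, d, hd, hdc, rfl⟩ := ihx
    obtain ⟨a', d', hd', hdc', rfl⟩ := ihy
    refine ⟨a + a', d * d', mul_mem hd hd', ?_, ?_⟩
    · rw [mul_assoc, hdc', ← mul_assoc, hdc, mul_assoc]
    · rw [xg_add hC]
      calc xg hC h a * d * (xg hC h a' * d') = xg hC h a * (d * xg hC h a') * d' := by group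
        _ = xg hC h a * (xg hC h a' * d) * d' := by rw [← hcen d hd]
        _ = _ := by group
  | inv x _ ih =>
    obtain ⟨a, d, hd, hdc, rfl⟩ := ih
    refine ⟨-a, d⁻¹, inv_mem hd, ?_, ?_⟩
    · rw [inv_mul_eq_iff_eq_mul, ← mul_assoc, hdc, mul_inv_cancel_right]
    · rw [mul_inv_rev, ← xg_inv hC, xg_inv hC h a]
      exact (hcen _ (inv_mem hd) _).symm

/-- An opposite long root element of the subgroup is fixed. -/
theorem opposite_fixed (p : ℕ) [Fact p.Prime] [CharP F p] (hp2 : p ≠ 2) (hA : UFixed hC σ)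
    (hev : evenChk c T h = true) {g k : ℕ} {rev : Bool} (hopp : oppChk c T h g k rev = true)
    {H : Subgroup (GL D.Idx F)} (hH : Finite H) (hX : Ctx hC σ H) {u : GL D.Idx F}
    (hu : u ∈ D.posUnipotent F) {t : F} (ht : t ≠ 0)
    (hy : u * xg hC (D.neg h) t * u⁻¹ ∈ H) : Fixed D σ (u * xg hC (D.neg h) t * u⁻¹) := by
  obtain ⟨hhl, hhp, hcen⟩ := h_spec hC hc hh
  have h2 : (2 : F) ≠ 0 := by
    intro h0
    exact hp2 ((Nat.prime_dvd_prime_iff_eq Fact.out Nat.prime_two).1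
      ((CharP.cast_eq_zero_iff F p 2).1 (by exact_mod_cast h0)))
  let K := H.comap (MulAut.conj u).toMonoidHom
  have hK : Finite K := Finite.of_injective (fun x : K => (⟨u * x * u⁻¹, x.2⟩ : H)) fun a b e =>
    Subtype.ext (mul_left_cancel (mul_right_cancel (congrArg Subtype.val e)))
  have hz : xg hC h (1 : F) ∈ K := by
    show u * xg hC h 1 * u⁻¹ ∈ H
    rw [← hcen u hu, mul_inv_cancel_right]
    exact hX.fixL_le (xg_mem_fixL hC σ h (map_one σ))
  obtain ⟨s, hs⟩ : ∃ s : GL D.Idx F, s = hg hC h (-1) := ⟨_, rfl⟩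
  have hsK : u * s * u⁻¹ ∈ H := hs ▸ minus_mem hC p hp2 hhl hhp ht hK hz hy
  have hsH : s ∈ H := hs ▸ hX.fixL_le (hg_minus_mem_fixL hC σ h)
  have hc0U : u * s * u⁻¹ * s⁻¹ ∈ D.posUnipotent F := by
    have hsN : s ∈ Subgroup.normalizer (D.posUnipotent F : Set (GL D.Idx F)) := by
      refine H_normalizes_U hC ?_
      have e : (-1 : F) = ((-1 : Fˣ) : F) := by simp
      rw [hs, e, hg_eq_tor hC hhl]
      exact tor_mem_H hC _
    have := mul_mem hu ((Subgroup.mem_normalizer_iff.1 hsN _).1 (inv_mem hu))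
    simpa [mul_assoc] using this
  have hf := hA H hX _ hc0U (conjs_of_mem hC σ hX (mul_mem hsK (inv_mem hsH)))
  rw [hs] at hf
  obtain ⟨m, hm, b, hb, rfl⟩ :=
    torus_split hC σ h2 hhl D.nroots 0 (by omega) u (by rwa [Uge_zero hC]) hf
  obtain ⟨a, d, hd, hdc, rfl⟩ := even_split hC hc hh hev hb t
  have e : m * (xg hC h a * d) * xg hC (D.neg h) t * (m * (xg hC h a * d))⁻¹ =
      m * (xg hC h a * xg hC (D.neg h) t * (xg hC h a)⁻¹) * m⁻¹ := by
    calc _ = m * xg hC h a * (d * xg hC (D.neg h) t * d⁻¹) * (xg hC h a)⁻¹ * m⁻¹ := by group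
      _ = _ := by rw [hdc]; group
  rw [e] at hy ⊢
  have hy' : xg hC h a * xg hC (D.neg h) t * (xg hC h a)⁻¹ ∈ H := by
    have := mul_mem (mul_mem (inv_mem (hX.fixL_le hm)) hy) (hX.fixL_le hm)
    simpa [mul_assoc] using this
  obtain ⟨ha, ht'⟩ := opposite_normal hC σ hc hh hA hX hopp ht hy'
  have hmf := fixed_of_mem_fixL hC σ hm
  exact Fixed.mul σ (Fixed.mul σ hmf (Fixed.mul σ (Fixed.mul σ (fixed_xg hC σ ha)
    (fixed_xg hC σ ht')) (Fixed.inv σ (fixed_xg hC σ ha)))) (Fixed.inv σ hmf)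

omit hc hh in
theorem xg_pow_p (p : ℕ) [CharP F p] (r : ℕ) (t : F) : xg hC r t ^ p ^ 1 = 1 := by
  have h : ∀ m : ℕ, xg hC r t ^ m = xg hC r ((m : F) * t) := by
    intro m
    induction m with
    | zero => rw [pow_zero, Nat.cast_zero, zero_mul, xg_zero hC]
    | succ m ih => rw [pow_succ, ih, ← xg_add hC, Nat.cast_succ, add_mul, one_mul]
  rw [pow_one, h, CharP.cast_eq_zero, zero_mul, xg_zero hC]

variable {O : List ℕ} (hO : orbitChk T h O = true)
include hO

/-- Long root elements of the subgroup are fixed. -/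
theorem long_fixed (p : ℕ) [Fact p.Prime] [CharP F p] (hp2 : p ≠ 2) (hA : UFixed hC σ)
    (hcent : CentFixed hC σ p) (hpos : posChk c T h O = true) (hev : evenChk c T h = true)
    {g₀ k₀ : ℕ} {rev : Bool} (hopp : oppChk c T h g₀ k₀ rev = true)
    {H : Subgroup (GL D.Idx F)} (hH : Finite H) (hX : Ctx hC σ H) {g : GL D.Idx F}
    (hg : g ∈ D.group F) {t : F} (ht : t ≠ 0) (hy : g * xg hC h t * g⁻¹ ∈ H) :
    Fixed D σ (g * xg hC h t * g⁻¹) := by
  obtain ⟨hhl, hhp, hcen⟩ := h_spec hC hc hh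
  obtain ⟨γ, hγO, hγ, u, hu, t', ht', e⟩ := long_conj hC hc hh hO hg t
  rw [e] at hy ⊢
  by_cases h1 : γ = h
  · subst h1
    rw [← hcen u hu, mul_inv_cancel_right] at hy ⊢
    exact fixed_xg hC σ (hX.param γ hγ t' hy)
  by_cases h2 : γ = D.neg h
  · rw [h2] at hy ⊢
    exact opposite_fixed hC σ hc hh p hp2 hA hev hopp hH hX hu (ht' ht) hy
  have hrow := of_allL hpos γ hγO
  simp only [Bool.or_eq_true, Nat.beq_eq, hC.neg_eq hhl, h1, h2, false_or,
    commOf_eq hC hhl hγ] at hrow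
  obtain ⟨z, hz⟩ : ∃ z : GL D.Idx F, z = xg hC h 1 := ⟨_, rfl⟩
  obtain ⟨Y, hY⟩ : ∃ Y, Y = xg hC γ t' := ⟨_, rfl⟩
  rw [← hY] at hy ⊢
  have hzL : z ∈ fixL hC σ := hz ▸ xg_mem_fixL hC σ h (map_one σ)
  have hzH : z ∈ H := hX.fixL_le hzL
  have hzu : u * z = z * u := by rw [hz]; exact (hcen u hu 1).symm
  have hγh : γ ≠ h := h1
  have hcm : Y * z = z * Y * ((D.commWord F h γ 1 t').map fun p => xg hC p.1 p.2).prod := by
    rw [hY, hz]; exact xg_comm hC hhl hγ hγh h2 1 t'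
  have hne : ∀ {r : ℕ} {s : F}, r < D.nroots → s ≠ 0 → xg hC r s ≠ 1 := fun {r s} hr hs h0 => by
    rw [← xg_zero hC r] at h0
    exact hs (xg_injective hC hr h0)
  rcases hrow with hzero | hsingle
  · rw [word_one hC hc hzero, mul_one] at hcm
    refine hcent H hX z (fixL_le_group hC σ hzL) (fixed_of_mem_fixL hC σ hzL)
      (hz ▸ hne hhl one_ne_zero) 1 (hz ▸ xg_pow_p hC p h 1) _ (hX.le_group hy)
      (conjs_of_mem hC σ hX hy) ?_
    calc u * Y * u⁻¹ * z = u * Y * (u⁻¹ * z) := by group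
      _ = u * Y * (z * u⁻¹) := by
        rw [show u⁻¹ * z = z * u⁻¹ by rw [inv_mul_eq_iff_eq_mul, ← mul_assoc, hzu, mul_inv_cancel_right]]
      _ = u * (Y * z) * u⁻¹ := by group
      _ = u * z * Y * u⁻¹ := by rw [hcm]; group
      _ = z * (u * Y * u⁻¹) := by rw [hzu]; group
  · obtain ⟨x, hL⟩ : ∃ x, D.commTerms h γ = [x] := by
      cases hcs : D.commTerms h γ with
      | nil => rw [hcs] at hsingle; simp at hsingle
      | cons x L =>
        rw [hcs] at hsingle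
        simp only [Bool.and_eq_true, List.isEmpty_iff] at hsingle
        exact ⟨x, by rw [hsingle.1]⟩
    rw [hL] at hsingle
    simp only [Bool.and_eq_true, iblt_iff, Bool.not_eq_true', List.isEmpty_nil, true_and] at hsingle
    obtain ⟨hxu, hxp, hxg, hxn, hxz⟩ := hsingle
    have hxl : x.1 < D.nroots :=
      (commTerms_phi hC hhl hγ x (by rw [hL]; exact List.mem_cons_self)).1
    obtain ⟨v, hv⟩ : ∃ v, v = (x.2.1 : F) * (-1) ^ x.2.2.1 * t' ^ x.2.2.2 := ⟨_, rfl⟩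
    have hv0 : v ≠ 0 := hv ▸ mul_ne_zero (mul_ne_zero (hc.unit_ne _ hxu)
      (pow_ne_zero _ (neg_ne_zero.2 one_ne_zero))) (pow_ne_zero _ (ht' ht))
    obtain ⟨W, hW⟩ : ∃ W, W = xg hC x.1 v := ⟨_, rfl⟩
    have hword : ((D.commWord F h γ 1 t').map fun p => xg hC p.1 p.2).prod = W := by
      simp [ChevalleyDatum.commWord, hL, hW, hv]
    rw [hword] at hcm
    obtain ⟨C, hC'⟩ : ∃ C, C = u * W * u⁻¹ := ⟨_, rfl⟩
    have hCH : C ∈ H := by
      have e1 : C = (z * (u * Y * u⁻¹))⁻¹ * (u * Y * u⁻¹ * z) := by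
        have e2 : u * Y * u⁻¹ * z = z * (u * Y * u⁻¹) * C := by
          calc u * Y * u⁻¹ * z = u * (Y * z) * u⁻¹ := by
                rw [show u * (Y * z) * u⁻¹ = u * Y * (z * u⁻¹) by group,
                  show z * u⁻¹ = u⁻¹ * z by
                    rw [eq_inv_mul_iff_mul_eq, ← mul_assoc, hzu, mul_inv_cancel_right]]
                group
            _ = u * z * Y * W * u⁻¹ := by rw [hcm]; group
            _ = z * (u * Y * u⁻¹) * C := by rw [hzu, hC']; group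
        rw [e2]; group
      rw [e1]
      exact mul_mem (inv_mem (mul_mem hzH hy)) (mul_mem hy hzH)
    have hCU : C ∈ D.posUnipotent F :=
      hC' ▸ mul_mem (mul_mem hu (hW ▸ xg_mem_U hC hxl hxp v)) (inv_mem hu)
    have hxg' : x.1 ≠ γ := fun e => by simp [e] at hxg
    have hxn' : x.1 ≠ D.neg γ := fun e => by simp [e, hC.neg_eq hγ] at hxn
    rw [commOf_eq hC hγ hxl] at hxz
    have hWY : W * Y = Y * W := by
      have h3 := xg_comm hC hγ hxl hxg' hxn' t' v
      rw [word_one hC hc hxz, mul_one] at h3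
      rw [hW, hY]; exact h3
    refine hcent H hX C (hX.le_group hCH) (hA H hX C hCU (conjs_of_mem hC σ hX hCH)) ?_ 1 ?_ _
      (hX.le_group hy) (conjs_of_mem hC σ hX hy) ?_
    · intro h0
      refine hne hxl hv0 ?_
      rw [← hW]
      calc W = u⁻¹ * C * u := by rw [hC']; group
        _ = 1 := by rw [h0]; group
    · rw [hC', conj_pow, hW, xg_pow_p hC p, mul_one, mul_inv_cancel]
    · calc u * Y * u⁻¹ * C = u * (Y * W) * u⁻¹ := by rw [hC']; group
        _ = C * (u * Y * u⁻¹) := by rw [← hWY, hC']; group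

/-- **Fixed parameters imply fixed elements, in odd characteristic.** -/
theorem allFixed_odd (p : ℕ) [Fact p.Prime] [CharP F p] (hp2 : p ≠ 2) (hA : UFixed hC σ)
    (hcent : CentFixed hC σ p) (hpos : posChk c T h O = true) (hev : evenChk c T h = true)
    {g₀ k₀ : ℕ} {rev : Bool} (hopp : oppChk c T h g₀ k₀ rev = true) {Dm : List ℕ}
    (hD : domChk T Dm = true) (hDp : ∀ d ∈ Dm, 0 < T.phi d) : AllFixed hC σ := by
  obtain ⟨hhl, hhp, hcen⟩ := h_spec hC hc hh
  intro H hH hX g hg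
  refine fixed_of_all hC σ (hX.le_group hg) fun r hr t ht => ?_
  rcases eq_or_ne t 0 with rfl | ht0
  · rw [xg_zero hC, mul_one, mul_inv_cancel]; exact map_one _
  obtain ⟨L, hL, d, hd, hdl, rfl⟩ := exists_dom_conj hC hD r hr
  obtain ⟨t', ht', ht'0, e⟩ := conj_root hC hL hdl σ ht
  have hyH : g * xg hC (wL D L d) t * g⁻¹ ∈ H :=
    mul_mem (mul_mem hg (hX.fixL_le (xg_mem_fixL hC σ _ ht))) (inv_mem hg)
  obtain ⟨g', hg'⟩ : ∃ g', g' = g * nL hC F L := ⟨_, rfl⟩
  have hg'H : g' ∈ H := hg' ▸ mul_mem hg (hX.fixL_le (nL_mem_fixL hC σ L))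
  have ey : g * xg hC (wL D L d) t * g⁻¹ = g' * xg hC d t' * g'⁻¹ := by rw [e, hg']; group
  rw [ey] at hyH ⊢
  have hzL : xg hC h (1 : F) ∈ fixL hC σ := xg_mem_fixL hC σ h (map_one σ)
  have hcH : g' * xg hC h 1 * g'⁻¹ ∈ H := mul_mem (mul_mem hg'H (hX.fixL_le hzL)) (inv_mem hg'H)
  have hcf := long_fixed hC σ hc hh hO p hp2 hA hcent hpos hev hopp hH hX (hX.le_group hg'H)
    (one_ne_zero (α := F)) hcH
  refine hcent H hX _ (hX.le_group hcH) hcf ?_ 1 ?_ _ (hX.le_group hyH)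
    (conjs_of_mem hC σ hX hyH) ?_
  · intro h0
    refine one_ne_zero (α := F) (xg_injective hC hhl ?_)
    show xg hC h 1 = xg hC h 0
    rw [xg_zero hC]
    calc xg hC h 1 = g'⁻¹ * (g' * xg hC h 1 * g'⁻¹) * g' := by group
      _ = 1 := by rw [h0]; group
  · rw [conj_pow, xg_pow_p hC p, mul_one, mul_inv_cancel]
  · have hdz := hcen _ (xg_mem_U hC hdl (hDp d hd) t') 1
    calc g' * xg hC d t' * g'⁻¹ * (g' * xg hC h 1 * g'⁻¹)
        = g' * (xg hC d t' * xg hC h 1) * g'⁻¹ := by group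
      _ = g' * (xg hC h 1 * xg hC d t') * g'⁻¹ := by rw [hdz]
      _ = _ := by group

end Cfsg.Agent.SimpleFacts.SubfieldOvergroup
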