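import Cfsg.Agent.SimpleFacts.SubfieldOvergroup.Peel
import Cfsg.Agent.Lib.Chevalley.Parabolic

/-!
Parabolic subgroups conjugate to their image under the field endomorphism have a fixed representative,
and their elements conjugating `fixL` into the subgroup are fixed.
-/

set_option autoImplicit false

namespace Cfsg.Agent.SimpleFacts.SubfieldOvergroup

open Cfsg.Lie Cfsg.Agent.Chevalley.Table Cfsg.Agent.Chevalley.Cert
  Cfsg.Agent.Chevalley.Group Cfsg.Agent.Chevalley.Borel Cfsg.Agent.Chevalley.Unip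
  Cfsg.Agent.Chevalley.Weight Cfsg.Agent.Chevalley.Graded Cfsg.Agent.Chevalley.Coef
  Cfsg.Agent.Chevalley.NormalForm Cfsg.Agent.Chevalley.Weyl Cfsg.Agent.Chevalley.Bruhat
  Cfsg.Agent.Chevalley.FieldAut Cfsg.Agent.SimpleFacts.ChevalleySubfield
  Cfsg.Agent.SimpleFacts.ChevalleyRadical

variable {D : ChevalleyDatum} {F : Type*} [Field F] {T : Tab} (hC : Certified D T) (σ : F →+* F)
include hC

/-- If `g⁻¹σ(g)` lies in `U` then `g` is a fixed element times an element of `U`. -/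
theorem bruhat_fixed {g : GL D.Idx F} (hg : g ∈ D.group F)
    (hd : g⁻¹ * mapGL D σ g ∈ D.posUnipotent F) :
    ∃ m ∈ D.group F, Fixed D σ m ∧ ∃ v ∈ D.posUnipotent F, g = m * v := by
  obtain ⟨d, hdd⟩ : ∃ d, d = g⁻¹ * mapGL D σ g := ⟨_, rfl⟩
  rw [← hdd] at hd
  obtain ⟨b, hb, n, hn, u, hu, e⟩ := exists_form hC (inv_mem hg)
  obtain ⟨c, L, hL, rfl⟩ := (mem_N_iff hC).1 hn
  have hu1 : u ∈ Uminus D F (nL hC F L) := by
    have e1 : (tor D (1 : ℕ → Fˣ) : GL D.Idx F) * nL hC F L = nL hC F L := by rw [tor_one, one_mul]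
    rw [← e1, Uminus_eq hC hL]
    rwa [Uminus_eq hC hL] at hu
  have hu2 : mapGL D σ u ∈ Uminus D F (nL hC F L) := by
    have e1 : (tor D (1 : ℕ → Fˣ) : GL D.Idx F) * nL hC F L = nL hC F L := by rw [tor_one, one_mul]
    rw [← e1, Uminus_eq hC hL] at hu1 ⊢
    exact map_mem_closure_x hC σ hu1
  have hbB : b * tor D c ∈ D.borelSubgroup F :=
    mul_mem hb (Subgroup.mem_sup_right (tor_mem_H hC c))
  have hN := nL_mem_N (F := F) hC hL
  have hdB : d⁻¹ * (b * tor D c) ∈ D.borelSubgroup F :=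
    mul_mem (Subgroup.mem_sup_left (inv_mem hd)) hbB
  have e1 : mapGL D σ (b * tor D c) * nL hC F L * mapGL D σ u =
      d⁻¹ * (b * tor D c) * nL hC F L * u := by
    calc _ = mapGL D σ (b * (tor D c * nL hC F L) * u) := by
            simp only [map_mul, map_nL hC σ, mul_assoc]
      _ = d⁻¹ * g⁻¹ := by rw [← e, hdd, map_inv]; group
      _ = _ := by rw [e]; group
  obtain ⟨e2, e3⟩ := (unique_form hC (map_mem_B hC σ hbB) hdB hN hN hu2 hu1 e1).2 rfl
  obtain ⟨w, hw, h, hh, hwh⟩ := (mem_B_iff hC).1 hbB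
  rw [hwh, map_mul] at e2
  have h5 : (d⁻¹ * w)⁻¹ * mapGL D σ w ∈ (⊥ : Subgroup (GL D.Idx F)) := by
    rw [← U_inf_H hC]
    refine Subgroup.mem_inf.2 ⟨mul_mem (inv_mem (mul_mem (inv_mem hd) hw)) (map_mem_U hC σ hw), ?_⟩
    have e4 : (d⁻¹ * w)⁻¹ * mapGL D σ w = h * (mapGL D σ h)⁻¹ :=
      calc _ = (d⁻¹ * w)⁻¹ * (mapGL D σ w * mapGL D σ h) * (mapGL D σ h)⁻¹ := by group
        _ = _ := by rw [e2]; group
    rw [e4]
    exact mul_mem hh (inv_mem (map_mem_H hC σ hh))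
  rw [Subgroup.mem_bot, inv_mul_eq_one] at h5
  rw [← h5, ← mul_assoc] at e2
  have hσh : mapGL D σ h = h := mul_left_cancel e2
  obtain ⟨m, hm⟩ : ∃ m, m = h * nL hC F L * u := ⟨_, rfl⟩
  have hmf : Fixed D σ m := by
    rw [Fixed, hm, map_mul, map_mul, hσh, map_nL hC σ, e3]
  have hmG : m ∈ D.group F := hm ▸ mul_mem (mul_mem (H_le_group hC hh) (N_le_group hC hN))
    (B_le_group hC (Subgroup.mem_sup_left (Uminus_le_U hC _ hu)))
  refine ⟨m⁻¹, inv_mem hmG, Fixed.inv σ hmf, w⁻¹, inv_mem hw, ?_⟩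
  have e5 : g⁻¹ = w * m := by
    calc g⁻¹ = b * tor D c * nL hC F L * u := by rw [e]; group
      _ = w * m := by rw [hwh, hm]; group
  rw [← mul_inv_rev, ← e5, inv_inv]

variable {N : List (List ℤ)} (hN : coefChk T N = true)
include hN

omit hN in
/-- A parabolic subgroup meets the opposite radical trivially. -/
theorem parabolic_inf_opposite (J : Set ℕ) {a : ℕ → ℤ}
    (ha : ∀ r < D.nroots, (lin D a r = 0 ↔ D.InRootSub J r) ∧ (0 < T.phi r → 0 ≤ lin D a r))
    {g : GL D.Idx F} (h1 : g ∈ D.parabolicSubgroup F J)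
    (h2 : g ∈ Subgroup.closure {g : GL D.Idx F | ∃ (s : ℕ) (t : F),
      s < D.nroots ∧ lin D a s < 0 ∧ g = xg hC s t}) : g = 1 := by
  have hP : D.parabolicSubgroup F J ≤ UT (deg D a) 0 le_rfl := by
    have hom : homogSubgroup (D := D) (F := F) a ≤ UT (deg D a) 0 le_rfl := by
      intro x hx
      refine ⟨fun i j hij => ?_, fun i j hij => ?_⟩
      · by_cases e : i = j
        · rw [e, sub_self]
        · rw [Matrix.sub_apply, Matrix.one_apply_ne e, sub_zero] at hij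
          rw [hx.1 i j hij, sub_self]
      · by_cases e : i = j
        · rw [e, sub_self]
        · rw [Matrix.sub_apply, Matrix.one_apply_ne e, sub_zero] at hij
          rw [hx.2 i j hij, sub_self]
    rw [← Cfsg.Agent.Chevalley.Parabolic.radical_sup_levi hC J]
    refine sup_le ?_ (sup_le ((H_le_homog hC a).trans hom) ?_)
    · rw [ChevalleyDatum.unipotentRadical, Subgroup.closure_le]
      rintro x ⟨r, t, hr, hJ, hx⟩
      rw [eq_xg hC hx]
      have h3 := (ha r hr.1).2 ((hC.posRoot_iff hr.1).1 hr)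
      have h4 : lin D a r ≠ 0 := fun e => hJ ((ha r hr.1).1.1 e)
      exact UT_mono (deg D a) zero_le_one le_rfl zero_le_one (xg_mem_UT_deg hC a hr.1 (by omega) t)
    · rw [Subgroup.closure_le]
      rintro x ⟨r, t, hr, hx⟩
      rw [eq_xg hC hx]
      exact hom (xg_mem_homog hC a hr.1 ((ha r hr.1).1.2 hr) t)
  have hlin : ∀ r, lin D (fun j => -a j) r = -lin D a r := fun r => by
    simp [lin, Finset.sum_neg_distrib]
  have hdeg : deg D (fun j => -a j) = fun i => -deg D a i := by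
    funext i
    rcases i with i | i <;> simp [deg, hlin]
  have hV : g ∈ UT (deg D (fun j => -a j)) 1 zero_le_one := by
    refine (Subgroup.closure_le _).2 ?_ h2
    rintro x ⟨s, t, hs, hneg, rfl⟩
    exact xg_mem_UT_deg hC _ hs (by rw [hlin]; omega) t
  rw [hdeg] at hV
  exact eq_one_of_pos_neg _ (Or.inr Int.one_pos) (hP h1) hV

/-- A coset of a parabolic subgroup stable under `σ` contains a fixed element. -/
theorem fixed_rep {J : Set ℕ} {g : GL D.Idx F} (hg : g ∈ D.group F)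
    (hd : g⁻¹ * mapGL D σ g ∈ D.parabolicSubgroup F J) :
    ∃ m ∈ D.group F, Fixed D σ m ∧ m⁻¹ * g ∈ D.parabolicSubgroup F J := by
  classical
  obtain ⟨a, ha⟩ := exists_coefJ hC hN J
  have hBP : D.borelSubgroup F ≤ D.parabolicSubgroup F J := le_sup_left
  obtain ⟨b, hb, n₀, hn, u, hu, rfl⟩ := exists_form hC hg
  obtain ⟨c, L, hL, rfl⟩ := (mem_N_iff hC).1 hn
  obtain ⟨v, hv, h, hh, hvh⟩ := (mem_B_iff hC).1
    (mul_mem hb (Subgroup.mem_sup_right (tor_mem_H hC c)) : b * tor D c ∈ D.borelSubgroup F)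
  obtain ⟨n, hnd⟩ : ∃ n, n = nL hC F L := ⟨_, rfl⟩
  have hnN : n ∈ D.monomialSubgroup F := hnd ▸ nL_mem_N hC hL
  have hnG : n ∈ D.group F := N_le_group hC hnN
  have hσn : mapGL D σ n = n := by rw [hnd]; exact map_nL hC σ L
  -- `v * n` represents the coset
  have hrep : (v * n)⁻¹ * (b * (tor D c * nL hC F L) * u) ∈ D.parabolicSubgroup F J := by
    have e : (v * n)⁻¹ * (b * (tor D c * nL hC F L) * u) = n⁻¹ * h * n * u :=
      calc _ = n⁻¹ * v⁻¹ * (b * tor D c) * nL hC F L * u := by group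
        _ = _ := by rw [hvh, hnd]; group
    rw [e]
    refine mul_mem (hBP (Subgroup.mem_sup_right ?_)) (hBP (Subgroup.mem_sup_left (Uminus_le_U hC _ hu)))
    have := H_conj hC (inv_mem hnN) hh
    simpa using this
  obtain ⟨G₀, hG₀⟩ : ∃ x, x = b * (tor D c * nL hC F L) * u := ⟨_, rfl⟩
  rw [← hG₀] at hd hrep ⊢
  have hd' : (v * n)⁻¹ * mapGL D σ (v * n) ∈ D.parabolicSubgroup F J := by
    have e : (v * n)⁻¹ * mapGL D σ (v * n) = ((v * n)⁻¹ * G₀) * (G₀⁻¹ * mapGL D σ G₀) *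
        (mapGL D σ ((v * n)⁻¹ * G₀))⁻¹ := by
      rw [map_mul _ (v * n)⁻¹, map_inv]; group
    rw [e]
    exact mul_mem (mul_mem hrep hd) (inv_mem (map_mem_parabolic hC σ hrep))
  -- the two kinds of roots
  obtain ⟨Q, hQ⟩ : ∃ Q : ℕ → Bool, Q = fun r => decide (lin D a (wL D L.reverse r) < 0) :=
    ⟨_, rfl⟩
  have hLr : ∀ i ∈ L.reverse, i < D.rank := fun i hi => hL i (List.mem_reverse.1 hi)
  have hconj : ∀ r < D.nroots, ∀ t : F, ∃ t', n⁻¹ * xg hC r t * n = xg hC (wL D L.reverse r) t' := by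
    intro r hr t
    have hs := wL_lt hC hLr hr
    obtain ⟨η, hη, e⟩ := nL_conj_x (F := F) hC hL hs
    have hback : wL D L (wL D L.reverse r) = r := by
      have := wL_reverse hC hLr hr
      rwa [List.reverse_reverse] at this
    rw [hback] at e
    refine ⟨η⁻¹ * t, ?_⟩
    have e1 := e (η⁻¹ * t)
    rw [← mul_assoc, mul_inv_cancel₀ hη, one_mul] at e1
    rw [hnd, ← e1]; group
  rw [← Uge_zero hC] at hv
  obtain ⟨f, hf⟩ := split_decomp hC Q 0 v hv
  obtain ⟨A, hA⟩ : ∃ A, A = prodX hC ((posFrom D 0).filter Q) f := ⟨_, rfl⟩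
  obtain ⟨B, hB⟩ : ∃ B, B = prodX hC ((posFrom D 0).filter fun r => !Q r).reverse f := ⟨_, rfl⟩
  rw [← hA, ← hB] at hf
  have hBn : n⁻¹ * B * n ∈ D.parabolicSubgroup F J := by
    have hle : B ∈ (D.parabolicSubgroup F J).comap (MulAut.conj n⁻¹).toMonoidHom := by
      rw [hB]
      refine list_prod_mem fun y hy => ?_
      obtain ⟨r, hr, rfl⟩ := List.mem_map.1 hy
      obtain ⟨hr', hq⟩ := List.mem_filter.1 (List.mem_reverse.1 hr)
      obtain ⟨hlt, -, -⟩ := (mem_posFrom hC).1 hr'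
      obtain ⟨t', e⟩ := hconj r hlt (f r)
      show n⁻¹ * xg hC r (f r) * n⁻¹⁻¹ ∈ D.parabolicSubgroup F J
      rw [inv_inv, e]
      have hs := wL_lt hC hLr hlt
      rw [hQ] at hq
      simp only [Bool.not_eq_true', decide_eq_false_iff_not, not_lt] at hq
      rcases lt_or_eq_of_le hq with hl | hl
      · refine hBP (Subgroup.mem_sup_left (xg_mem_U hC hs ?_ _))
        by_contra hcon
        have hneg : 0 < T.phi (D.neg (wL D L.reverse r)) := by
          have := hC.phi_ne_zero hs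
          rw [hC.phi_neg hs]; omega
        have := (ha _ (hC.neg_lt hs)).2 hneg
        rw [lin_neg hC a hs] at this
        omega
      · rw [← Cfsg.Agent.Chevalley.Parabolic.radical_sup_levi hC J]
        exact Subgroup.mem_sup_right (Subgroup.mem_sup_right (Subgroup.subset_closure
          ⟨_, t', (ha _ hs).1.1 hl.symm, coe_xg hC _ _⟩))
    simpa [mul_assoc] using hle
  obtain ⟨W, hW⟩ : ∃ W : Subgroup (GL D.Idx F), W = Subgroup.closure {g : GL D.Idx F |
      ∃ (s : ℕ) (t : F), s < D.nroots ∧ lin D a s < 0 ∧ g = xg hC s t} := ⟨_, rfl⟩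
  have hAn : n⁻¹ * A * n ∈ W := by
    have hle : A ∈ W.comap (MulAut.conj n⁻¹).toMonoidHom := by
      rw [hA]
      refine list_prod_mem fun y hy => ?_
      obtain ⟨r, hr, rfl⟩ := List.mem_map.1 hy
      obtain ⟨hr', hq⟩ := List.mem_filter.1 hr
      obtain ⟨hlt, -, -⟩ := (mem_posFrom hC).1 hr'
      obtain ⟨t', e⟩ := hconj r hlt (f r)
      show n⁻¹ * xg hC r (f r) * n⁻¹⁻¹ ∈ W
      rw [inv_inv, e, hW]
      rw [hQ] at hq
      exact Subgroup.subset_closure ⟨_, t', wL_lt hC hLr hlt, of_decide_eq_true hq, rfl⟩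
    simpa [mul_assoc] using hle
  have hσA : mapGL D σ A = A := by
    have hσW : mapGL D σ (n⁻¹ * A * n) ∈ W := by
      rw [hW] at hAn ⊢
      exact map_mem_closure_x' hC σ hAn
    have h1 : n⁻¹ * (A⁻¹ * mapGL D σ A) * n ∈ W := by
      have e : n⁻¹ * (A⁻¹ * mapGL D σ A) * n = (n⁻¹ * A * n)⁻¹ * mapGL D σ (n⁻¹ * A * n) := by
        rw [map_mul, map_mul, map_inv, hσn]; group
      rw [e]
      exact mul_mem (inv_mem hAn) hσW
    have h2 : n⁻¹ * (A⁻¹ * mapGL D σ A) * n ∈ D.parabolicSubgroup F J := by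
      have e : n⁻¹ * (A⁻¹ * mapGL D σ A) * n = (n⁻¹ * B * n) * ((v * n)⁻¹ * mapGL D σ (v * n)) *
          (mapGL D σ (n⁻¹ * B * n))⁻¹ := by
        simp only [hf, map_mul, map_inv, hσn]; group
      rw [e]
      exact mul_mem (mul_mem hBn hd') (inv_mem (map_mem_parabolic hC σ hBn))
    have h3 := parabolic_inf_opposite hC J ha h2 (hW ▸ h1)
    have h4 : A⁻¹ * mapGL D σ A = 1 := by
      calc A⁻¹ * mapGL D σ A = n * (n⁻¹ * (A⁻¹ * mapGL D σ A) * n) * n⁻¹ := by group
        _ = 1 := by rw [h3]; group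
    exact (inv_mul_eq_one.1 h4).symm
  have hAG : A ∈ D.group F := by
    rw [hA]
    refine list_prod_mem fun y hy => ?_
    obtain ⟨r, hr, rfl⟩ := List.mem_map.1 hy
    exact xg_mem_group hC ((mem_posFrom hC).1 (List.mem_filter.1 hr).1).1 _
  refine ⟨A * n, mul_mem hAG hnG, Fixed.mul σ hσA hσn, ?_⟩
  have e : (A * n)⁻¹ * G₀ = (n⁻¹ * B * n) * ((v * n)⁻¹ * G₀) := by rw [hf]; group
  rw [e]
  exact mul_mem hBn hrep

variable (hS : stepChk T = true) (hA : UFixed hC σ)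
include hS hA

/-- An element of a proper parabolic subgroup conjugating `fixL` into the subgroup is fixed. -/
theorem parabolic_fixed {H : Subgroup (GL D.Idx F)} (hX : Ctx hC σ H) {J : Set ℕ}
    (hJ : ∃ i, i < D.rank ∧ i ∉ J) {g : GL D.Idx F} (hgP : g ∈ D.parabolicSubgroup F J)
    (h : Conjs hC σ H g) : Fixed D σ g := by
  have hg : g ∈ D.group F := parabolic_le_group hC J hgP
  have hnorm := Cfsg.Agent.Chevalley.Parabolic.normalizes (F := F) hC hN J
  have hd : g⁻¹ * mapGL D σ g ∈ D.posUnipotent F := by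
    refine centralizer_roots_le_U hC hN hS hJ
      (mul_mem (inv_mem hgP) (map_mem_parabolic hC σ hgP)) fun r hr hp hrJ => ?_
    have hxR : xg hC r (1 : F) ∈ D.unipotentRadical F J :=
      Subgroup.subset_closure ⟨r, 1, (hC.posRoot_iff hr).2 hp, hrJ, coe_xg hC r 1⟩
    have hyH := h _ (xg_mem_fixL hC σ r (map_one σ))
    have hyU : g * xg hC r 1 * g⁻¹ ∈ D.posUnipotent F :=
      radical_le_U hC J ((Subgroup.mem_normalizer_iff.1 (hnorm hgP) _).1 hxR)
    exact commute_of_fixed_conj σ (fixed_xg hC σ (map_one σ))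
      (hA H hX _ hyU (conjs_of_mem hC σ hX hyH))
  obtain ⟨m, hmG, hmf, v, hv, rfl⟩ := bruhat_fixed hC σ hg hd
  refine Fixed.mul σ hmf (hA _ (Ctx.conj hC σ hX hmG hmf) v hv ?_)
  have := Conjs.conj_left hC σ (m := m) h
  simpa using this

end Cfsg.Agent.SimpleFacts.SubfieldOvergroup
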