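import Cfsg.Agent.SimpleFacts.SubfieldOvergroup.StuckPairs
import Cfsg.Agent.SimpleFacts.SubfieldOvergroup.OddMain

/-!
The parameters of the root elements of a finite subgroup containing `fixL`: sets `Lam r`, their
invariance, and the rules by which products and powers of parameters are again parameters.
-/

set_option autoImplicit false

namespace Cfsg.Agent.SimpleFacts.SubfieldOvergroup

open Cfsg.Lie Cfsg.Agent.Chevalley.Table Cfsg.Agent.Chevalley.Check Cfsg.Agent.Chevalley.Cert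
  Cfsg.Agent.Chevalley.Eval Cfsg.Agent.Chevalley.Perfect
  Cfsg.Agent.Chevalley.Group Cfsg.Agent.Chevalley.Borel Cfsg.Agent.Chevalley.Unip
  Cfsg.Agent.Chevalley.Weyl
  Cfsg.Agent.Chevalley.FieldAut Cfsg.Agent.SimpleFacts.ChevalleySubfield

/-- Exactly one non-zero term: `k`, with unit constant, of degree one in both parameters. -/
noncomputable def mulL (c : Cls) (k : ℕ) (L : List Trm) : Bool :=
  List.rec false (fun x rest ih =>
    (Nat.beq x.1 k && (c.unit x.2.1 && (Nat.beq x.2.2.1 1 && (Nat.beq x.2.2.2 1 &&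
      zeroAll c rest)))) || (c.zero x.2.1 && ih)) L

/-- A commutator of two root elements is a root element with the product of the parameters. -/
noncomputable def mulChk (c : Cls) (T : Tab) (a b k : ℕ) : Bool :=
  Nat.blt a T.n && (Nat.blt b T.n && (!Nat.beq b a && (!Nat.beq b (T.neg a) &&
    mulL c k (commOf T.E a b))))

/-- The first of two commuting terms is bilinear and separated from the other by `h_e(-1)`. -/
noncomputable def sepMulChk (c : Cls) (T : Tab) (a b e k : ℕ) : Bool :=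
  Nat.blt a T.n && (Nat.blt b T.n && (!Nat.beq b a && (!Nat.beq b (T.neg a) && (Nat.blt e T.n &&
    List.rec false (fun x L _ => List.rec false (fun y M _ => List.isEmpty M &&
      (Nat.beq x.1 k && (c.unit x.2.1 && (Nat.beq x.2.2.1 1 && (Nat.beq x.2.2.2 1 &&
        (Nat.beq ((pairT T e x.1).natAbs % 2) 1 && Nat.beq ((pairT T e y.1).natAbs % 2) 0)))))) L)
      (commOf T.E a b)))))

/-- Every root lies in one of the lists. -/
noncomputable def twoOrbitChk (T : Tab) (h s : ℕ) (O : List ℕ) : Bool :=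
  orbitChk T h O && (!List.elem s O && (Nat.blt s T.n && domChk T [h, s]))

variable {D : ChevalleyDatum} {F : Type*} [Field F] {T : Tab} (hC : Certified D T) (σ : F →+* F)

/-- The parameters of the root elements in the subgroup. -/
def Lam (hC : Certified D T) (H : Subgroup (GL D.Idx F)) (r : ℕ) : AddSubgroup F where
  carrier := {t | xg hC r t ∈ H}
  add_mem' {a b} ha hb := by
    show xg hC r (a + b) ∈ H
    rw [xg_add hC]; exact mul_mem ha hb
  zero_mem' := by
    show xg hC r 0 ∈ H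
    rw [xg_zero hC]; exact one_mem H
  neg_mem' {a} ha := by
    show xg hC r (-a) ∈ H
    rw [← xg_inv hC]; exact inv_mem ha

include hC

theorem mem_lam {H : Subgroup (GL D.Idx F)} {r : ℕ} {t : F} : t ∈ Lam hC H r ↔ xg hC r t ∈ H :=
  Iff.rfl

variable {H : Subgroup (GL D.Idx F)} (hL : fixL hC σ ≤ H)

theorem lam_finite [Finite H] {r : ℕ} (hr : r < D.nroots) : (Lam hC H r : Set F).Finite := by
  have : Finite (Lam hC H r) := Finite.of_injective
    (fun t : Lam hC H r => (⟨xg hC r (t : F), t.2⟩ : H))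
    (fun t u h => Subtype.ext (xg_injective hC hr (congrArg Subtype.val h)))
  exact Set.toFinite _

include hL

theorem lam_fixed {r : ℕ} {t : F} (ht : σ t = t) : t ∈ Lam hC H r :=
  hL (xg_mem_fixL hC σ r ht)

theorem lam_refl {i r : ℕ} (hi : i < D.rank) (hr : r < D.nroots) :
    Lam hC H (D.reflectRoot i r) = Lam hC H r := by
  have hn : ng hC (D.simple i) (1 : F) ∈ H := hL (ng_one_mem_fixL hC σ _)
  have hη : (T.eta i r : F) = 1 ∨ (T.eta i r : F) = -1 := by
    rcases Certified.eta_cases (T := T) i r with e | e <;> simp [e]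
  ext t
  rw [mem_lam, mem_lam]
  constructor
  · intro ht
    have key : ∀ u : F, xg hC (D.reflectRoot i r) ((T.eta i r : F) * u) ∈ H → xg hC r u ∈ H := by
      intro u hu
      rw [← ng_conj_x hC hi hr] at hu
      have := mul_mem (mul_mem (inv_mem hn) hu) hn
      simpa [mul_assoc] using this
    rcases hη with e | e
    · exact key t (by rwa [e, one_mul])
    · have := key (-t) (by rwa [e, neg_one_mul, neg_neg])
      rwa [← xg_inv hC, inv_mem_iff] at this
  · intro ht
    have := mul_mem (mul_mem hn ht) (inv_mem hn)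
    rw [ng_conj_x hC hi hr] at this
    rcases hη with e | e
    · rwa [e, one_mul] at this
    · rwa [e, neg_one_mul, ← xg_inv hC, inv_mem_iff] at this

theorem lam_wL : ∀ {L : List ℕ}, (∀ i ∈ L, i < D.rank) → ∀ {r : ℕ}, r < D.nroots →
    Lam hC H (wL D L r) = Lam hC H r
  | [], _, _, _ => rfl
  | i :: L, hL', r, hr => by
    have h' : ∀ j ∈ L, j < D.rank := fun j hj => hL' j (List.mem_cons_of_mem i hj)
    show Lam hC H (D.reflectRoot i (wL D L r)) = _
    rw [lam_refl hC σ hL (hL' i List.mem_cons_self) (wL_lt hC h' hr), lam_wL h' hr]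

theorem lam_one {Dm : ℕ} (hD : domChk T [Dm] = true) :
    ∀ r < D.nroots, Lam hC H r = Lam hC H Dm := fun r hr => by
  obtain ⟨L, hL', d, hd, hdl, rfl⟩ := exists_dom_conj hC hD r hr
  rw [List.mem_singleton] at hd
  subst hd
  exact lam_wL hC σ hL hL' hdl

omit hL in
theorem orbit_of_wL {h : ℕ} {O : List ℕ} (hO : orbitChk T h O = true) :
    ∀ {L : List ℕ}, (∀ i ∈ L, i < D.rank) → ∀ {r : ℕ}, r < D.nroots → wL D L r ∈ O → r ∈ O
  | [], _, _, _, hm => hm
  | i :: L, hL', r, hr, hm => by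
    have h' : ∀ j ∈ L, j < D.rank := fun j hj => hL' j (List.mem_cons_of_mem i hj)
    refine orbit_of_wL hO h' hr ?_
    have hi := hL' i List.mem_cons_self
    have hw := wL_lt hC h' hr
    have hm' : D.reflectRoot i (wL D L r) ∈ O := hm
    simp only [orbitChk, Bool.and_eq_true] at hO
    have h1 := of_allL hO.2 _ hm'
    simp only [Bool.and_eq_true, Nat.blt_eq, hC.n_eq] at h1
    have h2 := of_allR h1.2 i (by rw [hC.l_eq]; exact hi)
    rw [← hC.reflect_eq hi h1.1, hC.reflect_reflect hi hw] at h2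
    simpa using h2

/-- With two orbits there are two parameter sets. -/
theorem lam_two {h s : ℕ} {O : List ℕ} (ho : twoOrbitChk T h s O = true) :
    ∀ r < D.nroots, Lam hC H r = if r ∈ O then Lam hC H h else Lam hC H s := by
  intro r hr
  simp only [twoOrbitChk, Bool.and_eq_true, Bool.not_eq_true'] at ho
  obtain ⟨hO, hs, -, hD⟩ := ho
  have hs' : s ∉ O := by simpa using hs
  obtain ⟨L, hL', d, hd, hdl, rfl⟩ := exists_dom_conj hC hD r hr
  rcases List.mem_cons.1 hd with rfl | hd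
  · rw [if_pos (orbit_mem hC hO hL'), lam_wL hC σ hL hL' hdl]
  · rw [List.mem_singleton] at hd
    subst hd
    rw [if_neg fun hm => hs' (orbit_of_wL hC hO hL' hdl hm), lam_wL hC σ hL hL' hdl]

omit hC hL in
/-- A non-zero integer is invertible by an integer, in prime characteristic. -/
theorem exists_int_inv (p : ℕ) [Fact p.Prime] [CharP F p] {C : ℤ} (hC0 : (C : F) ≠ 0) :
    ∃ m : ℤ, (m : F) * C = 1 := by
  have hp : Prime (p : ℤ) := Nat.prime_iff_prime_int.1 Fact.out
  have hndvd : ¬ (p : ℤ) ∣ C := fun hd => hC0 ((CharP.intCast_eq_zero_iff F p C).2 hd)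
  obtain ⟨x, y, hxy⟩ := (hp.irreducible.coprime_iff_not_dvd.2 hndvd)
  refine ⟨y, ?_⟩
  have := congrArg (fun z : ℤ => (z : F)) hxy
  push_cast at this
  rwa [CharP.cast_eq_zero F p, mul_zero, zero_add] at this

omit hL in
theorem lam_cancel (p : ℕ) [Fact p.Prime] [CharP F p] {C : ℤ} (hC0 : (C : F) ≠ 0) {r : ℕ} {t : F}
    (ht : (C : F) * t ∈ Lam hC H r) : t ∈ Lam hC H r := by
  obtain ⟨m, hm⟩ := exists_int_inv (F := F) p hC0
  have h1 := AddSubgroup.zsmul_mem _ ht m
  rwa [zsmul_eq_mul, ← mul_assoc, hm, one_mul] at h1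

omit hL in
theorem word_mem_of_lam {a b : ℕ} (ha : a < D.nroots) (hb : b < D.nroots) (hba : b ≠ a)
    (hbn : b ≠ D.neg a) {t u : F} (ht : t ∈ Lam hC H a) (hu : u ∈ Lam hC H b) :
    ((D.commWord F a b t u).map fun p => xg hC p.1 p.2).prod ∈ H := by
  have h := xg_comm hC ha hb hba hbn t u
  have ht' : xg hC a t ∈ H := ht
  have hu' : xg hC b u ∈ H := hu
  have e : ((D.commWord F a b t u).map fun p => xg hC p.1 p.2).prod =
      (xg hC a t * xg hC b u)⁻¹ * (xg hC b u * xg hC a t) := by rw [h, inv_mul_cancel_left]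
  rw [e]
  exact mul_mem (inv_mem (mul_mem ht' hu')) (mul_mem hu' ht')

omit hL in
theorem mulL_word {c : Cls} (hc : c.Sound F) {k : ℕ} (t u : F) : ∀ {L : List Trm},
    mulL c k L = true → ∃ C : ℤ, c.unit C = true ∧
      ((L.map fun x => (x.1, (x.2.1 : F) * (-t) ^ x.2.2.1 * u ^ x.2.2.2)).map
        fun p => xg hC p.1 p.2).prod = xg hC k ((C : F) * -(t * u))
  | [], h => by simp [mulL] at h
  | x :: L, h => by
    simp only [mulL, Bool.or_eq_true, Bool.and_eq_true, Nat.beq_eq] at h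
    rcases h with ⟨h1, h2, h3, h4, h5⟩ | ⟨hz, h⟩
    · refine ⟨x.2.1, h2, ?_⟩
      rw [List.map_cons, List.map_cons, List.prod_cons, h1, h3, h4, pow_one, pow_one,
        List.prod_eq_one, mul_one]
      · congr 1; ring
      · intro g hg
        obtain ⟨p, hp, rfl⟩ := List.mem_map.1 hg
        obtain ⟨y, hy, rfl⟩ := List.mem_map.1 hp
        rw [hc.zero_eq _ (of_allL h5 y hy), zero_mul, zero_mul, xg_zero hC]
    · obtain ⟨C, hC1, e⟩ := mulL_word hc t u (L := L) h
      refine ⟨C, hC1, ?_⟩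
      rw [List.map_cons, List.map_cons, List.prod_cons, e, hc.zero_eq _ hz, zero_mul, zero_mul,
        xg_zero hC, one_mul]

omit hL in
/-- Products of parameters. -/
theorem lam_mul (p : ℕ) [Fact p.Prime] [CharP F p] {c : Cls} (hc : c.Sound F) {a b k : ℕ}
    (hm : mulChk c T a b k = true) {t u : F} (ht : t ∈ Lam hC H a) (hu : u ∈ Lam hC H b) :
    t * u ∈ Lam hC H k := by
  simp only [mulChk, Bool.and_eq_true, Nat.blt_eq, Bool.not_eq_true', hC.n_eq] at hm
  obtain ⟨ha, hb, hba, hbn, hl⟩ := hm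
  rw [commOf_eq hC ha hb] at hl
  have h1 := word_mem_of_lam hC ha hb (fun e => by simp [e] at hba)
    (fun e => by rw [hC.neg_eq ha] at hbn; simp [e] at hbn) ht hu
  obtain ⟨C, hCu, e⟩ := mulL_word hC hc t u hl
  rw [ChevalleyDatum.commWord, e] at h1
  have h2 := lam_cancel hC p (hc.unit_ne _ hCu) (mem_lam hC |>.2 h1)
  exact neg_mem_iff.1 h2

/-- Products of parameters, separated from a second term by a torus element. -/
theorem lam_sep (p : ℕ) [Fact p.Prime] [CharP F p] (h2 : (2 : F) ≠ 0) {c : Cls} (hc : c.Sound F)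
    {a b e k : ℕ} (hm : sepMulChk c T a b e k = true) {t u : F} (ht : t ∈ Lam hC H a)
    (hu : u ∈ Lam hC H b) : t * u ∈ Lam hC H k := by
  simp only [sepMulChk, Bool.and_eq_true, Nat.blt_eq, Bool.not_eq_true', hC.n_eq] at hm
  obtain ⟨ha, hb, hba, hbn, he, hrec⟩ := hm
  rw [commOf_eq hC ha hb] at hrec
  obtain ⟨x, y, hxy⟩ : ∃ x y, D.commTerms a b = [x, y] := by
    rcases hcs : D.commTerms a b with _ | ⟨x, _ | ⟨y, M⟩⟩ <;> rw [hcs] at hrec
    · simp at hrec
    · simp at hrec
    · simp only [Bool.and_eq_true, List.isEmpty_iff] at hrec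
      exact ⟨x, y, by rw [hrec.1]⟩
  rw [hxy] at hrec
  simp only [List.isEmpty_nil, Bool.true_and, Bool.and_eq_true, Nat.beq_eq] at hrec
  obtain ⟨hxk, hxu, hxi, hxj, hxe, hye⟩ := hrec
  have hxl : x.1 < D.nroots := (commTerms_phi hC ha hb x (by rw [hxy]; exact List.mem_cons_self)).1
  have hyl : y.1 < D.nroots := (commTerms_phi hC ha hb y (by rw [hxy]; simp)).1
  have h1 := word_mem_of_lam hC ha hb (fun e => by simp [e] at hba)
    (fun e => by rw [hC.neg_eq ha] at hbn; simp [e] at hbn) ht hu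
  obtain ⟨v, hv⟩ : ∃ v, v = (x.2.1 : F) * -(t * u) := ⟨_, rfl⟩
  obtain ⟨w, hw⟩ : ∃ w, w = (y.2.1 : F) * (-t) ^ y.2.2.1 * u ^ y.2.2.2 := ⟨_, rfl⟩
  have hword : ((D.commWord F a b t u).map fun p => xg hC p.1 p.2).prod =
      xg hC x.1 v * xg hC y.1 w := by
    simp [ChevalleyDatum.commWord, hxy, hxi, hxj, hv, hw, mul_assoc]
  rw [hword] at h1
  obtain ⟨E, hE⟩ : ∃ E, E = hg hC e (-1 : F) := ⟨_, rfl⟩
  have hEH : E ∈ H := hE ▸ hL (hg_minus_mem_fixL hC σ e)
  have ex : E * xg hC x.1 v * E⁻¹ = xg hC x.1 (-v) := by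
    rw [hE, hg_minus_parity hC he hxl, if_neg (by omega), neg_one_mul]
  have ey : E * xg hC y.1 w * E⁻¹ = xg hC y.1 w := by
    rw [hE, hg_minus_parity hC he hyl, if_pos hye, one_mul]
  have h4 := mul_mem h1 (mul_mem (mul_mem hEH (inv_mem h1)) (inv_mem hEH))
  have e1 : xg hC x.1 v * xg hC y.1 w * (E * (xg hC x.1 v * xg hC y.1 w)⁻¹ * E⁻¹) =
      xg hC x.1 v * (xg hC y.1 w * (E * xg hC y.1 w * E⁻¹)⁻¹) * (E * xg hC x.1 v * E⁻¹)⁻¹ := by
    group
  rw [e1, ex, ey, mul_inv_cancel, mul_one, xg_inv hC, neg_neg, ← xg_add hC, hxk] at h4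
  have h5 : ((2 : ℤ) : F) * v ∈ Lam hC H k := by
    rw [mem_lam, Int.cast_ofNat, two_mul]; exact h4
  have h6 := lam_cancel hC p (by simpa using h2) h5
  rw [hv] at h6
  exact neg_mem_iff.1 (lam_cancel hC p (hc.unit_ne _ hxu) h6)

omit hL in
/-- Powers of invertible parameters are parameters in the other orbit. -/
theorem lam_torus {r d n : ℕ} (hr : r < D.nroots) (hd : d < D.nroots)
    (hp : pairT T r d = (n : ℤ)) (h1 : (1 : F) ∈ Lam hC H d)
    (hneg : Lam hC H (D.neg r) = Lam hC H r) (h1' : (1 : F) ∈ Lam hC H r) {t : F} (ht0 : t ≠ 0)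
    (ht : t ∈ Lam hC H r) (hti : t⁻¹ ∈ Lam hC H r) : t ^ n ∈ Lam hC H d := by
  have hneg' : ∀ u ∈ Lam hC H r, xg hC (D.neg r) u ∈ H := fun u hu => by
    rw [← hneg] at hu; exact hu
  have hng : ∀ u : F, u ∈ Lam hC H r → u⁻¹ ∈ Lam hC H r → ng hC r u ∈ H := fun u hu hui =>
    mul_mem (mul_mem hu (hneg' _ (neg_mem hui))) hu
  have hE : hg hC r t ∈ H :=
    mul_mem (hng t ht hti) (hng (-1) (neg_mem h1') (by rw [inv_neg, inv_one]; exact neg_mem h1'))
  have := mul_mem (mul_mem hE h1) (inv_mem hE)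
  have e' : t = ((Units.mk0 t ht0 : Fˣ) : F) := rfl
  rw [e', hg_eq_tor hC hr, tor_conj_x hC _ d _ hd, torChar_pow hC, mul_one,
    Units.val_zpow_eq_zpow_val, ← e', ← pairT_eq hC hr hd, hp, zpow_natCast] at this
  exact this

end Cfsg.Agent.SimpleFacts.SubfieldOvergroup
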