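import Cfsg.Agent.SimpleFacts.SubfieldOvergroup.ParamRing

/-!
The subfield of parameters of type `B₂` in characteristic two.
-/

set_option autoImplicit false

namespace Cfsg.Agent.SimpleFacts.SubfieldOvergroup

open Cfsg.Lie Cfsg.Agent.Chevalley.Table Cfsg.Agent.Chevalley.Check Cfsg.Agent.Chevalley.Cert
  Cfsg.Agent.Chevalley.Eval
  Cfsg.Agent.Chevalley.Group Cfsg.Agent.Chevalley.Borel Cfsg.Agent.Chevalley.Unip
  Cfsg.Agent.Chevalley.FieldAut Cfsg.Agent.SimpleFacts.ChevalleySubfield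

variable {F : Type*} [Field F] [CharP F 2]

/-- An additive set with `(t + t²) T ⊆ T` and closed under squaring is multiplicatively closed. -/
theorem mul_mem_of_quad {A : AddSubgroup F} (hfin : (A : Set F).Finite) (h1 : (1 : F) ∈ A)
    (hquad : ∀ t ∈ A, ∀ u ∈ A, (t + t ^ 2) * u ∈ A) :
    ∀ t ∈ A, ∀ u ∈ A, t * u ∈ A := by
  have two0 : ∀ x : F, x + x = 0 := fun x => CharTwo.add_self_eq_zero x
  intro t ht u hu
  by_contra hcon
  -- the multipliers
  have hR : ∀ x y : F, (∀ v ∈ A, x * v ∈ A) → (∀ v ∈ A, y * v ∈ A) → ∀ v ∈ A, x * y * v ∈ A :=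
    fun x y hx hy v hv => by rw [mul_assoc]; exact hx _ (hy v hv)
  have key : ∀ w ∈ A, (¬ ∀ v ∈ A, w * v ∈ A) → ∀ r : F, (∀ v ∈ A, r * v ∈ A) → r + r ^ 2 = 0 := by
    intro w hw hnw r hr
    by_contra hx
    obtain ⟨x, hxd⟩ : ∃ x, x = r + r ^ 2 := ⟨_, rfl⟩
    rw [← hxd] at hx
    have hxR : ∀ v ∈ A, x * v ∈ A := fun v hv => by
      rw [hxd, add_mul]
      exact add_mem (hr v hv) (by rw [pow_two]; exact hR r r hr hr v hv)
    have hrw : r * w ∈ A := hr w hw
    have hxw : ∀ v ∈ A, x * w * v ∈ A := fun v hv => by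
      have e1 : x * w * v = (r * w + (r * w) ^ 2) * v + r * (r * ((w + w ^ 2) * v)) := by
        have e2 : (r * w + (r * w) ^ 2) * v + r * (r * ((w + w ^ 2) * v)) =
            r * w * v + r ^ 2 * w * v + (r ^ 2 * w ^ 2 * v + r ^ 2 * w ^ 2 * v) := by ring
        rw [e2, two0, add_zero, hxd]; ring
      rw [e1]
      exact add_mem (hquad _ hrw v hv) (hr _ (hr _ (hquad w hw v hv)))
    -- invert `x` on the finite set
    have hinj : Set.InjOn (fun y => x * y) (A : Set F) := fun y _ z _ h => mul_left_cancel₀ hx h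
    refine hnw fun v hv => ?_
    obtain ⟨v', hv', e⟩ := (Set.Finite.surjOn_iff_bijOn_of_mapsTo hfin hxR).2
      (hfin.injOn_iff_bijOn_of_mapsTo hxR |>.1 hinj) hv
    rw [← e, ← mul_assoc, mul_comm w x]
    exact hxw v' hv'
  have hnt : ¬ ∀ v ∈ A, t * v ∈ A := fun h => hcon (h u hu)
  have hnu : ¬ ∀ v ∈ A, u * v ∈ A := fun h => hcon (by rw [mul_comm]; exact h t ht)
  have hroot : ∀ w ∈ A, (¬ ∀ v ∈ A, w * v ∈ A) → w + w ^ 2 = 1 := by
    intro w hw hnw
    have h0 := key w hw hnw (w + w ^ 2) (fun v hv => hquad w hw v hv)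
    rcases mul_eq_zero.1 (show (w + w ^ 2) * (1 + (w + w ^ 2)) = 0 by rw [← h0]; ring) with h | h
    · rcases mul_eq_zero.1 (show w * (1 + w) = 0 by rw [← h]; ring) with h' | h'
      · exact (hnw fun v _ => by rw [h', zero_mul]; exact zero_mem A).elim
      · rw [CharTwo.add_eq_zero] at h'
        exact (hnw fun v hv => by rw [← h', one_mul]; exact hv).elim
    · exact (CharTwo.add_eq_zero.1 h).symm
  have e1 := hroot t ht hnt
  have e2 := hroot u hu hnu
  have h0 : (t + u) * (1 + (t + u)) = 0 := by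
    have : (t + u) * (1 + (t + u)) = (t + t ^ 2) + (u + u ^ 2) + (t * u + t * u) := by ring
    rw [this, e1, e2, two0, two0, add_zero]
  have ht2 : t * t = 1 + t := by
    have : t * t = (t + t ^ 2) + t + (- (t + t)) + 0 := by ring
    rw [this, e1, two0, neg_zero, add_zero, add_zero]
  rcases mul_eq_zero.1 h0 with h | h
  · rw [CharTwo.add_eq_zero] at h
    rw [← h, ht2] at hcon
    exact hcon (add_mem h1 ht)
  · have hu' : u = 1 + t := by
      rw [← add_assoc, CharTwo.add_eq_zero] at h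
      exact h.symm
    rw [hu', mul_add, mul_one, ht2, add_left_comm, two0, add_zero] at hcon
    exact hcon h1

variable {D : ChevalleyDatum} {T : Tab} (hC : Certified D T) (σ : F →+* F)
include hC

/-- Type `B₂` in characteristic two. -/
theorem paramFld_pair {c : Cls} (hc : c.Sound F) {h s a b : ℕ} {O L₁ L₂ : List ℕ}
    (hh : centralChk c T [h] = true) (ho : twoOrbitChk T h s O = true)
    (h2 : ∀ z, c.unit z = true → (z : F) = 1) (hZ : centralChk c T [s, h] = true)
    (hp : pairChk c T h s a b = true)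
    (hL₁ : ∀ i ∈ L₁, i < D.rank) (hL₂ : ∀ i ∈ L₂, i < D.rank)
    (h1s : wL D L₁ s = b) (h1h : wL D L₁ h = h) (h2s : wL D L₂ s = s) (h2h : wL D L₂ h = a) :
    ParamFld hC σ := by
  obtain ⟨hhl, hhp, hcen⟩ := h_spec hC hc hh
  refine paramFld_two hC σ ho hhl fun H hH hL => ?_
  have hfix1 : ∀ {r : ℕ}, (1 : F) ∈ Lam hC H r := fun {r} => lam_fixed hC σ hL (map_one σ)
  have hsn : s < D.nroots := (two_spec hC ho).2.2
  have hsp : 0 < T.phi s := by
    have hs0 := of_allL hZ s List.mem_cons_self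
    simp only [Bool.and_eq_true, Nat.blt_eq, hC.n_eq, iblt_iff] at hs0
    exact hs0.2.1
  obtain ⟨P, hP⟩ : ∃ P : F → F → Prop, P = fun u v => xg hC s u * xg hC h v ∈ H := ⟨_, rfl⟩
  have hmk : ∀ u v, xg hC s u * xg hC h v ∈ H → P u v := fun u v hm => by rwa [hP]
  have hget : ∀ u v, P u v → xg hC s u * xg hC h v ∈ H := fun u v hm => by rwa [hP] at hm
  have step : ∀ u v u' v', P u v → P u' v' → P (v' * u) (v' * u ^ 2) := fun u v u' v' h1 h1' =>
    hmk _ _ (pair_step hC σ hc hh h2 hZ hp hL₁ hL₂ h1s h1h h2s h2h hL (hget u v h1) (hget u' v' h1'))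
  have ofS : ∀ u ∈ Lam hC H s, P u 0 := fun u hu => hmk _ _ (by
    rw [xg_zero hC, mul_one]; exact hu)
  have ofL : ∀ v ∈ Lam hC H h, P 0 v := fun v hv => hmk _ _ (by
    rw [xg_zero hC, one_mul]; exact hv)
  have toS : ∀ u, ∀ v ∈ Lam hC H h, P u v → u ∈ Lam hC H s := fun u v hv h1 => by
    have := mul_mem (hget u v h1) (inv_mem (show xg hC h v ∈ H from hv))
    rwa [mul_inv_cancel_right] at this
  have toL : ∀ u ∈ Lam hC H s, ∀ v, P u v → v ∈ Lam hC H h := fun u hu v h1 => by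
    have := mul_mem (inv_mem (show xg hC s u ∈ H from hu)) (hget u v h1)
    rwa [inv_mul_cancel_left] at this
  have padd : ∀ u v u' v', P u v → P u' v' → P (u + u') (v + v') := by
    intro u v u' v' h1 h2'
    refine hmk _ _ ?_
    have := mul_mem (hget u v h1) (hget u' v' h2')
    have e : xg hC s u * xg hC h v * (xg hC s u' * xg hC h v') =
        xg hC s (u + u') * xg hC h (v + v') := by
      rw [xg_add hC, xg_add hC]
      calc xg hC s u * xg hC h v * (xg hC s u' * xg hC h v')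
          = xg hC s u * (xg hC h v * xg hC s u') * xg hC h v' := by group
        _ = xg hC s u * (xg hC s u' * xg hC h v) * xg hC h v' := by
          rw [hcen _ (xg_mem_U hC hsn hsp u') v]
        _ = _ := by group
    rwa [e] at this
  have hle : ∀ t ∈ Lam hC H h, t ∈ Lam hC H s := fun t ht => by
    have := step 1 0 0 t (ofS 1 hfix1) (ofL t ht)
    rw [one_pow, mul_one] at this
    exact toS t t ht this
  have hsq : ∀ u ∈ Lam hC H s, u ^ 2 ∈ Lam hC H h := fun u hu => by
    have := step u 0 0 1 (ofS u hu) (ofL 1 hfix1)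
    rw [one_mul, one_mul] at this
    exact toL u hu _ this
  have heq : Lam hC H s = Lam hC H h :=
    le_antisymm (eq_of_pow 2 (lam_finite hC hsn) hle hsq) hle
  refine ⟨mul_mem_of_quad (lam_finite hC hhl) hfix1 fun t ht u hu => ?_, heq⟩
  -- `u` is a square
  have hmaps : Set.MapsTo (fun y : F => y ^ 2) (Lam hC H h : Set F) (Lam hC H h) :=
    fun y hy => hsq y (hle y hy)
  obtain ⟨w, hw, rfl⟩ := (Set.Finite.surjOn_iff_bijOn_of_mapsTo (lam_finite hC hhl) hmaps).2
    ((lam_finite hC hhl).injOn_iff_bijOn_of_mapsTo hmaps |>.1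
      fun y _ z _ h => frobenius_inj F 2 h) hu
  have q1 := step w 0 0 t (ofS w (hle w hw)) (ofL t ht)
  have q2 := step _ _ 0 1 q1 (ofL 1 hfix1)
  rw [one_mul, one_mul] at q2
  have q3 := padd _ _ _ _ q1 q2
  rw [CharTwo.add_self_eq_zero] at q3
  have := toL 0 (zero_mem _) _ q3
  rwa [mul_pow, ← add_mul] at this

end Cfsg.Agent.SimpleFacts.SubfieldOvergroup
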