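import Cfsg.Agent.SimpleFacts.SubfieldOvergroup.ParamField

/-!
The parameters of the root elements of a finite subgroup containing `fixL` form a finite subfield.
-/

set_option autoImplicit false

namespace Cfsg.Agent.SimpleFacts.SubfieldOvergroup

open Cfsg.Lie Cfsg.Agent.Chevalley.Table Cfsg.Agent.Chevalley.Check Cfsg.Agent.Chevalley.Cert
  Cfsg.Agent.Chevalley.Eval Cfsg.Agent.Chevalley.Perfect
  Cfsg.Agent.Chevalley.Group Cfsg.Agent.Chevalley.Borel Cfsg.Agent.Chevalley.Unip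
  Cfsg.Agent.Chevalley.Weyl
  Cfsg.Agent.Chevalley.FieldAut Cfsg.Agent.SimpleFacts.ChevalleySubfield

variable {D : ChevalleyDatum} {F : Type*} [Field F] {T : Tab} (hC : Certified D T) (σ : F →+* F)

/-- The root elements of a finite subgroup containing `fixL` are those over a finite subfield. -/
def ParamFld (hC : Certified D T) (σ : F →+* F) : Prop :=
  ∀ H : Subgroup (GL D.Idx F), Finite H → fixL hC σ ≤ H → ∃ S : Subfield F, (S : Set F).Finite ∧
    (∀ t : F, σ t = t → t ∈ S) ∧ ∀ r < D.nroots, ∀ t : F, xg hC r t ∈ H ↔ t ∈ S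

/-- Non-zero elements of a finite multiplicatively closed additive subgroup have inverses there. -/
theorem inv_mem_of_finite {A : AddSubgroup F} (hfin : (A : Set F).Finite) (h1 : (1 : F) ∈ A)
    (hmul : ∀ x ∈ A, ∀ y ∈ A, x * y ∈ A) {x : F} (hx : x ∈ A) : x⁻¹ ∈ A := by
  rcases eq_or_ne x 0 with rfl | hx0
  · rw [inv_zero]; exact zero_mem A
  have hinj : Set.InjOn (fun y => x * y) (A : Set F) := fun y _ z _ h => mul_left_cancel₀ hx0 h
  obtain ⟨y, hy, hxy⟩ := (Set.Finite.surjOn_iff_bijOn_of_mapsTo hfin (fun y hy => hmul x hx y hy)).2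
    (hfin.injOn_iff_bijOn_of_mapsTo (fun y hy => hmul x hx y hy) |>.1 hinj) h1
  rwa [← eq_inv_of_mul_eq_one_right hxy]

/-- A finite multiplicatively closed additive subgroup containing one, as a subfield. -/
def fieldOf {A : AddSubgroup F} (hfin : (A : Set F).Finite) (h1 : (1 : F) ∈ A)
    (hmul : ∀ x ∈ A, ∀ y ∈ A, x * y ∈ A) : Subfield F where
  carrier := A
  add_mem' := A.add_mem
  zero_mem' := A.zero_mem
  neg_mem' := A.neg_mem
  one_mem' := h1
  mul_mem' := fun {x y} hx hy => hmul x hx y hy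
  inv_mem' := fun _ hx => inv_mem_of_finite hfin h1 hmul hx

/-- If the `p`-th powers of the larger finite set lie in the smaller, the sets are equal. -/
theorem eq_of_pow (p : ℕ) [Fact p.Prime] [CharP F p] {A B : AddSubgroup F}
    (hfin : (B : Set F).Finite) (hAB : A ≤ B) (hpow : ∀ t ∈ B, t ^ p ∈ A) : B ≤ A := by
  intro t ht
  have hinj : Set.InjOn (fun y => y ^ p) (B : Set F) := fun y _ z _ h => frobenius_inj F p h
  obtain ⟨y, hy, rfl⟩ := (Set.Finite.surjOn_iff_bijOn_of_mapsTo hfin (fun y hy => hAB (hpow y hy))).2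
    (hfin.injOn_iff_bijOn_of_mapsTo (fun y hy => hAB (hpow y hy)) |>.1 hinj) ht
  exact hpow y hy

include hC

/-- One orbit of roots. -/
theorem paramFld_one (p : ℕ) [Fact p.Prime] [CharP F p] {c : Cls} (hc : c.Sound F) {h a b k : ℕ}
    (hh : h < D.nroots) (hD : domChk T [h] = true) (hm : mulChk c T a b k = true)
    (hk : k < D.nroots) : ParamFld hC σ := by
  intro H hH hL
  have hm' := hm
  simp only [mulChk, Bool.and_eq_true, Nat.blt_eq, hC.n_eq] at hm'
  have hA := lam_one hC σ hL hD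
  refine ⟨fieldOf (lam_finite hC hh) (lam_fixed hC σ hL (map_one σ)) fun x hx y hy => ?_,
    lam_finite hC hh, fun t ht => lam_fixed hC σ hL ht, fun r hr t => ?_⟩
  · rw [← hA k hk]
    exact lam_mul hC p hc hm (by rwa [hA a hm'.1]) (by rwa [hA b hm'.2.1])
  · show t ∈ Lam hC H r ↔ t ∈ Lam hC H h
    rw [hA r hr]

variable {h s : ℕ} {O : List ℕ} (ho : twoOrbitChk T h s O = true) (hhn : h < D.nroots)
include ho hhn

omit hhn in
theorem two_spec : h ∈ O ∧ s ∉ O ∧ s < D.nroots := by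
  have h' := ho
  simp only [twoOrbitChk, orbitChk, Bool.and_eq_true, Bool.not_eq_true', Nat.blt_eq, hC.n_eq] at h'
  exact ⟨by simpa using h'.1.1, by simpa using h'.2.1, h'.2.2.1⟩

/-- The subfield, once the long parameters form a ring and the short ones coincide with them. -/
theorem paramFld_two
    (hmul : ∀ H : Subgroup (GL D.Idx F), Finite H → fixL hC σ ≤ H →
      (∀ x ∈ Lam hC H h, ∀ y ∈ Lam hC H h, x * y ∈ Lam hC H h) ∧ Lam hC H s = Lam hC H h) :
    ParamFld hC σ := by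
  intro H hH hL
  obtain ⟨h1, h2⟩ := hmul H hH hL
  refine ⟨fieldOf (lam_finite hC hhn) (lam_fixed hC σ hL (map_one σ)) h1,
    lam_finite hC hhn, fun t ht => lam_fixed hC σ hL ht, fun r hr t => ?_⟩
  show t ∈ Lam hC H r ↔ t ∈ Lam hC H h
  rw [lam_two hC σ hL ho r hr]
  split_ifs
  · rfl
  · rw [h2]

variable (p : ℕ) [Fact p.Prime] [CharP F p] {c : Cls} (hc : c.Sound F)
include p hc

omit hhn in
/-- A product check between lists of known orbit. -/
theorem lam_mul_two {H : Subgroup (GL D.Idx F)} (hL : fixL hC σ ≤ H) {a b k : ℕ} {u v w : ℕ}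
    (hm : mulChk c T a b k = true) (hk : k < D.nroots)
    (ha : (if a ∈ O then h else s) = u) (hb : (if b ∈ O then h else s) = v)
    (hw : (if k ∈ O then h else s) = w) {x y : F} (hx : x ∈ Lam hC H u) (hy : y ∈ Lam hC H v) :
    x * y ∈ Lam hC H w := by
  have hm' := hm
  simp only [mulChk, Bool.and_eq_true, Nat.blt_eq, hC.n_eq] at hm'
  have hA : ∀ r < D.nroots, Lam hC H r = Lam hC H (if r ∈ O then h else s) := fun r hr => by
    rw [lam_two hC σ hL ho r hr]; split_ifs <;> rfl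
  rw [← hw, ← hA k hk]
  exact lam_mul hC p hc hm (by rw [hA a hm'.1, ha]; exact hx) (by rw [hA b hm'.2.1, hb]; exact hy)

omit ho hhn p hc in
theorem lam_long_short {H : Subgroup (GL D.Idx F)} (hL : fixL hC σ ≤ H) {r d n : ℕ}
    (hr : r < D.nroots) (hd : d < D.nroots) (hpair : pairT T r d = (n : ℤ))
    (hn : Lam hC H (D.neg r) = Lam hC H r) (hfin : (Lam hC H r : Set F).Finite)
    (hring : ∀ x ∈ Lam hC H r, ∀ y ∈ Lam hC H r, x * y ∈ Lam hC H r) (hn0 : n ≠ 0) {t : F}
    (ht : t ∈ Lam hC H r) : t ^ n ∈ Lam hC H d := by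
  rcases eq_or_ne t 0 with rfl | ht0
  · rw [zero_pow hn0]; exact zero_mem _
  exact lam_torus hC hr hd hpair (lam_fixed hC σ hL (map_one σ)) hn
    (lam_fixed hC σ hL (map_one σ)) ht0 ht
    (inv_mem_of_finite hfin (lam_fixed hC σ hL (map_one σ)) hring ht)

/-- Long roots closed, short products long. -/
theorem paramFld_mixed {a b k a' b' k' r d : ℕ}
    (hLL : mulChk c T a b k = true) (hk : k < D.nroots) (ha : a ∈ O) (hb : b ∈ O) (hkO : k ∈ O)
    (hSS : mulChk c T a' b' k' = true) (hk' : k' < D.nroots) (ha' : a' ∉ O) (hb' : b' ∉ O)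
    (hkO' : k' ∈ O) (hr : r < D.nroots) (hd : d < D.nroots) (hrO : r ∈ O) (hnrO : D.neg r ∈ O)
    (hdO : d ∉ O) (hpair : pairT T r d = 1) : ParamFld hC σ := by
  refine paramFld_two hC σ ho hhn fun H hH hL => ?_
  obtain ⟨hhO, hsO, hsn⟩ := two_spec hC ho
  have hA : ∀ r < D.nroots, Lam hC H r = Lam hC H (if r ∈ O then h else s) := fun r hr => by
    rw [lam_two hC σ hL ho r hr]; split_ifs <;> rfl
  have hring : ∀ x ∈ Lam hC H h, ∀ y ∈ Lam hC H h, x * y ∈ Lam hC H h := fun x hx y hy =>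
    lam_mul_two hC σ ho p hc hL hLL hk (if_pos ha) (if_pos hb) (if_pos hkO) hx hy
  have hrh : Lam hC H r = Lam hC H h := by rw [hA r hr, if_pos hrO]
  refine ⟨hring, le_antisymm (fun x hx => ?_) (fun x hx => ?_)⟩
  · have := lam_mul_two hC σ ho p hc hL hSS hk' (if_neg ha') (if_neg hb') (if_pos hkO')
      hx (lam_fixed hC σ hL (map_one σ) : (1 : F) ∈ Lam hC H s)
    rwa [mul_one] at this
  · have := lam_long_short hC σ hL hr hd (n := 1) hpair
      (by rw [hA _ (hC.neg_lt hr), if_pos hnrO, hrh]) (by rw [hrh]; exact lam_finite hC hhn)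
      (by rw [hrh]; exact hring) one_ne_zero (t := x) (by rw [hrh]; exact hx)
    rwa [pow_one, hA d hd, if_neg hdO] at this

/-- Both kinds closed, with `p`-th powers. -/
theorem paramFld_special {a b k a' b' k' r d r' d' : ℕ}
    (hLL : mulChk c T a b k = true) (hk : k < D.nroots) (ha : a ∈ O) (hb : b ∈ O) (hkO : k ∈ O)
    (hSS : mulChk c T a' b' k' = true) (hk' : k' < D.nroots) (ha' : a' ∉ O) (hb' : b' ∉ O)
    (hkO' : k' ∉ O) (hr : r < D.nroots) (hd : d < D.nroots) (hrO : r ∈ O) (hnrO : D.neg r ∈ O)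
    (hdO : d ∉ O) (hpair : pairT T r d = 1)
    (hr' : r' < D.nroots) (hd' : d' < D.nroots) (hrO' : r' ∉ O) (hnrO' : D.neg r' ∉ O)
    (hdO' : d' ∈ O) (hpair' : pairT T r' d' = (p : ℤ)) : ParamFld hC σ := by
  refine paramFld_two hC σ ho hhn fun H hH hL => ?_
  obtain ⟨hhO, hsO, hsn⟩ := two_spec hC ho
  have hA : ∀ r < D.nroots, Lam hC H r = Lam hC H (if r ∈ O then h else s) := fun r hr => by
    rw [lam_two hC σ hL ho r hr]; split_ifs <;> rfl
  have hring : ∀ x ∈ Lam hC H h, ∀ y ∈ Lam hC H h, x * y ∈ Lam hC H h := fun x hx y hy =>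
    lam_mul_two hC σ ho p hc hL hLL hk (if_pos ha) (if_pos hb) (if_pos hkO) hx hy
  have hring' : ∀ x ∈ Lam hC H s, ∀ y ∈ Lam hC H s, x * y ∈ Lam hC H s := fun x hx y hy =>
    lam_mul_two hC σ ho p hc hL hSS hk' (if_neg ha') (if_neg hb') (if_neg hkO') hx hy
  have hrh : Lam hC H r = Lam hC H h := by rw [hA r hr, if_pos hrO]
  have hrs : Lam hC H r' = Lam hC H s := by rw [hA r' hr', if_neg hrO']
  have hle : Lam hC H h ≤ Lam hC H s := fun x hx => by
    have := lam_long_short hC σ hL hr hd (n := 1) hpair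
      (by rw [hA _ (hC.neg_lt hr), if_pos hnrO, hrh]) (by rw [hrh]; exact lam_finite hC hhn)
      (by rw [hrh]; exact hring) one_ne_zero (t := x) (by rw [hrh]; exact hx)
    rwa [pow_one, hA d hd, if_neg hdO] at this
  refine ⟨hring, le_antisymm (eq_of_pow p (lam_finite hC hsn) hle fun x hx => ?_) hle⟩
  have := lam_long_short hC σ hL hr' hd' hpair'
    (by rw [hA _ (hC.neg_lt hr'), if_neg hnrO', hrs]) (by rw [hrs]; exact lam_finite hC hsn)
    (by rw [hrs]; exact hring') (Fact.out : p.Prime).ne_zero (t := x) (by rw [hrs]; exact hx)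
  rwa [hA d' hd', if_pos hdO'] at this

/-- Type `B₂` in odd characteristic. -/
theorem paramFld_sep (h2 : (2 : F) ≠ 0) {a b e k a' b' k' : ℕ}
    (hLS : sepMulChk c T a b e k = true) (hk : k < D.nroots) (ha : a ∈ O) (hkO : k ∉ O)
    (hSS : mulChk c T a' b' k' = true) (hk' : k' < D.nroots) (ha' : a' ∉ O) (hb' : b' ∉ O)
    (hkO' : k' ∈ O) : ParamFld hC σ := by
  refine paramFld_two hC σ ho hhn fun H hH hL => ?_
  have hA : ∀ r < D.nroots, Lam hC H r = Lam hC H (if r ∈ O then h else s) := fun r hr => by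
    rw [lam_two hC σ hL ho r hr]; split_ifs <;> rfl
  have hLS' := hLS
  simp only [sepMulChk, Bool.and_eq_true, Nat.blt_eq, hC.n_eq] at hLS'
  have hsle : ∀ x ∈ Lam hC H s, ∀ y ∈ Lam hC H s, x * y ∈ Lam hC H h := fun x hx y hy =>
    lam_mul_two hC σ ho p hc hL hSS hk' (if_neg ha') (if_neg hb') (if_pos hkO') hx hy
  have hle : ∀ x ∈ Lam hC H h, x ∈ Lam hC H s := fun x hx => by
    have := lam_sep hC σ hL p h2 hc hLS (t := x) (u := (1 : F))
      (by rw [hA a hLS'.1, if_pos ha]; exact hx) (lam_fixed hC σ hL (map_one σ))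
    rwa [mul_one, hA k hk, if_neg hkO] at this
  refine ⟨fun x hx y hy => hsle x (hle x hx) y (hle y hy),
    le_antisymm (fun x hx => ?_) hle⟩
  have := hsle x hx 1 (lam_fixed hC σ hL (map_one σ))
  rwa [mul_one] at this

end Cfsg.Agent.SimpleFacts.SubfieldOvergroup
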