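import Cfsg.Agent.SimpleFacts.SubfieldOvergroup.Basic
import Cfsg.Agent.SimpleFacts.SubfieldOvergroup.Checks

/-!
An element of `U` conjugating `fixL` into the subgroup is fixed: the coefficients are peeled off by
commutators with fixed root elements.
-/

set_option autoImplicit false

namespace Cfsg.Agent.SimpleFacts.SubfieldOvergroup

open Cfsg.Lie Cfsg.Agent.Chevalley.Table Cfsg.Agent.Chevalley.Check Cfsg.Agent.Chevalley.Cert
  Cfsg.Agent.Chevalley.Eval Cfsg.Agent.Chevalley.Perfect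
  Cfsg.Agent.Chevalley.Group Cfsg.Agent.Chevalley.Borel Cfsg.Agent.Chevalley.Unip
  Cfsg.Agent.Chevalley.FieldAut Cfsg.Agent.SimpleFacts.ChevalleySubfield
  Cfsg.Agent.SimpleFacts.ChevalleyRadical

variable {D : ChevalleyDatum} {F : Type*} [Field F] {T : Tab} (hC : Certified D T) (σ : F →+* F)
  {c : Cls} (hc : c.Sound F)

/-- The subgroup of the central roots. -/
def Zsub (hC : Certified D T) (F : Type*) [Field F] (Z : List ℕ) : Subgroup (GL D.Idx F) :=
  Subgroup.closure {g | ∃ k ∈ Z, ∃ t : F, g = xg hC k t}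

/-- The conclusion: elements of `U` conjugating `fixL` into the subgroup are fixed. -/
def UFixed (hC : Certified D T) (σ : F →+* F) : Prop :=
  ∀ H : Subgroup (GL D.Idx F), Ctx hC σ H → ∀ v ∈ D.posUnipotent F, Conjs hC σ H v → Fixed D σ v

/-- The hypothesis on the central roots. -/
def Stuck (hC : Certified D T) (σ : F →+* F) (Z : List ℕ) : Prop :=
  ∀ H : Subgroup (GL D.Idx F), Ctx hC σ H → ∀ z ∈ Zsub hC F Z, Conjs hC σ H z → Fixed D σ z

include hC

theorem xg_commute {r s : ℕ} (hr : r < D.nroots) (hs : s < D.nroots) (hpr : 0 < T.phi r)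
    (hps : 0 < T.phi s) (t u : F) :
    s = r ∨ xg hC s u * xg hC r t = xg hC r t * xg hC s u *
      ((D.commWord F r s t u).map fun p => xg hC p.1 p.2).prod := by
  by_cases h : s = r
  · exact Or.inl h
  · exact Or.inr (xg_comm hC hr hs h (by rintro rfl; rw [hC.phi_neg hr] at hps; omega) t u)

include hc

theorem word_low {r s k : ℕ} (hr : r < D.nroots) (hs : s < D.nroots) (hpr : 0 < T.phi r)
    (hps : 0 < T.phi s) (L : List (ℕ × ℤ × ℕ × ℕ)) (hL : ∀ x ∈ L, x ∈ D.commTerms r s)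
    (h : ∀ x ∈ L, c.zero x.2.1 = true ∨ k < x.1) (t u : F) :
    ((L.map fun x => (x.1, (x.2.1 : F) * (-t) ^ x.2.2.1 * u ^ x.2.2.2)).map
      fun p => xg hC p.1 p.2).prod ∈ Uge hC F (k + 1) := by
  refine list_prod_mem fun g hg => ?_
  obtain ⟨p, hp, rfl⟩ := List.mem_map.1 hg
  obtain ⟨x, hx, rfl⟩ := List.mem_map.1 hp
  rcases h x hx with hz | hk
  · rw [hc.zero_eq _ hz, zero_mul, zero_mul, xg_zero hC]
    exact one_mem _
  · obtain ⟨hlt, i, j, hi, hj, hphi⟩ := commTerms_phi hC hr hs x (hL x hx)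
    refine xg_mem_Uge hC hlt ?_ hk _
    rw [hphi]
    positivity

omit hC hc in
theorem lowAll_spec {k : ℕ} {L : List Trm} (h : lowAll c k L = true) :
    ∀ x ∈ L, c.zero x.2.1 = true ∨ k < x.1 := fun x hx => by
  simpa [Nat.blt_eq] using of_allL h x hx

/-- The commutator with `x_s(1)` moves `Uge (a + 1)` into `Uge (k + 1)`. -/
theorem comm_low {a s k : ℕ} (hs : s < D.nroots) (hps : 0 < T.phi s)
    (hlow : ∀ b, a < b → b < D.nroots → 0 < T.phi b → b ≠ s →
      ∀ x ∈ D.commTerms s b, c.zero x.2.1 = true ∨ k < x.1)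
    {w : GL D.Idx F} (hw : w ∈ Uge hC F (a + 1)) :
    w * xg hC s 1 * w⁻¹ * (xg hC s 1)⁻¹ ∈ Uge hC F (k + 1) := by
  obtain ⟨x, hx⟩ : ∃ x : GL D.Idx F, x = xg hC s 1 := ⟨_, rfl⟩
  rw [← hx]
  have hU : ∀ g ∈ Uge hC F (a + 1), g ∈ D.posUnipotent F := fun g hg => by
    rw [← Uge_zero hC]; exact Uge_mono hC (Nat.zero_le _) hg
  induction hw using Subgroup.closure_induction with
  | mem g hg =>
    obtain ⟨b, u, hb, hpb, hab, rfl⟩ := hg
    by_cases hbs : b = s
    · rw [hbs, hx, ← xg_add hC, add_comm u 1, xg_add hC, mul_inv_cancel_right, mul_inv_cancel]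
      exact one_mem _
    · have e := (xg_commute hC hs hb hps hpb (1 : F) u).resolve_left hbs
      have hW : ((D.commWord F s b 1 u).map fun p => xg hC p.1 p.2).prod ∈ Uge hC F (k + 1) :=
        word_low hC hc hs hb hps hpb _ (fun y hy => hy) (hlow b hab hb hpb hbs) 1 u
      rw [hx, e]
      have e2 : ∀ W : GL D.Idx F, xg hC s 1 * xg hC b u * W * (xg hC b u)⁻¹ * (xg hC s 1)⁻¹ =
          xg hC s 1 * (xg hC b u * W * (xg hC b u)⁻¹) * (xg hC s 1)⁻¹ := fun W => by group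
      rw [e2]
      exact conj_Uge hC hs hps 1 (conj_Uge hC hb hpb u hW)
  | one => simp
  | mul p q hp hq ihp ihq =>
    have e : p * q * x * (p * q)⁻¹ * x⁻¹ = p * (q * x * q⁻¹ * x⁻¹) * p⁻¹ * (p * x * p⁻¹ * x⁻¹) := by
      group
    rw [e]
    exact mul_mem (conj_Uge_of_mem hC (hU p hp) ihq) ihp
  | inv p hp ih =>
    have e : p⁻¹ * x * p⁻¹⁻¹ * x⁻¹ = (p⁻¹ * (p * x * p⁻¹ * x⁻¹) * p⁻¹⁻¹)⁻¹ := by group
    rw [e]
    exact inv_mem (conj_Uge_of_mem hC (inv_mem (hU p hp)) ih)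

/-- The leading root of the commutator word. -/
theorem word_lead {a s k : ℕ} (ha : a < D.nroots) (hs : s < D.nroots) (hpa : 0 < T.phi a)
    (hps : 0 < T.phi s) (h : leadL c k (D.commTerms s a) = true) :
    k < D.nroots ∧ 0 < T.phi k ∧ ∃ C : F, C ≠ 0 ∧ (∀ σ : F →+* F, σ C = C) ∧ ∀ t : F,
      ∃ w ∈ Uge hC F (k + 1),
        ((D.commWord F s a 1 t).map fun p => xg hC p.1 p.2).prod = xg hC k (C * t) * w := by
  obtain ⟨L₁, L₂, z, i, e, hz, hall⟩ := of_leadL h
  obtain ⟨hk, i', j', hi', hj', hphi⟩ := commTerms_phi hC hs ha (k, z, i, 1)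
    (by rw [e]; exact List.mem_append_right _ List.mem_cons_self)
  simp only at hk hphi
  have hpk : 0 < T.phi k := by rw [hphi]; positivity
  refine ⟨hk, hpk, (z : F) * (-1) ^ i, mul_ne_zero (hc.unit_ne _ hz)
    (pow_ne_zero _ (neg_ne_zero.2 one_ne_zero)), fun σ => by simp, fun t => ?_⟩
  have h1 := word_low hC hc hs ha hps hpa L₁
    (fun x hx => by rw [e]; exact List.mem_append_left _ hx)
    (fun x hx => hall x (List.mem_append_left _ hx)) (1 : F) t
  have h2 := word_low hC hc hs ha hps hpa L₂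
    (fun x hx => by rw [e]; exact List.mem_append_right _ (List.mem_cons_of_mem _ hx))
    (fun x hx => hall x (List.mem_append_right _ hx)) (1 : F) t
  rw [ChevalleyDatum.commWord, e, List.map_append, List.map_append, List.prod_append,
    List.map_cons, List.map_cons, List.prod_cons, pow_one]
  obtain ⟨P₁, hP₁⟩ : ∃ P, P = ((L₁.map fun x => (x.1, (x.2.1 : F) * (-1) ^ x.2.2.1 * t ^ x.2.2.2)).map
      fun p => xg hC p.1 p.2).prod := ⟨_, rfl⟩
  rw [← hP₁] at h1 ⊢
  obtain ⟨X, hX⟩ : ∃ X, X = xg hC k ((z : F) * (-1) ^ i * t) := ⟨_, rfl⟩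
  rw [← hX]
  refine ⟨X⁻¹ * P₁ * X⁻¹⁻¹ * _, mul_mem ?_ h2, by simp [mul_assoc]⟩
  exact conj_Uge_of_mem hC (inv_mem (hX ▸ xg_mem_U hC hk hpk _)) h1

theorem zsub_central {Z : List ℕ} (hZ : centralChk c T Z = true) {z : GL D.Idx F}
    (hz : z ∈ Zsub hC F Z) :
    z ∈ D.posUnipotent F ∧ ∀ u ∈ D.posUnipotent F, z * u = u * z := by
  induction hz using Subgroup.closure_induction with
  | mem g hg =>
    obtain ⟨k, hkZ, t, rfl⟩ := hg
    have h := of_allL hZ k hkZ
    simp only [Bool.and_eq_true, Nat.blt_eq, hC.n_eq, iblt_iff] at h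
    obtain ⟨hk, hpk, hall⟩ := h
    refine ⟨xg_mem_U hC hk hpk t, fun u hu => ?_⟩
    have hle : D.posUnipotent F ≤ Subgroup.centralizer {xg hC k t} := by
      rw [U_eq_closure hC, Subgroup.closure_le]
      rintro _ ⟨r, v, hr, hpr, rfl⟩
      rw [SetLike.mem_coe, Subgroup.mem_centralizer_singleton_iff]
      rcases xg_commute hC hk hr hpk hpr t v with h | h
      · rw [h, ← xg_add hC, ← xg_add hC, add_comm]
      · have h0 : ((D.commWord F k r t v).map fun p => xg hC p.1 p.2).prod = 1 := by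
          refine List.prod_eq_one fun g hg => ?_
          obtain ⟨p, hp, rfl⟩ := List.mem_map.1 hg
          obtain ⟨x, hx, rfl⟩ := List.mem_map.1 hp
          rcases eq_or_ne r k with hrk | hrk
          · rw [hrk] at hx
            simp [ChevalleyDatum.commTerms, ChevalleyDatum.chainRoot, hC.chainEntry_self hk] at hx
          · have h1 := of_allR hall r hr
            simp only [(iblt_iff _ _).2 hpr, Bool.true_and, Bool.not_not, Bool.or_eq_true,
              Nat.beq_eq, hrk, false_or] at h1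
            rw [commOf_eq hC hk hr] at h1
            rw [hc.zero_eq _ (of_allL h1 x hx), zero_mul, zero_mul, xg_zero hC]
        rw [h0, mul_one] at h
        exact h
    exact (Subgroup.mem_centralizer_singleton_iff.1 (hle hu)).symm
  | one => exact ⟨one_mem _, fun u _ => by simp⟩
  | mul p q _ _ ihp ihq =>
    exact ⟨mul_mem ihp.1 ihq.1, fun u hu => by
      rw [mul_assoc, ihq.2 u hu, ← mul_assoc, ihp.2 u hu, mul_assoc]⟩
  | inv p _ ih =>
    refine ⟨inv_mem ih.1, fun u hu => ?_⟩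
    rw [inv_mul_eq_iff_eq_mul, ← mul_assoc, ih.2 u hu, mul_assoc, mul_inv_cancel, mul_one]

/-- **Elements of `U` conjugating `fixL` into the subgroup are fixed.** -/
theorem uFixed {Z : List ℕ} {S : List (ℕ × ℕ × ℕ)} (hZ : centralChk c T Z = true)
    (hP : peelChk c T Z S = true) (hst : Stuck hC σ Z) : UFixed hC σ := by
  intro H hX
  suffices key : ∀ m a, D.nroots ≤ a + m → ∀ z ∈ Zsub hC F Z, ∀ v ∈ Uge hC F a,
      Conjs hC σ H (z * v) → Fixed D σ (z * v) by
    intro v hv h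
    have := key D.nroots 0 (by omega) 1 (one_mem _) v (by rwa [Uge_zero hC]) (by rwa [one_mul])
    rwa [one_mul] at this
  intro m
  induction m with
  | zero =>
    intro a ha z hz v hv h
    rw [Uge_eq_bot hC (by omega), Subgroup.mem_bot] at hv
    rw [hv, mul_one] at h ⊢
    exact hst H hX z hz h
  | succ m ih =>
    intro a ha z hz v hv h
    by_cases hap : a < D.nroots ∧ 0 < T.phi a
    swap
    · rw [Uge_skip hC hap] at hv
      exact ih (a + 1) (by omega) z hz v hv h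
    obtain ⟨hal, hp⟩ := hap
    obtain ⟨t, w, hw, rfl⟩ := peel hC hal hp hv
    by_cases haZ : a ∈ Z
    · rw [← mul_assoc] at h ⊢
      exact ih (a + 1) (by omega) _
        (mul_mem hz (Subgroup.subset_closure ⟨a, haZ, t, rfl⟩)) w hw h
    have hrow := of_allR hP a (by rw [hC.n_eq]; exact hal)
    simp only [(iblt_iff _ _).2 hp, Bool.not_true, Bool.false_or, Bool.or_eq_true] at hrow
    have hel : List.elem a Z ≠ true := fun e => haZ (by simpa using e)
    obtain ⟨s, k, hstep⟩ := exists_step_of_rec (hrow.resolve_left hel)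
    simp only [stepOK, Bool.and_eq_true, Nat.blt_eq, Bool.not_eq_true', iblt_iff, hC.n_eq] at hstep
    obtain ⟨hs, hps, hsa, hak, hlead, hall⟩ := hstep
    have hsa' : a ≠ s := fun e => by
      rw [e] at hsa
      simp at hsa
    have hlow : ∀ b, a < b → b < D.nroots → 0 < T.phi b → b ≠ s →
        ∀ x ∈ D.commTerms s b, c.zero x.2.1 = true ∨ k < x.1 := by
      intro b hab hb hpb hbs
      have h1 := of_allR hall b hb
      have hbs' : Nat.beq b s = false := by
        rw [Bool.eq_false_iff, ne_eq, Nat.beq_eq]; exact hbs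
      simp only [(iblt_iff _ _).2 hpb, hbs', Bool.not_false, Bool.and_true,
        show Nat.blt a b = true by rwa [Nat.blt_eq], Bool.not_true, Bool.false_or] at h1
      rw [commOf_eq hC hs hb] at h1
      exact lowAll_spec h1
    rw [commOf_eq hC hs hal] at hlead
    obtain ⟨hk, hpk, C, hC0, hCσ, hW⟩ := word_lead hC hc hal hs hp hps hlead
    obtain ⟨W', hW', eW⟩ := hW t
    have hxa : xg hC a t ∈ D.posUnipotent F := xg_mem_U hC hal hp t
    obtain ⟨hzU, hzc⟩ := zsub_central hC hc hZ hz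
    have hwU : w ∈ D.posUnipotent F := by rw [← Uge_zero hC]; exact Uge_mono hC (Nat.zero_le _) hw
    have hxs : xg hC s (1 : F) ∈ D.posUnipotent F := xg_mem_U hC hs hps 1
    obtain ⟨x, hx⟩ : ∃ x : GL D.Idx F, x = xg hC s 1 := ⟨_, rfl⟩
    have hxH : x ∈ H := hx ▸ hX.fixL_le (xg_mem_fixL hC σ s (map_one σ))
    obtain ⟨v, hv0⟩ : ∃ v, v = xg hC a t * w := ⟨_, rfl⟩
    have hvU : v ∈ D.posUnipotent F := hv0 ▸ mul_mem hxa hwU
    rw [← hv0] at h ⊢
    have hcH : v * x * v⁻¹ * x⁻¹ ∈ H := by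
      have h1 := h x (hx ▸ xg_mem_fixL hC σ s (map_one σ))
      have hu : v * x * v⁻¹ ∈ D.posUnipotent F := hx ▸ mul_mem (mul_mem hvU hxs) (inv_mem hvU)
      have e : z * v * x * (z * v)⁻¹ = v * x * v⁻¹ := by
        calc _ = z * (v * x * v⁻¹) * z⁻¹ := by group
          _ = _ := by rw [hzc _ hu, mul_inv_cancel_right]
      rw [e] at h1
      exact mul_mem h1 (inv_mem hxH)
    -- the commutator is `x_k(C t)` modulo `Uge (k + 1)`
    have hsplit : ∃ w₀ ∈ Uge hC F (k + 1), v * x * v⁻¹ * x⁻¹ = xg hC k (C * t) * w₀ := by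
      have e0 := (xg_commute hC hs hal hps hp (1 : F) t).resolve_left hsa'
      rw [eW, ← hx] at e0
      obtain ⟨X, hXd⟩ : ∃ X, X = xg hC k (C * t) := ⟨_, rfl⟩
      obtain ⟨A, hA⟩ : ∃ A, A = xg hC a t := ⟨_, rfl⟩
      rw [← hXd, ← hA] at e0
      have hXU : X ∈ D.posUnipotent F := hXd ▸ xg_mem_U hC hk hpk _
      have h1 : A * (w * x * w⁻¹ * x⁻¹) * A⁻¹ ∈ Uge hC F (k + 1) :=
        conj_Uge_of_mem hC (hA ▸ hxa) (hx ▸ comm_low hC hc hs hps hlow hw)
      have h2 : x * A * (X * W' * X⁻¹) * (x * A)⁻¹ ∈ Uge hC F (k + 1) :=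
        conj_Uge_of_mem hC (mul_mem (hx ▸ hxs) (hA ▸ hxa)) (conj_Uge_of_mem hC hXU hW')
      have h3 : (x * A) * X * (x * A)⁻¹ * X⁻¹ ∈ Uge hC F (k + 1) :=
        hXd ▸ conj_xg_Uge hC hk hpk (mul_mem (hx ▸ hxs) (hA ▸ hxa)) (C * t)
      refine ⟨X⁻¹ * (A * (w * x * w⁻¹ * x⁻¹) * A⁻¹ * ((x * A * (X * W' * X⁻¹) * (x * A)⁻¹) *
        ((x * A) * X * (x * A)⁻¹ * X⁻¹))) * X⁻¹⁻¹,
        conj_Uge_of_mem hC (inv_mem hXU) (mul_mem h1 (mul_mem h2 h3)), ?_⟩
      rw [← hXd, hv0, ← hA]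
      calc A * w * x * (A * w)⁻¹ * x⁻¹
          = A * (w * x * w⁻¹ * x⁻¹) * A⁻¹ * (A * x * A⁻¹ * x⁻¹) := by group
        _ = A * (w * x * w⁻¹ * x⁻¹) * A⁻¹ * (x * A * (X * W') * A⁻¹ * x⁻¹) := by rw [e0]
        _ = _ := by group
    obtain ⟨w₀, hw₀, ec⟩ := hsplit
    have hcU : v * x * v⁻¹ * x⁻¹ ∈ Uge hC F (a + 1) := by
      rw [ec]
      exact mul_mem (xg_mem_Uge hC hk hpk hak _) (Uge_mono hC (by omega) hw₀)
    have hcf : Fixed D σ (v * x * v⁻¹ * x⁻¹) := by
      have := ih (a + 1) (by omega) 1 (one_mem _) _ hcU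
        (by rw [one_mul]; exact conjs_of_mem hC σ hX hcH)
      rwa [one_mul] at this
    rw [ec] at hcf
    have hCt := fixed_lead hC σ hk hpk hw₀ hcf
    rw [map_mul, hCσ σ] at hCt
    have ht : σ t = t := mul_left_cancel₀ hC0 hCt
    have hAf : xg hC a t ∈ fixL hC σ := xg_mem_fixL hC σ a ht
    have e1 : z * v = xg hC a t * (z * w) := by
      rw [hv0, ← mul_assoc, hzc _ hxa, mul_assoc]
    rw [e1] at h ⊢
    refine Fixed.mul σ (fixed_xg hC σ ht) (ih (a + 1) (by omega) z hz w hw fun y hy => ?_)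
    have h1 := mul_mem (mul_mem (inv_mem (hX.fixL_le hAf)) (h y hy)) (hX.fixL_le hAf)
    simpa [mul_assoc] using h1

end Cfsg.Agent.SimpleFacts.SubfieldOvergroup
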