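import Cfsg.Agent.SimpleFacts.SubfieldOvergroup.StuckRoots

/-!
The two central roots of types `B₂` and `F₄` in characteristic two.
-/

set_option autoImplicit false

namespace Cfsg.Agent.SimpleFacts.SubfieldOvergroup

open Cfsg.Lie Cfsg.Agent.Chevalley.Table Cfsg.Agent.Chevalley.Check Cfsg.Agent.Chevalley.Cert
  Cfsg.Agent.Chevalley.Eval Cfsg.Agent.Chevalley.Perfect
  Cfsg.Agent.Chevalley.Group Cfsg.Agent.Chevalley.Borel Cfsg.Agent.Chevalley.Unip
  Cfsg.Agent.Chevalley.Weyl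
  Cfsg.Agent.Chevalley.FieldAut Cfsg.Agent.SimpleFacts.ChevalleySubfield

variable {D : ChevalleyDatum} {F : Type*} [Field F] {T : Tab} (hC : Certified D T) (σ : F →+* F)
  {c : Cls} (hc : c.Sound F) {h : ℕ} (hh : centralChk c T [h] = true)
include hC hc hh

/-- Commutation of two products over the pair of central roots. -/
theorem pair_step [CharP F 2] {s a b : ℕ} {L₁ L₂ : List ℕ}
    (h2 : ∀ z, c.unit z = true → (z : F) = 1) (hZ : centralChk c T [s, h] = true)
    (hp : pairChk c T h s a b = true)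
    (hL₁ : ∀ i ∈ L₁, i < D.rank) (hL₂ : ∀ i ∈ L₂, i < D.rank)
    (h1s : wL D L₁ s = b) (h1h : wL D L₁ h = h) (h2s : wL D L₂ s = s) (h2h : wL D L₂ h = a)
    {H : Subgroup (GL D.Idx F)} (hL' : fixL hC σ ≤ H) {u v u' v' : F}
    (hp1 : xg hC s u * xg hC h v ∈ H) (hp2 : xg hC s u' * xg hC h v' ∈ H) :
    xg hC s (v' * u) * xg hC h (v' * u ^ 2) ∈ H := by
  obtain ⟨hhl, hhp, hcen⟩ := h_spec hC hc hh
  have hs0 := of_allL hZ s List.mem_cons_self
  simp only [Bool.and_eq_true, Nat.blt_eq, hC.n_eq, iblt_iff] at hs0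
  obtain ⟨hsl, hsp, -⟩ := hs0
  have hscen : ∀ u ∈ D.posUnipotent F, ∀ t : F, xg hC s t * u = u * xg hC s t := fun u hu t =>
    (zsub_central hC hc hZ (Subgroup.subset_closure ⟨s, List.mem_cons_self, t, rfl⟩)).2 u hu
  simp only [pairChk, Bool.and_eq_true, Nat.blt_eq, iblt_iff, Bool.not_eq_true', hC.n_eq] at hp
  obtain ⟨hal, hbl, hap, hbp, hba, hsa, hsb, hha, hhb, t1, t2, t3, t4, t6, t5⟩ := hp
  have nba : b ≠ a := fun e => by simp [e] at hba
  have nsa : s ≠ a := fun e => by simp [e] at hsa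
  have nsb : s ≠ b := fun e => by simp [e] at hsb
  have nha : h ≠ a := fun e => by simp [e] at hha
  have nhb : h ≠ b := fun e => by simp [e] at hhb
  rw [commOf_eq hC hal hbl] at t1 t6
  rw [hC.neg_eq hbl, commOf_eq hC (hC.neg_lt hbl) hhl] at t2
  rw [hC.neg_eq hbl, commOf_eq hC (hC.neg_lt hbl) hsl] at t3
  rw [hC.neg_eq hal, commOf_eq hC (hC.neg_lt hal) hhl] at t4
  rw [hC.neg_eq hal, commOf_eq hC (hC.neg_lt hal) hsl] at t5
  have hmove : ∀ (L : List ℕ), (∀ i ∈ L, i < D.rank) → ∀ u v : F, xg hC s u * xg hC h v ∈ H →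
      xg hC (wL D L s) u * xg hC (wL D L h) v ∈ H := by
    intro L hL u v hm
    have hn : nL hC F L ∈ H := hL' (nL_mem_fixL hC σ L)
    have := mul_mem (mul_mem hn hm) (inv_mem hn)
    have e : nL hC F L * (xg hC s u * xg hC h v) * (nL hC F L)⁻¹ =
        nL hC F L * xg hC s u * (nL hC F L)⁻¹ * (nL hC F L * xg hC h v * (nL hC F L)⁻¹) := by group
    rwa [e, nL_conj_one hC hL hsl, nL_conj_one hC hL hhl] at this
  have m1 := hmove L₁ hL₁ u v hp1
  have m2 := hmove L₂ hL₂ u' v' hp2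
  rw [h1s, h1h] at m1
  rw [h2s, h2h] at m2
  obtain ⟨B, hB⟩ : ∃ B, B = xg hC b u := ⟨_, rfl⟩
  obtain ⟨A, hA⟩ : ∃ A, A = xg hC a v' := ⟨_, rfl⟩
  obtain ⟨S, hS⟩ : ∃ S, S = xg hC s u' := ⟨_, rfl⟩
  obtain ⟨V, hV⟩ : ∃ V, V = xg hC h v := ⟨_, rfl⟩
  rw [← hB, ← hV] at m1
  rw [← hS, ← hA] at m2
  have hBU : B ∈ D.posUnipotent F := hB ▸ xg_mem_U hC hbl hbp u
  have hAU : A ∈ D.posUnipotent F := hA ▸ xg_mem_U hC hal hap v'
  have hW := xg_comm hC hal hbl nba (fun e => by rw [e, hC.phi_neg hal] at hbp; omega) v' u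
  rw [word_two hC (fun u v => hscen _ (xg_mem_U hC hhl hhp v) u) h2 t1 v' u (Or.inr ?_)] at hW
  swap
  · intro x hx
    simpa using of_allL t6 x hx
  rw [← hA, ← hB, pow_one] at hW
  obtain ⟨W, hWd⟩ : ∃ W, W = xg hC s (v' * u) * xg hC h (v' * u ^ 2) := ⟨_, rfl⟩
  rw [← hWd] at hW
  rw [← hWd]
  have e1 : (S * A) * (B * V) = (A * B) * (S * V) := by
    calc (S * A) * (B * V) = S * (A * B) * V := by group
      _ = (A * B) * S * V := by rw [hS, hscen _ (mul_mem hAU hBU) u']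
      _ = _ := by group
  have e2 : (B * V) * (S * A) = (B * A) * (S * V) := by
    calc (B * V) * (S * A) = B * (V * (S * A)) := by group
      _ = B * (S * A * V) := by
        rw [hV, hcen _ (mul_mem (hS ▸ xg_mem_U hC hsl hsp u') hAU) v]
      _ = B * (A * S) * V := by rw [hS, ← hscen _ hAU u']; group
      _ = _ := by group
  have hWc : W * (S * V) = (S * V) * W := by
    rw [hWd]
    have hz' := (zsub_central hC hc hZ (mul_mem
      (Subgroup.subset_closure ⟨s, List.mem_cons_self, v' * u, rfl⟩)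
      (Subgroup.subset_closure ⟨h, List.mem_cons_of_mem _ List.mem_cons_self, v' * u ^ 2, rfl⟩) :
      xg hC s (v' * u) * xg hC h (v' * u ^ 2) ∈ Zsub hC F [s, h])).2
    exact hz' _ (hS ▸ hV ▸ mul_mem (xg_mem_U hC hsl hsp u') (xg_mem_U hC hhl hhp v))
  have e3 : (B * V) * (S * A) = (S * A) * (B * V) * W := by
    rw [e1, e2, hW]
    calc A * B * W * (S * V) = A * B * (W * (S * V)) := by group
      _ = _ := by rw [hWc]; group
  have e4 : W = ((S * A) * (B * V))⁻¹ * ((B * V) * (S * A)) := by rw [e3]; group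
  rw [e4]
  exact mul_mem (inv_mem (mul_mem m2 m1)) (mul_mem m1 m2)

/-- **The pair of central roots in characteristic two.** -/
theorem stuck_pair [CharP F 2] {s a b : ℕ} {L₁ L₂ : List ℕ}
    (h2 : ∀ z, c.unit z = true → (z : F) = 1) (hZ : centralChk c T [s, h] = true)
    (hp : pairChk c T h s a b = true)
    (hL₁ : ∀ i ∈ L₁, i < D.rank) (hL₂ : ∀ i ∈ L₂, i < D.rank)
    (h1s : wL D L₁ s = b) (h1h : wL D L₁ h = h) (h2s : wL D L₂ s = s) (h2h : wL D L₂ h = a) :
    Stuck hC σ [s, h] := by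
  obtain ⟨hhl, hhp, hcen⟩ := h_spec hC hc hh
  have hs0 := of_allL hZ s List.mem_cons_self
  simp only [Bool.and_eq_true, Nat.blt_eq, hC.n_eq, iblt_iff] at hs0
  obtain ⟨hsl, hsp, -⟩ := hs0
  have hscen : ∀ u ∈ D.posUnipotent F, ∀ t : F, xg hC s t * u = u * xg hC s t := fun u hu t =>
    (zsub_central hC hc hZ (Subgroup.subset_closure ⟨s, List.mem_cons_self, t, rfl⟩)).2 u hu
  have hp' := hp
  simp only [pairChk, Bool.and_eq_true, Nat.blt_eq, iblt_iff, Bool.not_eq_true', hC.n_eq] at hp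
  obtain ⟨hal, hbl, hap, hbp, hba, hsa, hsb, hha, hhb, t1, t2, t3, t4, t6, t5⟩ := hp
  have nba : b ≠ a := fun e => by simp [e] at hba
  have nsa : s ≠ a := fun e => by simp [e] at hsa
  have nsb : s ≠ b := fun e => by simp [e] at hsb
  have nha : h ≠ a := fun e => by simp [e] at hha
  have nhb : h ≠ b := fun e => by simp [e] at hhb
  rw [commOf_eq hC hal hbl] at t1 t6
  rw [hC.neg_eq hbl, commOf_eq hC (hC.neg_lt hbl) hhl] at t2
  rw [hC.neg_eq hbl, commOf_eq hC (hC.neg_lt hbl) hsl] at t3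
  rw [hC.neg_eq hal, commOf_eq hC (hC.neg_lt hal) hhl] at t4
  rw [hC.neg_eq hal, commOf_eq hC (hC.neg_lt hal) hsl] at t5
  intro H hX z hz hzc
  obtain ⟨β, α, rfl⟩ := zsub_two hC hc hh hZ hz
  -- the pairs
  obtain ⟨P, hP⟩ : ∃ P : F → F → Prop, P = fun u v => xg hC s u * xg hC h v ∈ H := ⟨_, rfl⟩
  have hmk : ∀ u v, xg hC s u * xg hC h v ∈ H → P u v := fun u v hm => by rwa [hP]
  have hget : ∀ u v, P u v → xg hC s u * xg hC h v ∈ H := fun u v hm => by rwa [hP] at hm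
  have hmove : ∀ (L : List ℕ), (∀ i ∈ L, i < D.rank) → ∀ u v : F, P u v →
      xg hC (wL D L s) u * xg hC (wL D L h) v ∈ H := by
    intro L hL u v hm
    have hn : nL hC F L ∈ H := hX.fixL_le (nL_mem_fixL hC σ L)
    have := mul_mem (mul_mem hn (hget u v hm)) (inv_mem hn)
    have e : nL hC F L * (xg hC s u * xg hC h v) * (nL hC F L)⁻¹ =
        nL hC F L * xg hC s u * (nL hC F L)⁻¹ * (nL hC F L * xg hC h v * (nL hC F L)⁻¹) := by group
    rwa [e, nL_conj_one hC hL hsl, nL_conj_one hC hL hhl] at this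
  have hback : ∀ (L : List ℕ), (∀ i ∈ L, i < D.rank) → ∀ u v : F,
      xg hC (wL D L s) u * xg hC (wL D L h) v ∈ H → P u v := by
    intro L hL u v hm
    refine hmk u v ?_
    have hn : nL hC F L ∈ H := hX.fixL_le (nL_mem_fixL hC σ L)
    have := mul_mem (mul_mem (inv_mem hn) hm) hn
    rw [← nL_conj_one hC hL hsl, ← nL_conj_one hC hL hhl] at this
    simpa [mul_assoc] using this
  have pair_comm : ∀ u v u' v', P u v → P u' v' → P (v' * u) (v' * u ^ 2) :=
    fun u v u' v' hp1 hp2 => hmk _ _ (pair_step hC σ hc hh h2 hZ hp' hL₁ hL₂ h1s h1h h2s h2h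
      hX.fixL_le (hget u v hp1) (hget u' v' hp2))
  have pone : P 1 0 := hmk 1 0 (by
    rw [xg_zero hC, mul_one]; exact hX.fixL_le (xg_mem_fixL hC σ s (map_one σ)))
  have hone : P 0 1 := hmk 0 1 (by
    rw [xg_zero hC, one_mul]; exact hX.fixL_le (xg_mem_fixL hC σ h (map_one σ)))
  have padd : ∀ u v u' v', P u v → P u' v' → P (u + u') (v + v') := by
    intro u v u' v' h1 h2'
    refine hmk _ _ ?_
    have := mul_mem (hget u v h1) (hget u' v' h2')
    have e : xg hC s u * xg hC h v * (xg hC s u' * xg hC h v') =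
        xg hC s (u + u') * xg hC h (v + v') := by
      rw [xg_add hC, xg_add hC]
      calc xg hC s u * xg hC h v * (xg hC s u' * xg hC h v')
          = xg hC s u * (xg hC h v * xg hC s u') * xg hC h v' := by group
        _ = xg hC s u * (xg hC s u' * xg hC h v) * xg hC h v' := by
          rw [hcen _ (xg_mem_U hC hsl hsp u') v]
        _ = _ := by group
    rwa [e] at this
  have pfix1 : ∀ v, P 0 v → σ v = v := fun v hv => by
    have := hget 0 v hv
    rw [xg_zero hC, one_mul] at this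
    exact hX.param h hhl v this
  have two0 : ∀ x : F, x + x = 0 := fun x => CharTwo.add_self_eq_zero x
  -- a diagonal pair is fixed
  have quad : ∀ A, P A A → σ A = A := by
    intro A hA
    have q1 := pair_comm A A 0 1 hA hone
    rw [one_mul, one_mul] at q1
    have q2 := padd _ _ _ _ hA q1
    rw [two0] at q2
    have hc0 : σ (A + A ^ 2) = A + A ^ 2 := pfix1 _ q2
    obtain ⟨c₀, hc₀⟩ : ∃ c₀, c₀ = A + A ^ 2 := ⟨_, rfl⟩
    rw [← hc₀] at hc0
    have hA2 : A ^ 2 = A + c₀ := by rw [hc₀, ← add_assoc, two0, zero_add]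
    have q3 := padd _ _ _ _ hA (pair_comm A A A A hA hA)
    have hcm : P c₀ 0 := hmk _ _ (by
      rw [xg_zero hC, mul_one]; exact hX.fixL_le (xg_mem_fixL hC σ s hc0))
    have q4 := padd _ _ _ _ q3 hcm
    have e1 : A + A * A + c₀ = 0 := by
      rw [← pow_two, hA2, ← add_assoc, two0, zero_add, two0]
    have e2 : A + A * A ^ 2 + 0 = c₀ + c₀ * A := by
      rw [add_zero, hA2, mul_add, ← pow_two, hA2, ← add_assoc, ← add_assoc, two0, zero_add, mul_comm A]
    rw [e1, e2] at q4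
    have hprod := pfix1 _ q4
    rcases eq_or_ne c₀ 0 with h0 | h0
    · rw [h0, add_zero] at hA2
      rcases eq_or_ne A 0 with rfl | hA0
      · exact map_zero σ
      · have : A = 1 := mul_left_cancel₀ hA0 (by rw [← pow_two, hA2, mul_one])
        rw [this]; exact map_one σ
    · rw [map_add, map_mul, hc0] at hprod
      exact mul_left_cancel₀ h0 (add_left_cancel hprod)
  -- the two derived pairs
  have hzU : xg hC s β * xg hC h α ∈ D.posUnipotent F :=
    mul_mem (xg_mem_U hC hsl hsp β) (xg_mem_U hC hhl hhp α)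
  have hSH : ∀ u v : F, xg hC s u * xg hC h v = xg hC h v * xg hC s u := fun u v =>
    hscen _ (xg_mem_U hC hhl hhp v) u
  have hderive : ∀ {d r r' : ℕ}, d < D.nroots → 0 < T.phi d → r < D.nroots → 0 < T.phi r → r ≠ d →
      r' < D.nroots → 0 < T.phi r' → r' ≠ d → zeroAll c (D.commTerms (D.neg d) r') = true →
      ∀ t t' : F, xg hC r t * xg hC r' t' = xg hC s β * xg hC h α →
      ((D.commWord F (D.neg d) r 1 t).map fun p => xg hC p.1 p.2).prod ∈ D.posUnipotent F →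
      (∀ u ∈ D.posUnipotent F, xg hC r t * u = u * xg hC r t) →
      ((D.commWord F (D.neg d) r 1 t).map fun p => xg hC p.1 p.2).prod ∈ H := by
    intro d r r' hd hdp hr hrp hrd hr' hr'p hr'd hzero t t' heq hU hcm
    obtain ⟨W, hW⟩ : ∃ W, W = ((D.commWord F (D.neg d) r 1 t).map fun p => xg hC p.1 p.2).prod :=
      ⟨_, rfl⟩
    rw [← hW] at hU ⊢
    obtain ⟨X, hXd⟩ : ∃ X : GL D.Idx F, X = xg hC (D.neg d) 1 := ⟨_, rfl⟩
    have hXL : X ∈ fixL hC σ := hXd ▸ xg_mem_fixL hC σ _ (map_one σ)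
    have hr'X : xg hC r' t' * X = X * xg hC r' t' := by
      rw [hXd, conj_neg_word hC hd hdp hr' hr'p hr'd t', word_one hC hc hzero, mul_one]
    have h1 := hzc X hXL
    rw [← heq] at h1
    have e1 : xg hC r t * xg hC r' t' * X * (xg hC r t * xg hC r' t')⁻¹ =
        xg hC r t * X * (xg hC r t)⁻¹ := by
      calc _ = xg hC r t * (xg hC r' t' * X * (xg hC r' t')⁻¹) * (xg hC r t)⁻¹ := by group
        _ = _ := by rw [hr'X, mul_inv_cancel_right]
    rw [e1, hXd, conj_neg_word hC hd hdp hr hrp hrd t, ← hW, mul_assoc (_ * xg hC r t) W,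
      show W * (xg hC r t)⁻¹ = (xg hC r t)⁻¹ * W by
        rw [eq_inv_mul_iff_mul_eq, ← mul_assoc, hcm W hU, mul_inv_cancel_right]] at h1
    have := mul_mem (inv_mem (hX.fixL_le hXL)) h1
    rw [hXd] at this
    simpa [mul_assoc] using this
  have hw1 : ((D.commWord F (D.neg b) h 1 α).map fun p => xg hC p.1 p.2).prod =
      xg hC s α * xg hC a α := by
    rw [word_two hC (fun u v => hscen _ (xg_mem_U hC hal hap v) u) h2 t2 1 α (Or.inl rfl),
      pow_one, one_mul]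
  have hd1 := hderive hbl hbp hhl hhp nhb hsl hsp nsb t3 α β (hSH β α).symm
    (hw1 ▸ mul_mem (xg_mem_U hC hsl hsp α) (xg_mem_U hC hal hap α)) (fun u hu => hcen u hu α)
  rw [hw1] at hd1
  have pa : P α α := hback L₂ hL₂ α α (by rw [h2s, h2h]; exact hd1)
  have hw2 : ((D.commWord F (D.neg a) s 1 β).map fun p => xg hC p.1 p.2).prod =
      xg hC b β * xg hC h (β ^ 2) := by
    rw [word_two hC (fun u v => (hcen _ (xg_mem_U hC hbl hbp u) v).symm) h2 t5 1 β (Or.inl rfl),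
      pow_one, one_mul, one_mul]
  have hd2 := hderive hal hap hsl hsp nsa hhl hhp nha t4 β α rfl
    (hw2 ▸ mul_mem (xg_mem_U hC hbl hbp β) (xg_mem_U hC hhl hhp (β ^ 2))) (fun u hu => hscen u hu β)
  rw [hw2] at hd2
  have pb : P β (β ^ 2) := hback L₁ hL₁ β (β ^ 2) (by rw [h1s, h1h]; exact hd2)
  have hb2 := pair_comm 1 0 β (β ^ 2) pone pb
  rw [one_pow, mul_one] at hb2
  have hβ2 := quad _ hb2
  have hβ : σ β = β := by
    rw [map_pow] at hβ2
    have h0 : (σ β + β) * (σ β + β) = 0 := by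
      have e : (σ β + β) * (σ β + β) = σ β ^ 2 + β ^ 2 + (σ β * β + σ β * β) := by ring
      rw [e, hβ2, two0, two0, add_zero]
    exact CharTwo.add_eq_zero.1 (mul_self_eq_zero.1 h0)
  exact Fixed.mul σ (fixed_xg hC σ hβ) (fixed_xg hC σ (quad α pa))

end Cfsg.Agent.SimpleFacts.SubfieldOvergroup
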