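import Cfsg.Agent.SimpleFacts.SubfieldOvergroup.Odd

/-!
The central roots: products of their root elements conjugating `fixL` into the subgroup are fixed.
-/

set_option autoImplicit false

namespace Cfsg.Agent.SimpleFacts.SubfieldOvergroup

open Cfsg.Lie Cfsg.Agent.Chevalley.Table Cfsg.Agent.Chevalley.Check Cfsg.Agent.Chevalley.Cert
  Cfsg.Agent.Chevalley.Eval Cfsg.Agent.Chevalley.Perfect
  Cfsg.Agent.Chevalley.Group Cfsg.Agent.Chevalley.Borel Cfsg.Agent.Chevalley.Unip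
  Cfsg.Agent.Chevalley.Weyl Cfsg.Agent.Chevalley.Relations
  Cfsg.Agent.Chevalley.FieldAut Cfsg.Agent.SimpleFacts.ChevalleySubfield
  Cfsg.Agent.SimpleFacts.ChevalleyRadical

/-- Two terms, in either order, with unit constants and prescribed degrees in the second parameter. -/
def twoTerms (c : Cls) (L : List Trm) (a i b j : ℕ) : Bool :=
  match L with
  | [x, y] => c.unit x.2.1 && (c.unit y.2.1 &&
      ((Nat.beq x.1 a && (Nat.beq x.2.2.2 i && (Nat.beq y.1 b && Nat.beq y.2.2.2 j))) ||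
        (Nat.beq x.1 b && (Nat.beq x.2.2.2 j && (Nat.beq y.1 a && Nat.beq y.2.2.2 i)))))
  | _ => false

/-- A commutator of `x_h` with a root element is a single root element, linearly. -/
noncomputable def singleChkH (c : Cls) (T : Tab) (h d : ℕ) : Bool :=
  Nat.blt d T.n && (iblt 0 (T.phi d) && (!Nat.beq h d && List.rec false
    (fun x L _ => List.isEmpty L && (c.unit x.2.1 && (Nat.beq x.2.2.2 1 && iblt 0 (T.phi x.1))))
    (commOf T.E (T.neg d) h)))

/-- A commutator with two terms separated by `h_e(-1)`. -/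
noncomputable def sepChk (c : Cls) (T : Tab) (h d e : ℕ) : Bool :=
  Nat.blt d T.n && (iblt 0 (T.phi d) && (!Nat.beq h d && (Nat.blt e T.n &&
    List.rec false (fun x L _ => List.rec false (fun y M _ => List.isEmpty M &&
      (c.unit x.2.1 && (Nat.beq x.2.2.2 1 && (iblt 0 (T.phi x.1) && (iblt 0 (T.phi y.1) &&
        (Nat.beq ((pairT T e x.1).natAbs % 2) 1 && Nat.beq ((pairT T e y.1).natAbs % 2) 0)))))) L)
      (commOf T.E (T.neg d) h))))

/-- The data of the pair of central roots in characteristic two. -/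
noncomputable def pairChk (c : Cls) (T : Tab) (h s a b : ℕ) : Bool :=
  Nat.blt a T.n && (Nat.blt b T.n && (iblt 0 (T.phi a) && (iblt 0 (T.phi b) &&
  (!Nat.beq b a && (!Nat.beq s a && (!Nat.beq s b && (!Nat.beq h a && (!Nat.beq h b &&
  (twoTerms c (commOf T.E a b) s 1 h 2 &&
  (twoTerms c (commOf T.E (T.neg b) h) s 1 a 1 &&
  (zeroAll c (commOf T.E (T.neg b) s) &&
  (zeroAll c (commOf T.E (T.neg a) h) &&
  (allL (fun x => Nat.beq x.2.2.1 1) (commOf T.E a b) &&
    twoTerms c (commOf T.E (T.neg a) s) b 1 h 2)))))))))))))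

variable {D : ChevalleyDatum} {F : Type*} [Field F] {T : Tab} (hC : Certified D T) (σ : F →+* F)
include hC

omit hC in
theorem commute_of_mem_closure {S : Set (GL D.Idx F)} {z g : GL D.Idx F}
    (h : ∀ x ∈ S, g * x = x * g) (hz : z ∈ Subgroup.closure S) : g * z = z * g := by
  have hle : Subgroup.closure S ≤ Subgroup.centralizer {g} := by
    rw [Subgroup.closure_le]
    intro x hx
    rw [SetLike.mem_coe, Subgroup.mem_centralizer_singleton_iff]
    exact (h x hx).symm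
  exact (Subgroup.mem_centralizer_singleton_iff.1 (hle hz)).symm

theorem zsub_one {h : ℕ} {z : GL D.Idx F} (hz : z ∈ Zsub hC F [h]) : ∃ a : F, z = xg hC h a := by
  induction hz using Subgroup.closure_induction with
  | mem g hg =>
    obtain ⟨k, hk, t, rfl⟩ := hg
    rw [List.mem_singleton] at hk
    exact ⟨t, by rw [hk]⟩
  | one => exact ⟨0, (xg_zero hC h).symm⟩
  | mul x y _ _ ihx ihy =>
    obtain ⟨a, rfl⟩ := ihx
    obtain ⟨b, rfl⟩ := ihy
    exact ⟨a + b, (xg_add hC h a b).symm⟩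
  | inv x _ ih =>
    obtain ⟨a, rfl⟩ := ih
    exact ⟨-a, xg_inv hC h a⟩

variable {c : Cls} (hc : c.Sound F) {h : ℕ} (hh : centralChk c T [h] = true)
include hc hh

theorem zsub_two {s : ℕ} (hs : centralChk c T [s, h] = true) {z : GL D.Idx F}
    (hz : z ∈ Zsub hC F [s, h]) : ∃ b a : F, z = xg hC s b * xg hC h a := by
  obtain ⟨hhl, hhp, hcen⟩ := h_spec hC hc hh
  have hs0 := of_allL hs s List.mem_cons_self
  simp only [Bool.and_eq_true, Nat.blt_eq, hC.n_eq, iblt_iff] at hs0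
  induction hz using Subgroup.closure_induction with
  | mem g hg =>
    obtain ⟨k, hk, t, rfl⟩ := hg
    rcases List.mem_cons.1 hk with rfl | hk
    · exact ⟨t, 0, by rw [xg_zero hC, mul_one]⟩
    · rw [List.mem_singleton] at hk
      exact ⟨0, t, by rw [hk, xg_zero hC, one_mul]⟩
  | one => exact ⟨0, 0, by rw [xg_zero hC, xg_zero hC, one_mul]⟩
  | mul x y _ _ ihx ihy =>
    obtain ⟨b, a, rfl⟩ := ihx
    obtain ⟨b', a', rfl⟩ := ihy
    refine ⟨b + b', a + a', ?_⟩
    rw [xg_add hC, xg_add hC]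
    calc xg hC s b * xg hC h a * (xg hC s b' * xg hC h a')
        = xg hC s b * (xg hC h a * xg hC s b') * xg hC h a' := by group
      _ = xg hC s b * (xg hC s b' * xg hC h a) * xg hC h a' := by
        rw [hcen _ (xg_mem_U hC hs0.1 hs0.2.1 b') a]
      _ = _ := by group
  | inv x _ ih =>
    obtain ⟨b, a, rfl⟩ := ih
    refine ⟨-b, -a, ?_⟩
    rw [mul_inv_rev, xg_inv hC, xg_inv hC]
    exact hcen _ (xg_mem_U hC hs0.1 hs0.2.1 (-b)) (-a)

omit hc hh in
theorem conj_neg_word {d : ℕ} (hd : d < D.nroots) (hdp : 0 < T.phi d) {r : ℕ} (hr : r < D.nroots)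
    (hrp : 0 < T.phi r) (hne : r ≠ d) (t : F) :
    xg hC r t * xg hC (D.neg d) 1 = xg hC (D.neg d) 1 * xg hC r t *
      ((D.commWord F (D.neg d) r 1 t).map fun p => xg hC p.1 p.2).prod :=
  xg_comm hC (hC.neg_lt hd) hr (fun e => by rw [e, hC.phi_neg hd] at hrp; omega)
    (by rw [hC.neg_neg hd]; exact hne) 1 t

omit hc hh in
/-- If `z` is central in `U`, its commutator with a root element of `fixL` is in the subgroup. -/
theorem word_mem {H : Subgroup (GL D.Idx F)} (hX : Ctx hC σ H) {d r : ℕ} (hd : d < D.nroots)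
    (hdp : 0 < T.phi d) (hr : r < D.nroots) (hrp : 0 < T.phi r) (hne : r ≠ d) (t : F)
    (hU : ((D.commWord F (D.neg d) r 1 t).map fun p => xg hC p.1 p.2).prod ∈ D.posUnipotent F)
    (hcomm : ∀ u ∈ D.posUnipotent F, xg hC r t * u = u * xg hC r t)
    (hz : Conjs hC σ H (xg hC r t)) :
    ((D.commWord F (D.neg d) r 1 t).map fun p => xg hC p.1 p.2).prod ∈ H := by
  obtain ⟨W, hW⟩ : ∃ W, W = ((D.commWord F (D.neg d) r 1 t).map fun p => xg hC p.1 p.2).prod :=
    ⟨_, rfl⟩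
  rw [← hW] at hU ⊢
  obtain ⟨X, hXd⟩ : ∃ X : GL D.Idx F, X = xg hC (D.neg d) 1 := ⟨_, rfl⟩
  have hXL : X ∈ fixL hC σ := hXd ▸ xg_mem_fixL hC σ _ (map_one σ)
  have e : W = X⁻¹ * (xg hC r t * X * (xg hC r t)⁻¹) := by
    rw [hXd, conj_neg_word hC hd hdp hr hrp hne t, ← hW, mul_assoc (_ * xg hC r t) W,
      show W * (xg hC r t)⁻¹ = (xg hC r t)⁻¹ * W by
        rw [eq_inv_mul_iff_mul_eq, ← mul_assoc, hcomm W hU, mul_inv_cancel_right]]
    group
  rw [e]
  exact mul_mem (inv_mem (hX.fixL_le hXL)) (hz X hXL)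

/-- The highest root, when a commutator with it is a single root element. -/
theorem stuck_single {d : ℕ} (hs : singleChkH c T h d = true) : Stuck hC σ [h] := by
  obtain ⟨hhl, hhp, hcen⟩ := h_spec hC hc hh
  simp only [singleChkH, Bool.and_eq_true, Nat.blt_eq, Bool.not_eq_true', iblt_iff, hC.n_eq] at hs
  obtain ⟨hd, hdp, hdh, hrec⟩ := hs
  have hne : h ≠ d := fun e => by simp [e] at hdh
  rw [hC.neg_eq hd, commOf_eq hC (hC.neg_lt hd) hhl] at hrec
  obtain ⟨x, hL⟩ : ∃ x, D.commTerms (D.neg d) h = [x] := by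
    cases hcs : D.commTerms (D.neg d) h with
    | nil => rw [hcs] at hrec; simp at hrec
    | cons x L =>
      rw [hcs] at hrec
      simp only [Bool.and_eq_true, List.isEmpty_iff] at hrec
      exact ⟨x, by rw [hrec.1]⟩
  rw [hL] at hrec
  simp only [List.isEmpty_nil, Bool.true_and, Bool.and_eq_true, Nat.beq_eq, iblt_iff] at hrec
  obtain ⟨hxu, hxj, hxp⟩ := hrec
  have hxl : x.1 < D.nroots :=
    (commTerms_phi hC (hC.neg_lt hd) hhl x (by rw [hL]; exact List.mem_cons_self)).1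
  intro H hX z hz hzc
  obtain ⟨a, rfl⟩ := zsub_one hC hz
  have hword : ((D.commWord F (D.neg d) h 1 a).map fun p => xg hC p.1 p.2).prod =
      xg hC x.1 ((x.2.1 : F) * (-1) ^ x.2.2.1 * a) := by
    simp [ChevalleyDatum.commWord, hL, hxj]
  have hU : xg hC x.1 ((x.2.1 : F) * (-1) ^ x.2.2.1 * a) ∈ D.posUnipotent F :=
    xg_mem_U hC hxl hxp _
  have h1 := word_mem hC σ hX hd hdp hhl hhp hne a (hword ▸ hU) (fun u hu => hcen u hu a) hzc
  rw [hword] at h1
  have h2 := hX.param _ hxl _ h1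
  rw [map_mul, map_mul, map_intCast, map_pow, map_neg, map_one] at h2
  exact fixed_xg hC σ (mul_left_cancel₀
    (mul_ne_zero (hc.unit_ne _ hxu) (pow_ne_zero _ (neg_ne_zero.2 one_ne_zero))) h2)

omit hc hh in
theorem hg_minus_fixL_mem {H : Subgroup (GL D.Idx F)} (hX : Ctx hC σ H) (e : ℕ) :
    hg hC e (-1 : F) ∈ H := by
  refine hX.fixL_le (mul_mem ?_ ?_) <;>
    exact mul_mem (mul_mem (xg_mem_fixL hC σ e (by simp)) (xg_mem_fixL hC σ _ (by simp)))
      (xg_mem_fixL hC σ e (by simp))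

omit hc hh in
theorem hg_minus_parity {e r : ℕ} (he : e < D.nroots) (hr : r < D.nroots) (t : F) :
    hg hC e (-1 : F) * xg hC r t * (hg hC e (-1 : F))⁻¹ =
      xg hC r ((if (pairT T e r).natAbs % 2 = 0 then 1 else -1) * t) := by
  have e' : (-1 : F) = ((-1 : Fˣ) : F) := by simp
  rw [e', hg_eq_tor hC he, tor_conj_x hC _ r t hr, torChar_pow hC, Units.val_zpow_eq_zpow_val,
    ← e', pairT_eq hC he hr]
  congr 2
  split_ifs with h2
  · exact (Int.natAbs_even.1 (Nat.even_iff.2 h2)).neg_one_zpow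
  · exact (Int.not_even_iff_odd.1 fun h3 =>
      h2 (Nat.even_iff.1 (Int.natAbs_even.2 h3))).neg_one_zpow

/-- The highest root, when two commutator terms are separated by a torus element. -/
theorem stuck_sep {d e : ℕ} (hs : sepChk c T h d e = true) (h2 : (2 : F) ≠ 0) :
    Stuck hC σ [h] := by
  obtain ⟨hhl, hhp, hcen⟩ := h_spec hC hc hh
  simp only [sepChk, Bool.and_eq_true, Nat.blt_eq, Bool.not_eq_true', iblt_iff, hC.n_eq] at hs
  obtain ⟨hd, hdp, hdh, he, hrec⟩ := hs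
  have hne : h ≠ d := fun e => by simp [e] at hdh
  rw [hC.neg_eq hd, commOf_eq hC (hC.neg_lt hd) hhl] at hrec
  obtain ⟨x, y, hL⟩ : ∃ x y, D.commTerms (D.neg d) h = [x, y] := by
    rcases hcs : D.commTerms (D.neg d) h with _ | ⟨x, _ | ⟨y, M⟩⟩ <;> rw [hcs] at hrec
    · simp at hrec
    · simp at hrec
    · simp only [Bool.and_eq_true, List.isEmpty_iff] at hrec
      exact ⟨x, y, by rw [hrec.1]⟩
  rw [hL] at hrec
  simp only [List.isEmpty_nil, Bool.true_and, Bool.and_eq_true, Nat.beq_eq, iblt_iff] at hrec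
  obtain ⟨hxu, hxj, hxp, hyp, hxe, hye⟩ := hrec
  have hxl : x.1 < D.nroots :=
    (commTerms_phi hC (hC.neg_lt hd) hhl x (by rw [hL]; exact List.mem_cons_self)).1
  have hyl : y.1 < D.nroots :=
    (commTerms_phi hC (hC.neg_lt hd) hhl y (by rw [hL]; simp)).1
  intro H hX z hz hzc
  obtain ⟨a, rfl⟩ := zsub_one hC hz
  obtain ⟨v, hv⟩ : ∃ v, v = (x.2.1 : F) * (-1) ^ x.2.2.1 * a := ⟨_, rfl⟩
  obtain ⟨w, hw⟩ : ∃ w, w = (y.2.1 : F) * (-1) ^ y.2.2.1 * a ^ y.2.2.2 := ⟨_, rfl⟩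
  have hword : ((D.commWord F (D.neg d) h 1 a).map fun p => xg hC p.1 p.2).prod =
      xg hC x.1 v * xg hC y.1 w := by
    simp [ChevalleyDatum.commWord, hL, hxj, hv, hw]
  have h1 := word_mem hC σ hX hd hdp hhl hhp hne a
    (hword ▸ mul_mem (xg_mem_U hC hxl hxp _) (xg_mem_U hC hyl hyp _)) (fun u hu => hcen u hu a) hzc
  rw [hword] at h1
  obtain ⟨E, hE⟩ : ∃ E, E = hg hC e (-1 : F) := ⟨_, rfl⟩
  have hEH : E ∈ H := hE ▸ hg_minus_fixL_mem hC σ hX e
  have ex : E * xg hC x.1 v * E⁻¹ = xg hC x.1 (-v) := by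
    rw [hE, hg_minus_parity hC he hxl, if_neg (by omega), neg_one_mul]
  have ey : E * xg hC y.1 w * E⁻¹ = xg hC y.1 w := by
    rw [hE, hg_minus_parity hC he hyl, if_pos hye, one_mul]
  have h3 : xg hC x.1 (v + v) ∈ H := by
    have h4 := mul_mem h1 (mul_mem (mul_mem hEH (inv_mem h1)) (inv_mem hEH))
    have e1 : xg hC x.1 v * xg hC y.1 w * (E * (xg hC x.1 v * xg hC y.1 w)⁻¹ * E⁻¹) =
        xg hC x.1 v * (xg hC y.1 w * (E * xg hC y.1 w * E⁻¹)⁻¹) * (E * xg hC x.1 v * E⁻¹)⁻¹ := by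
      group
    rw [e1, ex, ey, mul_inv_cancel, mul_one, xg_inv hC, neg_neg, ← xg_add hC] at h4
    exact h4
  have h5 := hX.param _ hxl _ h3
  rw [map_add, ← two_mul, ← two_mul] at h5
  have h6 := mul_left_cancel₀ h2 h5
  rw [hv, map_mul, map_mul, map_intCast, map_pow, map_neg, map_one] at h6
  exact fixed_xg hC σ (mul_left_cancel₀
    (mul_ne_zero (hc.unit_ne _ hxu) (pow_ne_zero _ (neg_ne_zero.2 one_ne_zero))) h6)

/-- Two central roots separated by a torus element. -/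
theorem stuck_two {s e : ℕ} (hZ : centralChk c T [s, h] = true) (he : e < D.nroots)
    (hes : Nat.beq ((pairT T e s).natAbs % 2) 1 = true)
    (heh : Nat.beq ((pairT T e h).natAbs % 2) 0 = true) (h2 : (2 : F) ≠ 0)
    (hst : Stuck hC σ [h]) : Stuck hC σ [s, h] := by
  obtain ⟨hhl, hhp, hcen⟩ := h_spec hC hc hh
  have hs0 := of_allL hZ s List.mem_cons_self
  simp only [Bool.and_eq_true, Nat.blt_eq, hC.n_eq, iblt_iff] at hs0
  rw [Nat.beq_eq] at hes heh
  intro H hX z hz hzc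
  obtain ⟨b, a, rfl⟩ := zsub_two hC hc hh hZ hz
  obtain ⟨E, hE⟩ : ∃ E, E = hg hC e (-1 : F) := ⟨_, rfl⟩
  have hEL : E ∈ fixL hC σ := by
    rw [hE]
    refine mul_mem ?_ ?_ <;>
      exact mul_mem (mul_mem (xg_mem_fixL hC σ e (by simp)) (xg_mem_fixL hC σ _ (by simp)))
        (xg_mem_fixL hC σ e (by simp))
  have h1 := mul_mem (hzc E hEL) (inv_mem (hX.fixL_le hEL))
  have es : E * xg hC s b * E⁻¹ = xg hC s (-b) := by
    rw [hE, hg_minus_parity hC he hs0.1, if_neg (by omega), neg_one_mul]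
  have eh : E * xg hC h a * E⁻¹ = xg hC h a := by
    rw [hE, hg_minus_parity hC he hhl, if_pos heh, one_mul]
  have e1 : xg hC s b * xg hC h a * E * (xg hC s b * xg hC h a)⁻¹ * E⁻¹ =
      xg hC s b * (xg hC h a * (E * xg hC h a * E⁻¹)⁻¹) * (E * xg hC s b * E⁻¹)⁻¹ := by group
  rw [e1, es, eh, mul_inv_cancel, mul_one, xg_inv hC, neg_neg, ← xg_add hC] at h1
  have h3 := hX.param _ hs0.1 _ h1
  rw [map_add, ← two_mul, ← two_mul] at h3
  have hb := mul_left_cancel₀ h2 h3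
  have hbL := xg_mem_fixL hC σ s hb
  refine Fixed.mul σ (fixed_xg hC σ hb)
    (hst H hX _ (Subgroup.subset_closure ⟨h, List.mem_cons_self, a, rfl⟩) fun y hy => ?_)
  have := mul_mem (mul_mem (inv_mem (hX.fixL_le hbL)) (hzc y hy)) (hX.fixL_le hbL)
  simpa [mul_assoc] using this

omit hc hh in
theorem nL_conj_one [CharP F 2] : ∀ {L : List ℕ}, (∀ i ∈ L, i < D.rank) → ∀ {r : ℕ}, r < D.nroots →
    ∀ t : F, nL hC F L * xg hC r t * (nL hC F L)⁻¹ = xg hC (wL D L r) t
  | [], _, r, _, t => by simp [nL, wL]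
  | i :: L, hL, r, hr, t => by
    have hL' : ∀ j ∈ L, j < D.rank := fun j hj => hL j (List.mem_cons_of_mem i hj)
    have hi := hL i List.mem_cons_self
    have e1 : nL hC F (i :: L) = ng hC (D.simple i) 1 * nL hC F L := by simp [nL]
    have e2 : (T.eta i (wL D L r) : F) = 1 := by
      rcases Certified.eta_cases (T := T) i (wL D L r) with e | e <;> simp [e, CharTwo.neg_eq]
    rw [e1, mul_inv_rev]
    calc _ = ng hC (D.simple i) 1 * (nL hC F L * xg hC r t * (nL hC F L)⁻¹) *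
          (ng hC (D.simple i) (1 : F))⁻¹ := by simp only [mul_assoc]
      _ = _ := by
        rw [nL_conj_one hL' hr, ng_conj_x hC hi (wL_lt hC hL' hr), e2, one_mul]; rfl

omit hc hh in
/-- In characteristic two a word with two terms. -/
theorem word_two [CharP F 2] {r s a i b j : ℕ}
    (hab : ∀ u v : F, xg hC a u * xg hC b v = xg hC b v * xg hC a u)
    (h2 : ∀ z, c.unit z = true → (z : F) = 1) (ht : twoTerms c (D.commTerms r s) a i b j = true)
    (t u : F) (hdeg : t = 1 ∨ ∀ x ∈ D.commTerms r s, x.2.2.1 = 1) :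
    ((D.commWord F r s t u).map fun p => xg hC p.1 p.2).prod =
      xg hC a (t * u ^ i) * xg hC b (t * u ^ j) := by
  obtain ⟨x, y, hL⟩ : ∃ x y, D.commTerms r s = [x, y] := by
    rcases hcs : D.commTerms r s with _ | ⟨x, _ | ⟨y, _ | ⟨w, M⟩⟩⟩ <;> rw [hcs] at ht <;>
      simp [twoTerms] at ht ⊢
  rw [hL] at ht hdeg
  simp only [twoTerms, Bool.and_eq_true, Bool.or_eq_true, Nat.beq_eq] at ht
  obtain ⟨hx, hy, h⟩ := ht
  have hval : ∀ z ∈ [x, y], c.unit z.2.1 = true →
      (z.2.1 : F) * (-t) ^ z.2.2.1 * u ^ z.2.2.2 = t * u ^ z.2.2.2 := by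
    intro z hz hzu
    rw [h2 _ hzu, one_mul, CharTwo.neg_eq]
    rcases hdeg with rfl | hdeg
    · rw [one_pow]
    · rw [hdeg z hz, pow_one]
  simp only [ChevalleyDatum.commWord, hL, List.map_cons, List.map_nil, List.prod_cons, List.prod_nil,
    mul_one]
  rw [hval x List.mem_cons_self hx, hval y (List.mem_cons_of_mem _ List.mem_cons_self) hy]
  rcases h with ⟨h1, h1', h3, h3'⟩ | ⟨h1, h1', h3, h3'⟩
  · rw [h1, h1', h3, h3']
  · rw [h1, h1', h3, h3', hab]

end Cfsg.Agent.SimpleFacts.SubfieldOvergroup
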